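import Cfsg.Agent.SUShort.Inject

/-!
# Families of local copies of `SU` on at most four coordinates

A family `κ` of sections on the coordinate subgroups of at most four coordinates, compatible under
inclusion and commuting on disjoint sets, is injective on more coordinates as soon as one slide
condition holds.
-/

set_option autoImplicit false

namespace Cfsg.Agent.SUShort

open Matrix Classical.Herm Cfsg.Agent.AutPSU

variable {n q : ℕ} {F : Type*} [Field F] [Fintype F] {σ : F →+* F} (hu : UCtx σ q)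

/-- A family of local sections. -/
structure Loc {P : Type*} [Group P] (ρ : P →* Su n F q) where
  /-- the sections -/
  κ : ∀ S : Finset (Fin n), ↥(sub (q := q) (F := F) S) →* P
  proj : ∀ S, S.card ≤ 4 → ∀ g, ρ (κ S g) = g
  mono : ∀ (S S' : Finset (Fin n)) (h : S ⊆ S'), S'.card ≤ 4 → ∀ g,
    κ S' (Subgroup.inclusion (sub_mono h) g) = κ S g
  far : ∀ (S S' : Finset (Fin n)), Disjoint S S' → S.card ≤ 3 → S'.card ≤ 3 →
    ∀ g g', Commute (κ S g) (κ S' g')

variable {P : Type*} [Group P] {ρ : P →* Su n F q}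

/-- The subgroup generated by the sections on subsets. -/
def Loc.LT (L : Loc ρ) (T : Finset (Fin n)) : Subgroup P :=
  Subgroup.closure {x | ∃ (S : Finset (Fin n)) (g : ↥(sub (q := q) (F := F) S)),
    S ⊆ T ∧ S.card ≤ 4 ∧ x = L.κ S g}

theorem Loc.mem_LT (L : Loc ρ) {T S : Finset (Fin n)} (h : S ⊆ T) (h4 : S.card ≤ 4)
    (g : ↥(sub (q := q) (F := F) S)) : L.κ S g ∈ L.LT T :=
  Subgroup.subset_closure ⟨S, g, h, h4, rfl⟩

theorem Loc.LT_mono (L : Loc ρ) {T T' : Finset (Fin n)} (h : T ⊆ T') : L.LT T ≤ L.LT T' :=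
  Subgroup.closure_mono fun _ ⟨S, g, hS, h4, e⟩ => ⟨S, g, hS.trans h, h4, e⟩

theorem Loc.ρ_LT (L : Loc ρ) {T : Finset (Fin n)} {x : P} (hx : x ∈ L.LT T) : ρ x ∈ sub T := by
  refine (show L.LT T ≤ (sub T).comap ρ from (Subgroup.closure_le _).2 ?_) hx
  rintro _ ⟨S, g, hS, h4, rfl⟩
  show ρ (L.κ S g) ∈ sub T
  rw [L.proj S h4]
  exact sub_mono hS g.2

/-- Injectivity on a set of coordinates. -/
def Loc.Inj (L : Loc ρ) (T : Finset (Fin n)) : Prop := ∀ x ∈ L.LT T, ρ x = 1 → x = 1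

theorem Loc.Inj.ext {L : Loc ρ} {T : Finset (Fin n)} (h : L.Inj T) {x y : P} (hx : x ∈ L.LT T)
    (hy : y ∈ L.LT T) (e : ρ x = ρ y) : x = y :=
  mul_inv_eq_one.1 (h _ (mul_mem hx (inv_mem hy)) (by rw [map_mul, map_inv, e, mul_inv_cancel]))

theorem Loc.inj_small (L : Loc ρ) {T : Finset (Fin n)} (h : T.card ≤ 4) : L.Inj T := by
  have hle : L.LT T ≤ (L.κ T).range := by
    refine (Subgroup.closure_le _).2 ?_
    rintro _ ⟨S, g, hS, -, rfl⟩
    exact ⟨_, L.mono S T hS h g⟩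
  intro x hx e
  obtain ⟨g, rfl⟩ := hle hx
  rw [L.proj T h] at e
  rw [show g = 1 from Subtype.ext e, map_one]

include hu

/-- Coordinate subgroups are generated by those on three coordinates through a fixed pair. -/
theorem sub_le_of_triples {a b : Fin n} (hab : a ≠ b) :
    ∀ (T : Finset (Fin n)), a ∈ T → b ∈ T → 3 ≤ T.card → ∀ H : Subgroup (Su n F q),
      (∀ i ∈ T, i ≠ a → i ≠ b → sub {a, b, i} ≤ H) → sub T ≤ H := by
  intro T
  induction T using Finset.strongInduction with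
  | _ T ih =>
  intro ha hb h3 H hH
  obtain ⟨w, hw⟩ : ((T.erase a).erase b).Nonempty := by
    rw [← Finset.card_pos, Finset.card_erase_of_mem (Finset.mem_erase.2 ⟨hab.symm, hb⟩),
      Finset.card_erase_of_mem ha]
    omega
  simp only [Finset.mem_erase] at hw
  obtain ⟨hwb, hwa, hwT⟩ := hw
  have hP3 : sub {a, b, w} ≤ H := hH w hwT hwa hwb
  by_cases h4 : T.card = 3
  · refine le_trans (sub_mono ?_) hP3
    refine (Finset.eq_of_subset_of_card_le (s := {a, b, w}) ?_ ?_).ge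
    · intro i hi
      simp only [Finset.mem_insert, Finset.mem_singleton] at hi
      rcases hi with rfl | rfl | rfl <;> assumption
    · rw [h4, Finset.card_insert_of_notMem (by simp [hab, Ne.symm hwa]),
        Finset.card_pair (Ne.symm hwb)]
  have hA : sub (T.erase w) ≤ H := by
    refine ih _ (Finset.erase_ssubset hwT) (Finset.mem_erase.2 ⟨Ne.symm hwa, ha⟩)
      (Finset.mem_erase.2 ⟨Ne.symm hwb, hb⟩) ?_ H fun i hi => hH i (Finset.mem_of_mem_erase hi)
    rw [Finset.card_erase_of_mem hwT]; omega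
  obtain ⟨C, rfl, rfl, rfl⟩ := Fw.exists_mk hu hab (Ne.symm hwa) (Ne.symm hwb)
  have hP := C.hp hu
  intro t ht
  set p := mat t *ᵥ cv C.w
  have hps : Supp T p := sub_supp hu ht (supp_cv hwT)
  set u := p - p C.w • cv C.w with hudef
  have hus : Supp (T.erase C.w) u := fun i hi => by
    by_cases hiw : i = C.w
    · subst hiw; simp [u]
    · have hiT : i ∉ T := fun h' => hi (Finset.mem_erase.2 ⟨hiw, h'⟩)
      simp [u, hps i hiT, hiw]
  have h2 : C.P2 ⊆ T.erase C.w := by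
    intro i hi
    simp only [Fw.P2, Finset.mem_insert, Finset.mem_singleton] at hi
    rcases hi with rfl | rfl
    exacts [Finset.mem_erase.2 ⟨C.haw, ha⟩, Finset.mem_erase.2 ⟨C.hbw, hb⟩]
  obtain ⟨g, hg, hgs⟩ : ∃ g ∈ (sub (T.erase C.w) : Subgroup (Su n F q)),
      Supp C.P2 (mat g *ᵥ u) := by
    by_cases hu0 : u = 0
    · exact ⟨1, one_mem _, fun i _ => by rw [hu0, Matrix.mulVec_zero]; rfl⟩
    have hcard : 3 ≤ (T.erase C.w).card := by rw [Finset.card_erase_of_mem hwT]; omega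
    obtain ⟨β, hβ⟩ := exists_norm' hu (a := hB n σ u u) (fix_self (hu.isHerm n) u)
    by_cases hn : hB n σ u u = 0
    · obtain ⟨g, hg, hgu⟩ := exists_su_move hu hus (C.e_supp.mono h2) hu0 hP.e_ne
        (hn.trans hP.ee.symm) (Or.inl hcard)
      exact ⟨g, hg, hgu ▸ C.e_supp⟩
    · have hβ0 : β ≠ 0 := fun h0 => hn (by rw [← hβ, h0, zero_mul])
      obtain ⟨g, hg, hgu⟩ := exists_su_move hu hus ((supp_cv (h2 C.a_mem)).smul β) hu0
        (smul_ne_zero hβ0 (by simp [cv]))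
        (by rw [smul_self (hu.isHerm n), hB_cv_cv, if_pos rfl, mul_one, hβ]) (Or.inl hcard)
      exact ⟨g, hg, hgu ▸ (supp_cv C.a_mem).smul β⟩
  have hv : mat (g * t) *ᵥ cv C.w = mat g *ᵥ u + p C.w • cv C.w := by
    rw [mat_mul_mulVec, show mat t *ᵥ cv C.w = u + p C.w • cv C.w by simp [u, p], Matrix.mulVec_add,
      Matrix.mulVec_smul, fix_of_mem_erase hg]
  have hgT : g ∈ sub T := sub_mono (Finset.erase_subset _ _) hg
  have hw0 : (cv C.w : Vn n F) ≠ 0 := by simp [cv]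
  have h33 : 3 ≤ C.P3.card := by
    rw [Fw.P3, Finset.card_insert_of_notMem (by simp [C.hab, C.haw]), Finset.card_pair C.hbw]
  obtain ⟨s, hs, hsw⟩ := exists_su_move hu (supp_cv C.w_mem3)
    (v' := mat (g * t) *ᵥ cv C.w)
    (hv ▸ ((hgs.mono C.P2_sub).add ((supp_cv C.w_mem3).smul _))) hw0 (mat_mulVec_ne_zero _ hw0)
    (by rw [hB_mat hu]) (Or.inl h33)
  have hs3 : s ∈ sub T := sub_mono (fun i hi => by
    simp only [Fw.P3, Finset.mem_insert, Finset.mem_singleton] at hi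
    rcases hi with rfl | rfl | rfl <;> assumption) hs
  have hfix : s⁻¹ * (g * t) ∈ sub (T.erase C.w) :=
    mem_sub_erase (mul_mem (inv_mem hs3) (mul_mem hgT ht))
      (by rw [mat_mul_mulVec, ← hsw, mat_inv_mulVec])
  have e : t = g⁻¹ * (s * (s⁻¹ * (g * t))) := by group
  rw [e]
  exact mul_mem (inv_mem (hA hg)) (mul_mem (hP3 hs) (hA hfix))

variable (L : Loc ρ)

theorem Loc.surj {T : Finset (Fin n)} (h3 : 3 ≤ T.card) {g : Su n F q} (hg : g ∈ sub T) :
    ∃ x ∈ L.LT T, ρ x = g := by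
  obtain ⟨a, b, c, ha, hb, -, hab, -, -⟩ := Finset.two_lt_card_iff.1 h3
  refine sub_le_of_triples hu hab T ha hb h3 ((L.LT T).map ρ) (fun i hi hia hib g' hg' => ?_) hg
  have hS : ({a, b, i} : Finset (Fin n)) ⊆ T := by
    intro l hl
    simp only [Finset.mem_insert, Finset.mem_singleton] at hl
    rcases hl with rfl | rfl | rfl <;> assumption
  have hc : ({a, b, i} : Finset (Fin n)).card ≤ 4 := Finset.card_le_three.trans (by norm_num)
  exact ⟨L.κ _ ⟨g', hg'⟩, L.mem_LT hS hc _, L.proj _ hc _⟩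

/-- The section on a set of injectivity. -/
noncomputable def Loc.sec {T : Finset (Fin n)} (h3 : 3 ≤ T.card) (hI : L.Inj T) :
    ↥(sub (q := q) (F := F) T) →* P :=
  MonoidHom.mk' (fun g => (L.surj hu h3 g.2).choose) fun g g' => by
    obtain ⟨h1, e1⟩ := (L.surj hu h3 g.2).choose_spec
    obtain ⟨h2, e2⟩ := (L.surj hu h3 g'.2).choose_spec
    obtain ⟨h12, e12⟩ := (L.surj hu h3 (g * g').2).choose_spec
    exact hI.ext h12 (mul_mem h1 h2) (by rw [e12, map_mul, e1, e2]; rfl)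

theorem Loc.sec_spec {T : Finset (Fin n)} (h3 : 3 ≤ T.card) (hI : L.Inj T)
    (g : ↥(sub (q := q) (F := F) T)) : L.sec hu h3 hI g ∈ L.LT T ∧ ρ (L.sec hu h3 hI g) = g :=
  (L.surj hu h3 g.2).choose_spec

theorem Loc.sec_eq {T : Finset (Fin n)} (h3 : 3 ≤ T.card) (hI : L.Inj T) {x : P} (hx : x ∈ L.LT T)
    {g : ↥(sub (q := q) (F := F) T)} (e : ρ x = g) : L.sec hu h3 hI g = x :=
  hI.ext (L.sec_spec hu h3 hI g).1 hx ((L.sec_spec hu h3 hI g).2.trans e.symm)

theorem Loc.sec_κ {T S : Finset (Fin n)} (h3 : 3 ≤ T.card) (hI : L.Inj T) (hS : S ⊆ T)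
    (h4 : S.card ≤ 4) (g : ↥(sub (q := q) (F := F) T)) (hg : (g : Su n F q) ∈ sub S) :
    L.sec hu h3 hI g = L.κ S ⟨g, hg⟩ :=
  L.sec_eq hu h3 hI (L.mem_LT hS h4 _) (L.proj S h4 _)

/-- A section commutes with disjoint local sections. -/
theorem Loc.sec_far {T U V : Finset (Fin n)} (h3 : 3 ≤ T.card) (hI : L.Inj T) (hU : U ⊆ T)
    (hUV : Disjoint U V) (hV : V.card ≤ 3) (g : ↥(sub (q := q) (F := F) T))
    (hg : (g : Su n F q) ∈ sub U) (v : ↥(sub (q := q) (F := F) V)) :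
    Commute (L.sec hu h3 hI g) (L.κ V v) := by
  rcases Nat.lt_or_ge 3 U.card with h4 | h4
  · obtain ⟨a, b, c, ha, hb, -, hab, -, -⟩ := Finset.two_lt_card_iff.1 (show 2 < U.card by omega)
    let H : Subgroup (Su n F q) := ((Subgroup.centralizer {L.κ V v}).comap (L.sec hu h3 hI)).map
      (sub (q := q) (F := F) T).subtype
    have hle : sub U ≤ H := by
      refine sub_le_of_triples hu hab U ha hb (by omega) H fun i hi _ _ g' hg' => ?_
      have hS : ({a, b, i} : Finset (Fin n)) ⊆ U := by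
        intro l hl
        simp only [Finset.mem_insert, Finset.mem_singleton] at hl
        rcases hl with rfl | rfl | rfl <;> assumption
      have hc : ({a, b, i} : Finset (Fin n)).card ≤ 3 := Finset.card_le_three
      refine ⟨⟨g', sub_mono (hS.trans hU) hg'⟩, ?_, rfl⟩
      rw [SetLike.mem_coe, Subgroup.mem_comap, Subgroup.mem_centralizer_singleton_iff,
        L.sec_κ hu h3 hI (hS.trans hU) (hc.trans (by norm_num)) _ hg']
      exact (L.far _ _ (hUV.mono_left hS) hc hV _ v).eq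
    obtain ⟨g0, hg0, e⟩ := hle hg
    rw [Subgroup.coe_subtype] at e
    rw [← show g0 = g from Subtype.ext e]
    exact Subgroup.mem_centralizer_singleton_iff.1 hg0
  · rw [L.sec_κ hu h3 hI hU (h4.trans (by norm_num)) g hg]
    exact L.far _ _ hUV h4 hV _ v

end Cfsg.Agent.SUShort
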