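import Cfsg.Agent.SUShort.FourInj
import Cfsg.Agent.SUShort.Local
import Cfsg.Agent.SUThreePres.Main

/-!
# `SU(4, q)` has a presentation with at most 42 relations
-/

set_option autoImplicit false

namespace Cfsg.Agent.SUShort

open Matrix Classical.Herm Cfsg.Agent.AutPSU Cfsg.Agent.ShortPres

universe u

variable {q : ℕ} {F : Type u} [Field F] [Fintype F] {σ : F →+* F}

namespace FourData

variable {C : Fw 4 σ} (D : FourData (F := F) q C) (hu : UCtx σ q)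
  {G H : Type*} [Group G] [Group H] (π : G →* H) (J : ↥(A4 q C) →* G) (x : G)

theorem ψ_map (t : ↥(sub (q := q) (F := F) C.P3)) :
    π (D.ψ hu J x t) = D.ψ hu (π.comp J) (π x) t := by
  rw [D.ψ_apply, D.ψ_apply, map_mul, map_mul, map_inv]; rfl

theorem κ_map (h : ↥(sub (q := q) (F := F) ({D.c, C.w} : Finset (Fin 4)))) :
    π (D.κ hu J x h) = D.κ hu (π.comp J) (π x) h := by
  rw [D.κ_apply, D.κ_apply, map_mul, map_mul, map_inv, D.ψ_map hu π]; rfl

end FourData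

variable (hu : UCtx σ q)
include hu

theorem exists_moved : ∃ ξ : F, σ ξ ≠ ξ := by
  by_contra h
  push Not at h
  exact hu.ne_id (RingHom.ext h)

/-- The presentation of `SU(4, q)`. -/
theorem su_four_pres (hq : 3 ≤ q) : HasPres (Su 4 F q) 42 := by
  classical
  obtain ⟨C, -, -, -⟩ := Fw.exists_mk (n := 4) hu (a := 0) (b := 1) (w := 2)
    (by decide) (by decide) (by decide)
  obtain ⟨D⟩ := FourData.exists_mk (C := C) hu
  have hP := C.hp hu
  have hFq : Fintype.card F = q ^ 2 := SUGen.card_F hu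
  obtain ⟨f3, hf3, R3, hR3, hker3⟩ := SUThreePres.su_three_pres hFq hq
  have hC : HasPres (Monoid.Coprod (Su 3 F q) (FreeGroup (Fin 1))) 22 :=
    HasPres.coprodFree ⟨3, f3, hf3, R3, hR3, hker3⟩ 1
  obtain ⟨e3⟩ := exists_subEquiv hu (m := 3) ((Finset.univ : Finset (Fin 4)).erase C.w)
    (by rw [Finset.card_erase_of_mem (Finset.mem_univ _)]; rfl)
  let C0 := Monoid.Coprod (Su 3 F q) (FreeGroup (Fin 1))
  let J : ↥(A4 q C) →* C0 := Monoid.Coprod.inl.comp e3.symm.toMonoidHom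
  let pe : C0 := Monoid.Coprod.inr (FreeGroup.of 0)
  let Φ : C0 →* Su 4 F q :=
    Monoid.Coprod.lift ((A4 q C).subtype.comp e3.toMonoidHom) (FreeGroup.lift fun _ => D.π0)
  have ΦJ : ∀ a, Φ (J a) = a := fun a => by
    show Φ (Monoid.Coprod.inl (e3.symm a)) = _
    refine (Monoid.Coprod.lift_apply_inl _ _ _).trans ?_
    show ((e3 (e3.symm a)) : Su 4 F q) = _
    rw [e3.apply_symm_apply]
  have Φp : Φ pe = D.π0 := by
    refine (Monoid.Coprod.lift_apply_inr _ _ _).trans ?_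
    exact FreeGroup.lift_apply_of
  have Φψ : ∀ t, Φ (D.ψ hu J pe t) = t := fun t => by
    rw [D.ψ_apply, map_mul, map_mul, map_inv, Φp, ΦJ]
    show D.π0 * (D.π0⁻¹ * (t : Su 4 F q) * D.π0) * D.π0⁻¹ = t
    group
  have Φκ : ∀ h, Φ (D.κ hu J pe h) = h := fun h => by
    rw [D.κ_apply, map_mul, map_mul, map_inv, ΦJ, Φψ]
    show D.m0 * (D.m0⁻¹ * (h : Su 4 F q) * D.m0) * D.m0⁻¹ = h
    group
  have hΦ : Function.Surjective Φ := by
    intro g
    have hle : sub (Finset.univ : Finset (Fin 4)) ≤ Φ.range := by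
      refine sub_le_of_triples hu C.hab _ (Finset.mem_univ _) (Finset.mem_univ _)
        (by rw [Finset.card_univ, Fintype.card_fin]; norm_num) _ fun i _ hia hib g hg => ?_
      rcases D.univ_cases i with rfl | rfl | rfl | rfl
      · exact absurd rfl hia
      · exact absurd rfl hib
      · exact ⟨D.ψ hu J pe ⟨g, hg⟩, Φψ _⟩
      · exact ⟨J ⟨g, sub_mono D.erase_eq.ge hg⟩, ΦJ _⟩
    exact hle (sub_univ (q := q) (F := F) ▸ Subgroup.mem_top g)
  -- the chosen elements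
  obtain ⟨l0, hl0⟩ := IsCyclic.exists_generator (α := Fˣ)
  obtain ⟨k, hk, hke, hkf, hkc⟩ := exists_K hu C D.hca D.hcb l0.ne_zero
  set k0 : ↥(A4 q C) := ⟨k, sub_mono D.erase_eq.ge hk⟩
  obtain ⟨z0, hz0, hz1⟩ := SUGen.exists_norm_one hu
  have hz00 : z0 ≠ 0 := left_ne_zero_of_mul_eq_one hz1
  obtain ⟨t, ht, htw⟩ := exists_su_move hu (S := {C.a, C.w}) (v := cv C.w) (v' := z0 • cv C.w)
    (supp_cv (by simp)) ((supp_cv (by simp)).smul z0) (by simp [cv])
    (smul_ne_zero hz00 (by simp [cv]))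
    (by rw [smul_self (hu.isHerm 4), hz1, one_mul])
    (Or.inr ⟨by rw [Finset.card_pair C.haw], by simp [hB_cv_cv]⟩)
  set t0 : ↥(sub (q := q) (F := F) C.P3) := ⟨t, sub_mono (FourData.aw_le C) ht⟩
  obtain ⟨ξ, hξ⟩ := exists_moved hu
  have c2 : ∀ {a b : Fin 4}, a ≠ b → 2 ≤ ({a, b} : Finset (Fin 4)).card := fun h => by
    rw [Finset.card_pair h]
  have c4 : ∀ {a b : Fin 4}, ({a, b} : Finset (Fin 4)).card ≤ 4 :=
    Finset.card_le_two.trans (by norm_num)
  obtain ⟨h1, h2, hh⟩ := exists_pair hu ({D.c, C.w} : Finset (Fin 4)) (c2 D.hcw) c4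
  obtain ⟨x1, x2, hx⟩ := exists_pair hu ({C.b, D.c} : Finset (Fin 4)) (c2 D.hcb.symm) c4
  obtain ⟨y1, y2, hy⟩ := exists_pair hu ({C.a, C.w} : Finset (Fin 4)) (c2 C.haw) c4
  obtain ⟨g1, g2, hg⟩ := exists_pair hu C.P3
    (by rw [Fw.P3, Finset.card_insert_of_notMem (by simp [C.hab, C.haw]), Finset.card_pair C.hbw]
        norm_num) (Finset.card_le_three.trans (by norm_num))
  obtain ⟨a1, a2, ha⟩ := exists_pair hu ((Finset.univ : Finset (Fin 4)).erase C.w)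
    (by rw [Finset.card_erase_of_mem (Finset.mem_univ _)]; decide)
    (by rw [Finset.card_erase_of_mem (Finset.mem_univ _)]; decide)
  let ibc : ↥(sub (q := q) (F := F) ({C.b, D.c} : Finset (Fin 4))) →* ↥(A4 q C) :=
    Subgroup.inclusion (sub_mono D.bc_le)
  let iaw : ↥(sub (q := q) (F := F) ({C.a, C.w} : Finset (Fin 4))) →*
      ↥(sub (q := q) (F := F) C.P3) := Subgroup.inclusion (sub_mono (FourData.aw_le C))
  have hbcaw : Disjoint ({C.b, D.c} : Finset (Fin 4)) {C.a, C.w} := by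
    rw [Finset.disjoint_left]
    intro i hi h'
    simp only [Finset.mem_insert, Finset.mem_singleton] at hi h'
    rcases hi with rfl | rfl <;> rcases h' with h' | h'
    exacts [C.hab h'.symm, C.hbw h', D.hca h', D.hcw h']
  -- conjugation maps
  have hkc' : mat k⁻¹ *ᵥ cv D.c = ((σ (l0 : F) / l0))⁻¹ • cv D.c := by
    have hs : (σ (l0 : F) / (l0 : F)) ≠ 0 := div_ne_zero ((map_ne_zero σ).2 l0.ne_zero) l0.ne_zero
    calc mat k⁻¹ *ᵥ cv D.c
        = (σ (l0 : F) / l0)⁻¹ • (mat k⁻¹ *ᵥ (mat k *ᵥ cv D.c)) := by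
          rw [hkc, Matrix.mulVec_smul, smul_smul, inv_mul_cancel₀ hs, one_smul]
      _ = _ := by rw [mat_inv_mulVec]
  have hck : ∀ s : ↥(sub (q := q) (F := F) C.P3), k * (s : Su 4 F q) * k⁻¹ ∈ sub C.P3 := by
    intro s i hi
    obtain rfl : i = D.c := by
      rcases D.univ_cases i with rfl | rfl | rfl | rfl <;>
        simp [C.a_mem3, C.b_mem3, C.w_mem3] at hi ⊢
    rw [mat_mul_mulVec, mat_mul_mulVec, hkc', Matrix.mulVec_smul, s.2 _ hi, ← hkc',
      mat_mulVec_inv]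
  let cK : ↥(sub (q := q) (F := F) C.P3) →* ↥(sub (q := q) (F := F) C.P3) :=
    MonoidHom.mk' (fun s => ⟨k * (s : Su 4 F q) * k⁻¹, hck s⟩) fun s s' =>
      Subtype.ext (by simp [mul_assoc])
  have htw' : mat t⁻¹ *ᵥ cv C.w = z0⁻¹ • cv C.w := by
    calc mat t⁻¹ *ᵥ cv C.w = z0⁻¹ • (mat t⁻¹ *ᵥ (mat t *ᵥ cv C.w)) := by
          rw [htw, Matrix.mulVec_smul, smul_smul, inv_mul_cancel₀ hz00, one_smul]
      _ = _ := by rw [mat_inv_mulVec]
  have hct : ∀ s : ↥(A4 q C), t * (s : Su 4 F q) * t⁻¹ ∈ A4 q C := by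
    intro s i hi
    obtain rfl : i = C.w := by simpa using hi
    rw [mat_mul_mulVec, mat_mul_mulVec, htw', Matrix.mulVec_smul, fix_of_mem_erase s.2, ← htw',
      mat_mulVec_inv]
  let cT : ↥(A4 q C) →* ↥(A4 q C) :=
    MonoidHom.mk' (fun s => ⟨t * (s : Su 4 F q) * t⁻¹, hct s⟩) fun s s' =>
      Subtype.ext (by simp [mul_assoc])
  -- the unipotent seeds
  obtain ⟨dc1, hEc1⟩ := FourData.exists_isE hu (C := C) D.hca D.hcb (1 : F)
  obtain ⟨dcξ, hEcξ⟩ := FourData.exists_isE hu (C := C) D.hca D.hcb ξ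
  obtain ⟨dw1, hEw1⟩ := FourData.exists_isE hu (C := C) C.haw.symm C.hbw.symm (1 : F)
  obtain ⟨dwξ, hEwξ⟩ := FourData.exists_isE hu (C := C) C.haw.symm C.hbw.symm ξ
  let ec1 := J ⟨_, D.eSc_mem hu hEc1⟩
  let ecξ := J ⟨_, D.eSc_mem hu hEcξ⟩
  let ew1 := D.ψ hu J pe ⟨_, FourData.eSw_mem hu hEw1⟩
  let ewξ := D.ψ hu J pe ⟨_, FourData.eSw_mem hu hEwξ⟩
  have hcwcomm : ∀ {α b : F} (hS : IsE σ C.e (α • cv C.w) b),
      Φ (ec1 * D.ψ hu J pe ⟨_, FourData.eSw_mem hu hS⟩) =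
        Φ (D.ψ hu J pe ⟨_, FourData.eSw_mem hu hS⟩ * ec1) := by
    intro α b hS
    simp only [ec1, map_mul, ΦJ, Φψ]
    rw [eS_mul hu hEc1 hS, eS_mul hu hS hEc1, add_comm ((1 : F) • cv D.c)]
    congr 1
    simp [hB_cv_cv, D.hcw, D.hcw.symm]
    ring
  -- the images of the seeds under the two generators
  have target : ∀ (g : ↥(sub (q := q) (F := F) ({D.c, C.w} : Finset (Fin 4)))) (i : Fin 4),
      (i = D.c ∨ i = C.w) → ∀ (r d : F), IsE σ C.e (r • cv i) d →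
      ∃ (r1 d1 r2 d2 : F) (hE1 : IsE σ C.e (r1 • cv D.c) d1) (hE2 : IsE σ C.e (r2 • cv C.w) d2),
        (g : Su 4 F q) * eS hu C.e (r • cv i) d * (g : Su 4 F q)⁻¹ =
          Φ (J ⟨_, D.eSc_mem hu hE1⟩ * D.ψ hu J pe ⟨_, FourData.eSw_mem hu hE2⟩) := by
    intro g i hi r d hE
    set y := mat (g : Su 4 F q) *ᵥ (r • cv i)
    have hys : Supp ({D.c, C.w} : Finset (Fin 4)) y :=
      sub_supp hu g.2 ((supp_cv (by simpa using hi)).smul r)
    have hge : mat (g : Su 4 F q) *ᵥ C.e = C.e := by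
      refine fix_of_supp g.2 fun l hl => C.e_supp l ?_
      simp only [Finset.mem_insert, Finset.mem_singleton] at hl
      rcases hl with rfl | rfl
      · simp [Fw.P2, D.hca, D.hcb]
      · exact C.w_notMem
    have hEy : IsE σ C.e y d := by
      have := hE.conjS hu (g : Su 4 F q)
      rwa [hge] at this
    have hyy : y = y D.c • cv D.c + y C.w • cv C.w := by
      conv_lhs => rw [hys.eq_sum, Finset.sum_pair D.hcw]
    obtain ⟨d2, hE2⟩ := FourData.exists_isE hu (C := C) C.haw.symm C.hbw.symm (y C.w)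
    have hB12 : hB 4 σ (y D.c • cv D.c : Vn 4 F) (y C.w • cv C.w) = 0 := by
      simp [hB_cv_cv, D.hcw]
    have hB21 : hB 4 σ (y C.w • cv C.w : Vn 4 F) (y D.c • cv D.c) = 0 := by
      simp [hB_cv_cv, D.hcw.symm]
    have hE1 : IsE σ C.e (y D.c • cv D.c) (d - d2) :=
      hP.isE hu ((FourData.inW_cv hu D.hca D.hcb).smul _) (by
        have h1 := hEy.tr
        rw [hyy] at h1
        simp only [map_add, LinearMap.add_apply, hB12, hB21, add_zero, zero_add] at h1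
        rw [map_sub]
        linear_combination h1 - hE2.tr)
    refine ⟨_, _, _, _, hE1, hE2, ?_⟩
    rw [suConj hu _ hE, hge, map_mul, ΦJ, Φψ]
    show _ = eS hu C.e _ _ * eS hu C.e _ _
    rw [eS_mul hu hE1 hE2, ← hyy, hB12, sub_zero, sub_add_cancel]
  -- the relations
  let mk : C0 → C0 → C0 := fun x y => x * y⁻¹
  let cj : C0 → C0 → C0 := fun x y => x * y * x⁻¹
  obtain ⟨n1, q1, n1', q1', hN1, hN1', e1⟩ := target h1 D.c (Or.inl rfl) 1 dc1 hEc1
  obtain ⟨n2, q2, n2', q2', hN2, hN2', e2⟩ := target h1 D.c (Or.inl rfl) ξ dcξ hEcξ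
  obtain ⟨n3, q3, n3', q3', hN3, hN3', e3'⟩ := target h1 C.w (Or.inr rfl) 1 dw1 hEw1
  obtain ⟨n4, q4, n4', q4', hN4, hN4', e4⟩ := target h1 C.w (Or.inr rfl) ξ dwξ hEwξ
  obtain ⟨n5, q5, n5', q5', hN5, hN5', e5⟩ := target h2 D.c (Or.inl rfl) 1 dc1 hEc1
  obtain ⟨n6, q6, n6', q6', hN6, hN6', e6⟩ := target h2 D.c (Or.inl rfl) ξ dcξ hEcξ
  obtain ⟨n7, q7, n7', q7', hN7, hN7', e7⟩ := target h2 C.w (Or.inr rfl) 1 dw1 hEw1
  obtain ⟨n8, q8, n8', q8', hN8, hN8', e8⟩ := target h2 C.w (Or.inr rfl) ξ dwξ hEwξ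
  let κ1 := D.κ hu J pe h1
  let κ2 := D.κ hu J pe h2
  let L : List C0 :=
    [mk pe (D.κ hu J pe ⟨D.π0, D.hπ⟩),
     mk (J (ibc x1) * D.ψ hu J pe (iaw y1)) (D.ψ hu J pe (iaw y1) * J (ibc x1)),
     mk (J (ibc x1) * D.ψ hu J pe (iaw y2)) (D.ψ hu J pe (iaw y2) * J (ibc x1)),
     mk (J (ibc x2) * D.ψ hu J pe (iaw y1)) (D.ψ hu J pe (iaw y1) * J (ibc x2)),
     mk (J (ibc x2) * D.ψ hu J pe (iaw y2)) (D.ψ hu J pe (iaw y2) * J (ibc x2)),
     mk (cj (J k0) (D.ψ hu J pe g1)) (D.ψ hu J pe (cK g1)),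
     mk (cj (J k0) (D.ψ hu J pe g2)) (D.ψ hu J pe (cK g2)),
     mk (cj (D.ψ hu J pe t0) (J a1)) (J (cT a1)),
     mk (cj (D.ψ hu J pe t0) (J a2)) (J (cT a2)),
     mk (ec1 * ew1) (ew1 * ec1),
     mk (ec1 * ewξ) (ewξ * ec1),
     mk (cj κ1 ec1) (J ⟨_, D.eSc_mem hu hN1⟩ * D.ψ hu J pe ⟨_, FourData.eSw_mem hu hN1'⟩),
     mk (cj κ1 ecξ) (J ⟨_, D.eSc_mem hu hN2⟩ * D.ψ hu J pe ⟨_, FourData.eSw_mem hu hN2'⟩),
     mk (cj κ1 ew1) (J ⟨_, D.eSc_mem hu hN3⟩ * D.ψ hu J pe ⟨_, FourData.eSw_mem hu hN3'⟩),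
     mk (cj κ1 ewξ) (J ⟨_, D.eSc_mem hu hN4⟩ * D.ψ hu J pe ⟨_, FourData.eSw_mem hu hN4'⟩),
     mk (cj κ2 ec1) (J ⟨_, D.eSc_mem hu hN5⟩ * D.ψ hu J pe ⟨_, FourData.eSw_mem hu hN5'⟩),
     mk (cj κ2 ecξ) (J ⟨_, D.eSc_mem hu hN6⟩ * D.ψ hu J pe ⟨_, FourData.eSw_mem hu hN6'⟩),
     mk (cj κ2 ew1) (J ⟨_, D.eSc_mem hu hN7⟩ * D.ψ hu J pe ⟨_, FourData.eSw_mem hu hN7'⟩),
     mk (cj κ2 ewξ) (J ⟨_, D.eSc_mem hu hN8⟩ * D.ψ hu J pe ⟨_, FourData.eSw_mem hu hN8'⟩)]
  have hmk : ∀ {x y : C0}, Φ x = Φ y → Φ (mk x y) = 1 := fun h => by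
    rw [map_mul, map_inv, h, mul_inv_cancel]
  have hcj : ∀ x y, Φ (cj x y) = Φ x * Φ y * (Φ x)⁻¹ := fun x y => by
    rw [map_mul, map_mul, map_inv]
  have hd : ∀ (x : ↥(sub (q := q) (F := F) ({C.b, D.c} : Finset (Fin 4))))
      (y : ↥(sub (q := q) (F := F) ({C.a, C.w} : Finset (Fin 4)))),
      Φ (J (ibc x) * D.ψ hu J pe (iaw y)) = Φ (D.ψ hu J pe (iaw y) * J (ibc x)) := fun x y => by
    rw [map_mul, map_mul, ΦJ, Φψ]
    exact sub_commute hu hbcaw x.2 y.2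
  have hL : ∀ r ∈ L, Φ r = 1 := by
    intro r hr
    simp only [L, List.mem_cons, List.not_mem_nil, or_false] at hr
    rcases hr with rfl | rfl | rfl | rfl | rfl | rfl | rfl | rfl | rfl | rfl | rfl | rfl | rfl |
      rfl | rfl | rfl | rfl | rfl | rfl <;> refine hmk ?_
    · rw [Φp, Φκ]
    · exact hd x1 y1
    · exact hd x1 y2
    · exact hd x2 y1
    · exact hd x2 y2
    · rw [hcj, ΦJ, Φψ, Φψ]; rfl
    · rw [hcj, ΦJ, Φψ, Φψ]; rfl
    · rw [hcj, ΦJ, Φψ, ΦJ]; rfl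
    · rw [hcj, ΦJ, Φψ, ΦJ]; rfl
    · exact hcwcomm hEw1
    · exact hcwcomm hEwξ
    all_goals rw [hcj]
    all_goals simp only [κ1, κ2, ec1, ecξ, ew1, ewξ, Φκ, ΦJ, Φψ]
    all_goals first
      | exact e1 | exact e2 | exact e3' | exact e4 | exact e5 | exact e6 | exact e7 | exact e8
  refine (hC.of_universal Φ hΦ L.toFinset (fun r hr => hL r (List.mem_toFinset.1 hr)) ?_).mono ?_
  swap
  · refine (Nat.add_le_add_left (List.toFinset_card_le L) 22).trans ?_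
    simp [L]
  intro x hx1
  set N := Subgroup.normalClosure (L.toFinset : Set C0)
  let π : C0 →* C0 ⧸ N := QuotientGroup.mk' N
  let ρ : C0 ⧸ N →* Su 4 F q := QuotientGroup.lift N Φ
    (Subgroup.normalClosure_le_normal fun r hr => hL r (List.mem_toFinset.1 hr))
  have hρ : ∀ y, ρ (π y) = Φ y := fun y => rfl
  set j : ↥(A4 q C) →* C0 ⧸ N := π.comp J
  set p := π pe
  have rel : ∀ {a b : C0}, mk a b ∈ L → π a = π b := fun {a b} h => by
    have h1 : π (mk a b) = 1 := (QuotientGroup.eq_one_iff _).2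
      (Subgroup.subset_normalClosure (List.mem_toFinset.2 h))
    rwa [map_mul, map_inv, mul_inv_eq_one] at h1
  have πψ : ∀ s, π (D.ψ hu J pe s) = D.ψ hu j p s := fun s => D.ψ_map hu π J pe s
  have πκ : ∀ s, π (D.κ hu J pe s) = D.κ hu j p s := fun s => D.κ_map hu π J pe s
  have πJ : ∀ s, π (J s) = j s := fun s => rfl
  have πcj : ∀ a b, π (cj a b) = π a * π b * (π a)⁻¹ := fun a b => by
    rw [map_mul, map_mul, map_inv]
  have memN : ∀ {r1 d1 r2 d2 : F} (hE1 : IsE σ C.e (r1 • cv D.c) d1)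
      (hE2 : IsE σ C.e (r2 • cv C.w) d2),
      π (J ⟨_, D.eSc_mem hu hE1⟩ * D.ψ hu J pe ⟨_, FourData.eSw_mem hu hE2⟩) ∈ D.N hu j p := by
    intro r1 d1 r2 d2 hE1 hE2
    rw [map_mul, πψ, πJ]
    exact mul_mem (Subgroup.mem_sup_left (Subgroup.subset_closure ⟨_, _, _, hE1, rfl⟩))
      (Subgroup.mem_sup_right (Subgroup.subset_closure ⟨_, _, _, hE2, rfl⟩))
  have hanis : ∀ (x y), Commute (j (ibc x)) (D.ψ hu j p (iaw y)) := by
    have key : ∀ a b, mk (J (ibc a) * D.ψ hu J pe (iaw b)) (D.ψ hu J pe (iaw b) * J (ibc a)) ∈ L →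
        Commute ((j.comp ibc) a) (((D.ψ hu j p).comp iaw) b) := fun a b h => by
      have := rel h
      rw [map_mul, map_mul, πψ, πJ] at this
      exact this
    exact commute_of_pairs (φ := j.comp ibc) (ψ := (D.ψ hu j p).comp iaw) hx hy
      (key x1 y1 (by simp [L])) (key x1 y2 (by simp [L])) (key x2 y1 (by simp [L]))
      (key x2 y2 (by simp [L]))
  have htwist : ∀ s, j k0 * D.ψ hu j p s * (j k0)⁻¹ = D.ψ hu j p (cK s) := by
    have key : ∀ g, mk (cj (J k0) (D.ψ hu J pe g)) (D.ψ hu J pe (cK g)) ∈ L →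
        ((MulAut.conj (j k0)).toMonoidHom.comp (D.ψ hu j p)) g = ((D.ψ hu j p).comp cK) g := by
      intro g h
      have := rel h
      rw [πcj, πψ, πψ, πJ] at this
      exact this
    exact hom_eq_of_pair hg (key g1 (by simp [L])) (key g2 (by simp [L]))
  have htor : ∀ s, D.ψ hu j p t0 * j s * (D.ψ hu j p t0)⁻¹ = j (cT s) := by
    have key : ∀ g, mk (cj (D.ψ hu J pe t0) (J g)) (J (cT g)) ∈ L →
        ((MulAut.conj (D.ψ hu j p t0)).toMonoidHom.comp j) g = (j.comp cT) g := by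
      intro g h
      have := rel h
      rw [πcj, πψ, πJ, πJ] at this
      exact this
    exact hom_eq_of_pair ha (key a1 (by simp [L])) (key a2 (by simp [L]))
  have hgen : j.range ⊔ Subgroup.zpowers p = ⊤ := by
    rw [eq_top_iff]
    rintro y -
    obtain ⟨y, rfl⟩ := QuotientGroup.mk'_surjective N y
    induction y using Monoid.Coprod.induction_on with
    | inl a =>
      refine Subgroup.mem_sup_left ⟨e3 a, ?_⟩
      show π (Monoid.Coprod.inl (e3.symm (e3 a))) = _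
      rw [e3.symm_apply_apply]
    | inr b =>
      refine Subgroup.mem_sup_right ?_
      have hb : b ∈ Subgroup.zpowers (FreeGroup.of (0 : Fin 1)) := by
        have h := Subgroup.mem_top b
        rw [← FreeGroup.closure_range_of, show Set.range (FreeGroup.of (α := Fin 1)) =
          {FreeGroup.of 0} by ext v; simp [Fin.exists_fin_one, eq_comm],
          ← Subgroup.zpowers_eq_closure] at h
        exact h
      obtain ⟨i, rfl⟩ := hb
      exact ⟨i, by simp [p, pe, π]⟩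
    | mul a b iha ihb => rw [map_mul]; exact mul_mem iha ihb
  have R : D.Rel hu j p ρ k0 l0 t0 z0 ξ h1 h2 :=
    { three := hq
      hj := fun a => ΦJ a
      hp := Φp
      gen := hgen
      mon := by
        have := rel (a := pe) (b := D.κ hu J pe ⟨D.π0, D.hπ⟩) (by simp [L])
        rwa [πκ] at this
      anis := fun a s ha hs => hanis ⟨(a : Su 4 F q), ha⟩ ⟨(s : Su 4 F q), hs⟩
      k0e := hke
      k0f := hkf
      l0gen := hl0
      twist := fun s s' e => by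
        rw [htwist s]
        exact congrArg _ (Subtype.ext e)
      t0w := htw
      z0ord := hz0
      tor := fun a a' e => by
        rw [htor a]
        exact congrArg _ (Subtype.ext e)
      hξ := hξ
      rad := by
        intro α hα
        rcases hα with rfl | rfl
        · refine ⟨dc1, dw1, D.eSc_mem hu hEc1, FourData.eSw_mem hu hEw1, hEc1, hEw1, ?_⟩
          have := rel (a := ec1 * ew1) (b := ew1 * ec1) (by simp [L])
          rw [map_mul, map_mul, πψ] at this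
          exact this
        · refine ⟨dc1, dwξ, D.eSc_mem hu hEc1, FourData.eSw_mem hu hEwξ, hEc1, hEwξ, ?_⟩
          have := rel (a := ec1 * ewξ) (b := ewξ * ec1) (by simp [L])
          rw [map_mul, map_mul, πψ] at this
          exact this
      hgen := hh
      norm := by
        intro g hg r hr
        have key : ∀ (lhs : C0) {r1 d1 r2 d2 : F} (hE1 : IsE σ C.e (r1 • cv D.c) d1)
            (hE2 : IsE σ C.e (r2 • cv C.w) d2),
            mk (cj (D.κ hu J pe g) lhs)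
              (J ⟨_, D.eSc_mem hu hE1⟩ * D.ψ hu J pe ⟨_, FourData.eSw_mem hu hE2⟩) ∈ L →
            D.κ hu j p g * π lhs * (D.κ hu j p g)⁻¹ ∈ D.N hu j p := by
          intro lhs r1 d1 r2 d2 hE1 hE2 h
          have := rel h
          rw [πcj, πκ] at this
          rw [this]
          exact memN hE1 hE2
        rcases hg with rfl | rfl <;> rcases hr with rfl | rfl
        · refine ⟨⟨dc1, D.eSc_mem hu hEc1, hEc1, key ec1 hN1 hN1' (by simp [L, κ1])⟩, dw1, FourData.eSw_mem hu hEw1, hEw1, ?_⟩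
          have := key ew1 hN3 hN3' (by simp [L, κ1])
          rwa [πψ] at this
        · refine ⟨⟨dcξ, D.eSc_mem hu hEcξ, hEcξ, key ecξ hN2 hN2' (by simp [L, κ1])⟩, dwξ, FourData.eSw_mem hu hEwξ, hEwξ, ?_⟩
          have := key ewξ hN4 hN4' (by simp [L, κ1])
          rwa [πψ] at this
        · refine ⟨⟨dc1, D.eSc_mem hu hEc1, hEc1, key ec1 hN5 hN5' (by simp [L, κ2])⟩, dw1, FourData.eSw_mem hu hEw1, hEw1, ?_⟩
          have := key ew1 hN7 hN7' (by simp [L, κ2])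
          rwa [πψ] at this
        · refine ⟨⟨dcξ, D.eSc_mem hu hEcξ, hEcξ, key ecξ hN6 hN6' (by simp [L, κ2])⟩, dwξ, FourData.eSw_mem hu hEwξ, hEwξ, ?_⟩
          have := key ewξ hN8 hN8' (by simp [L, κ2])
          rwa [πψ] at this }
  have := R.injective (show ρ (π x) = ρ 1 by rw [hρ, hx1, map_one])
  exact (QuotientGroup.eq_one_iff x).1 this

end Cfsg.Agent.SUShort
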