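import Cfsg.Agent.SUShort.AmalgamPres
import Cfsg.Agent.SUShort.FourPres
import Cfsg.Agent.SpFourPres.Main
import Cfsg.Agent.Classical.ExcU4Two
import Cfsg.Agent.SUTwoGen.Main
import Cfsg.Agent.SUGen.Three
import Cfsg.Agent.SUThreePres.Main

/-!
# Short presentations of `PSU(n, q)`
-/

set_option autoImplicit false

namespace Cfsg.Agent.SUShort

open Matrix Classical.Herm Cfsg.Agent.AutPSU Cfsg.Agent.ShortPres

universe u

variable {n q : ℕ} {F : Type u} [Field F] [Fintype F] {σ : F →+* F}

theorem hasPres_of_pres {T : Type u} [Group T] {k r : ℕ} (h : SLShort.Pres T k r) : HasPres T r :=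
  ⟨k, h⟩

theorem hasPres_central_quotient {T : Type u} [Group T] {r : ℕ} (hT : HasPres T r)
    [IsCyclic (Subgroup.center T)] : HasPres (T ⧸ Subgroup.center T) (r + 1) := by
  classical
  obtain ⟨k, f, hf, s, hs, hker⟩ := hT
  obtain ⟨c, hc⟩ := IsCyclic.exists_generator (α := Subgroup.center T)
  obtain ⟨w, hw⟩ := hf (c : T)
  refine ⟨k, (QuotientGroup.mk' _).comp f, (QuotientGroup.mk'_surjective _).comp hf, insert w s,
    (Finset.card_insert_le _ _).trans (by omega), le_antisymm (fun x hx => ?_) ?_⟩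
  · have hxc : f x ∈ Subgroup.center T := (QuotientGroup.eq_one_iff (f x)).1 hx
    obtain ⟨j, hj⟩ := hc ⟨f x, hxc⟩
    have hj' : (c : T) ^ j = f x := congrArg Subtype.val hj
    set N := Subgroup.normalClosure (↑(insert w s) : Set (FreeGroup (Fin k)))
    have h1 : x * (w ^ j)⁻¹ ∈ N := by
      refine Subgroup.normalClosure_mono (s := (↑s : Set _)) (by simp) ?_
      rw [← hker, MonoidHom.mem_ker, map_mul, map_inv, map_zpow, hw, hj', mul_inv_cancel]
    have h2 : w ^ j ∈ N := zpow_mem (Subgroup.subset_normalClosure (by simp)) j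
    simpa using mul_mem h1 h2
  · refine Subgroup.normalClosure_le_normal fun x hx => ?_
    show (f x : T ⧸ Subgroup.center T) = 1
    rw [QuotientGroup.eq_one_iff]
    rcases Finset.mem_insert.1 (Finset.mem_coe.1 hx) with rfl | h
    · rw [hw]; exact c.2
    · have : f x = 1 := (hker ▸ Subgroup.subset_normalClosure h : x ∈ f.ker)
      rw [this]; exact one_mem _

theorem center_cyclic (hu : UCtx σ q) (hn : 2 ≤ n) : IsCyclic (Subgroup.center (Su n F q)) := by
  let i0 : Fin n := ⟨0, by omega⟩
  choose a ha using fun z : Subgroup.center (Su n F q) => center_scalar hu hn z.2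
  let v : Vn n F := Pi.single i0 1
  have hv : v ≠ 0 := fun h => by simpa [v] using congrFun h i0
  have inj : ∀ {x y : F}, x • v = y • v → x = y := fun h => smul_left_injective F hv h
  let χ : Subgroup.center (Su n F q) →* F :=
    { toFun := a
      map_one' := inj (by rw [← ha, Subgroup.coe_one, mat_one_mulVec, one_smul])
      map_mul' := fun x y => inj (by
        rw [← ha, Subgroup.coe_mul, mat_mul_mulVec, ha y, mulVec_smul, ha x, smul_smul, mul_comm]) }
  refine isCyclic_of_subgroup_isDomain χ fun x y h => Subtype.ext (su_ext_mulVec fun w => ?_)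
  rw [ha, ha]
  exact congrArg (· • w) h

theorem su_four_two (hF : Fintype.card F = q ^ 2) (hq : q = 2) : HasPres (Su 4 F q) 32 := by
  subst hq
  obtain ⟨σ, hu⟩ := exists_uctx hF
  haveI : Fact (Nat.Prime 3) := ⟨Nat.prime_three⟩
  obtain ⟨e⟩ := Classical.U42.psu_four_two (F := F) (K := ZMod 3) (by rw [hF]; rfl) (ZMod.card 3)
  obtain ⟨rels, hr, hiso⟩ := (SpFourPres.exists_presentations (ZMod 3)).2
  have hb : Subgroup.center (Su 4 F 2) = ⊥ := Subgroup.eq_bot_of_card_eq _ (by
    rw [Classical.card_center_SU hu.toIsInvol hu.pow hu.card_fix (by norm_num)]; rfl)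
  exact (hasPres_of_presented rels hr hiso).congr
    (e.symm.trans ((QuotientGroup.quotientMulEquivOfEq hb).trans QuotientGroup.quotientBot))

theorem su_pres_four (hF : Fintype.card F = q ^ 2) : HasPres (Su 4 F q) 42 := by
  obtain ⟨σ, hu⟩ := exists_uctx hF
  rcases Nat.lt_or_ge q 3 with h | h
  · exact (su_four_two hF (by have := hu.one_lt; omega)).mono (by norm_num)
  · exact su_four_pres hu h

/-- `SU(n, q)` has a presentation with at most 70 relations for `n` at least four. -/
theorem su_pres (hF : Fintype.card F = q ^ 2) (hn : 4 ≤ n) : HasPres (Su n F q) 70 := by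
  obtain ⟨σ, hu⟩ := exists_uctx hF
  rcases eq_or_lt_of_le hn with rfl | h
  · exact (su_pres_four hF).mono (by norm_num)
  · exact su_big_pres hu h (su_pres_four hF)

/-- `PSU(n, q)` has a presentation with two generators and at most 73 relations. -/
theorem psu_two_gen_pres (hF : Fintype.card F = q ^ 2) (hn : 3 ≤ n) (h32 : ¬ (n = 3 ∧ q = 2)) :
    ∃ rels : Finset (FreeGroup (Fin 2)), rels.card ≤ 73 ∧
      Nonempty (PresentedGroup (↑rels : Set (FreeGroup (Fin 2))) ≃* Cfsg.PSU n F q) := by
  obtain ⟨σ, hu⟩ := exists_uctx hF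
  obtain ⟨a, b, hab, hP⟩ : ∃ a b : Su n F q, Subgroup.closure ({a, b} : Set (Su n F q)) = ⊤ ∧
      HasPres (Cfsg.PSU n F q) 71 := by
    rcases eq_or_lt_of_le hn with rfl | h
    · have hq : 3 ≤ q := by have := hu.one_lt; omega
      obtain ⟨u, g, -, hg⟩ := SUGen.generated_three hu rfl hq
      exact ⟨_, _, hg, (hasPres_of_pres (SUThreePres.psu_three_pres hF hq)).mono (by norm_num)⟩
    · obtain ⟨a, b, hab⟩ := SUTwoGen.su_two_gen hu (n := n) (m := n / 2) (by omega) (by omega)
      haveI := center_cyclic hu (n := n) (by omega)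
      exact ⟨a, b, hab, hasPres_central_quotient (su_pres hF h)⟩
  let π : Su n F q →* Cfsg.PSU n F q := QuotientGroup.mk' _
  refine hP.two_gen (a := π a) (b := π b) ?_
  have h := MonoidHom.map_closure π ({a, b} : Set (Su n F q))
  rw [hab, Subgroup.map_top_of_surjective π (QuotientGroup.mk'_surjective _), Set.image_pair] at h
  exact h.symm

end Cfsg.Agent.SUShort
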