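import Cfsg.Agent.Classical.UnitaryThreeTwo

/-!
# `SU(3, 2)` is generated by two elements
-/

set_option autoImplicit false

namespace Cfsg.Agent.SUShort

open Cfsg.Agent.ThreeTrans.SU32 Cfsg.Agent.Classical.U32
open F4

/-- The second generator. -/
def gy : Cfsg.SU 3 F4 2 := el (1, 1, 0) * gb

theorem words_gy : (gy * ga * ga * gy = el (1, 0, 0)) ∧ (ga * gy * gy * ga = el (0, 1, 0)) ∧
    (ga * gy * ga * gy * gy * gy = el (0, 0, 1)) :=
  ⟨ext' (by decide +kernel), ext' (by decide +kernel), ext' (by decide +kernel)⟩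

theorem closure_F4 : Subgroup.closure ({ga, gy} : Set (Cfsg.SU 3 F4 2)) = ⊤ := by
  set H := Subgroup.closure ({ga, gy} : Set (Cfsg.SU 3 F4 2))
  have hx : ga ∈ H := Subgroup.subset_closure (by simp)
  have hy : gy ∈ H := Subgroup.subset_closure (by simp)
  obtain ⟨w1, w2, w3⟩ := words_gy
  have e1 : el (1, 0, 0) ∈ H := w1 ▸ mul_mem (mul_mem (mul_mem hy hx) hx) hy
  have e2 : el (0, 1, 0) ∈ H := w2 ▸ mul_mem (mul_mem (mul_mem hx hy) hy) hx
  have e3 : el (0, 0, 1) ∈ H :=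
    w3 ▸ mul_mem (mul_mem (mul_mem (mul_mem (mul_mem hx hy) hx) hy) hy) hy
  have pw : ∀ {p : Idx}, el p ∈ H → ∀ {r : Idx}, el r ∈ H → el (mulIdx p r) ∈ H := fun hp _ hr =>
    el_mul _ _ ▸ mul_mem hp hr
  have hE : ∀ p : Idx, el p ∈ H := by
    have key : ∀ p : Idx, ∃ i j k : Fin 3,
        p = mulIdx (mulIdx
          (match i with | 0 => (0, 0, 0) | 1 => (1, 0, 0) | 2 => mulIdx (1, 0, 0) (1, 0, 0))
          (match j with | 0 => (0, 0, 0) | 1 => (0, 1, 0) | 2 => mulIdx (0, 1, 0) (0, 1, 0)))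
          (match k with | 0 => (0, 0, 0) | 1 => (0, 0, 1) | 2 => mulIdx (0, 0, 1) (0, 0, 1)) := by
      decide +kernel
    have h0 : el (0, 0, 0) ∈ H := el_zero ▸ one_mem H
    intro p
    obtain ⟨i, j, k, rfl⟩ := key p
    refine pw (pw ?_ ?_) ?_
    · fin_cases i <;> first | exact h0 | exact e1 | exact pw e1 e1
    · fin_cases j <;> first | exact h0 | exact e2 | exact pw e2 e2
    · fin_cases k <;> first | exact h0 | exact e3 | exact pw e3 e3
  have hb : gb ∈ H := by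
    have : gb = (el (1, 1, 0))⁻¹ * gy := by rw [gy, inv_mul_cancel_left]
    exact this ▸ mul_mem (inv_mem (hE _)) hy
  rw [eq_top_iff]
  rintro g -
  obtain ⟨⟨⟨_, p, rfl⟩, r⟩, rfl⟩ := decomp.2 g
  refine mul_mem (hE p) ?_
  cases r with
  | a i => exact pow_mem hx _
  | xa i => exact mul_mem hb (pow_mem hx _)

/-- Two generators of `SU(3, 2)`. -/
theorem su32_two_gen {F : Type*} [Field F] [Fintype F] (hF : Fintype.card F = 4) :
    ∃ a b : Cfsg.SU 3 F 2, Subgroup.closure ({a, b} : Set (Cfsg.SU 3 F 2)) = ⊤ := by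
  obtain ⟨τ⟩ : Nonempty (F4 ≃+* F) := ⟨FiniteField.ringEquivOfCardEq (F4.card_eq.trans hF.symm)⟩
  let f : Cfsg.SU 3 F4 2 →* Cfsg.SU 3 F 2 :=
    ((Matrix.SpecialLinearGroup.map τ.toRingHom).comp (Subgroup.subtype _)).codRestrict _
      fun g => map_mem_SU τ g.1 g.2
  have hf : Function.Surjective f := fun y =>
    ⟨⟨Matrix.SpecialLinearGroup.map τ.symm.toRingHom y.1, map_mem_SU τ.symm y.1 y.2⟩,
      Subtype.ext (Matrix.SpecialLinearGroup.ext _ _ fun i j => by simp [f])⟩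
  refine ⟨f ga, f gy, ?_⟩
  have := congrArg (Subgroup.map f) closure_F4
  rw [MonoidHom.map_closure, Set.image_pair, Subgroup.map_top_of_surjective f hf] at this
  exact this

end Cfsg.Agent.SUShort
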