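import Cfsg.Agent.SUShort.Four

/-!
# Four coordinates: the slide
-/

set_option autoImplicit false

namespace Cfsg.Agent.SUShort

open Matrix Classical.Herm Cfsg.Agent.AutPSU

variable {q : ℕ} {F : Type*} [Field F] [Fintype F] {σ : F →+* F} {C : Fw 4 σ}
  {D : FourData (F := F) q C} {hu : UCtx σ q}
  {P : Type*} [Group P] {j : ↥(A4 q C) →* P} {p : P} {ρ : P →* Su 4 F q}
  {k0 : ↥(A4 q C)} {l0 : Fˣ} {t0 : ↥(sub (q := q) (F := F) C.P3)} {z0 ξ : F}
  {h1 h2 : ↥(sub (q := q) (F := F) ({D.c, C.w} : Finset (Fin 4)))}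

namespace FourData.Rel

variable (R : D.Rel hu j p ρ k0 l0 t0 z0 ξ h1 h2)
include R

theorem mem_genC {r d : F} (hE : IsE σ C.e (r • cv D.c) d) :
    j ⟨_, D.eSc_mem hu hE⟩ ∈ D.N hu j p :=
  Subgroup.mem_sup_left (Subgroup.subset_closure ⟨r, d, _, hE, rfl⟩)

theorem mem_genW {r d : F} (hE : IsE σ C.e (r • cv C.w) d) :
    D.ψ hu j p ⟨_, FourData.eSw_mem hu hE⟩ ∈ D.N hu j p :=
  Subgroup.mem_sup_right (Subgroup.subset_closure ⟨r, d, _, hE, rfl⟩)

theorem N_fix {m : P} (hm : m ∈ D.N hu j p) (hfix : mat (ρ m) *ᵥ cv C.w = cv C.w) :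
    m ∈ j.range := by
  let A := Subgroup.closure (D.genC hu j)
  let W := Subgroup.closure (D.genW hu j p)
  have hAW : ∀ a ∈ A, ∀ w ∈ W, Commute a w := by
    intro a ha w hw
    induction ha using Subgroup.closure_induction with
    | one => exact Commute.one_left _
    | mul a b _ _ e e' => exact e.mul_left e'
    | inv a _ e => exact e.inv_left
    | mem a ha =>
      induction hw using Subgroup.closure_induction with
      | one => exact Commute.one_right _
      | mul a b _ _ e e' => exact e.mul_right e'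
      | inv a _ e => exact e.inv_right
      | mem w hw =>
        obtain ⟨x, d, _, hE, rfl⟩ := ha
        obtain ⟨α, b, _, hS, rfl⟩ := hw
        exact R.rad_all x α d b hE hS
  let N' : Subgroup P :=
    { carrier := {x | ∃ a ∈ A, ∃ w ∈ W, x = a * w}
      one_mem' := ⟨1, one_mem _, 1, one_mem _, by simp⟩
      mul_mem' := by
        rintro _ _ ⟨a, ha, w, hw, rfl⟩ ⟨a', ha', w', hw', rfl⟩
        refine ⟨a * a', mul_mem ha ha', w * w', mul_mem hw hw', ?_⟩
        calc a * w * (a' * w') = a * (w * a') * w' := by group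
          _ = _ := by rw [← (hAW a' ha' w hw).eq]; group
      inv_mem' := by
        rintro _ ⟨a, ha, w, hw, rfl⟩
        refine ⟨a⁻¹, inv_mem ha, w⁻¹, inv_mem hw, ?_⟩
        rw [_root_.mul_inv_rev, (hAW _ (inv_mem ha) _ (inv_mem hw)).eq] }
  obtain ⟨a, ha, w, hw, rfl⟩ : m ∈ N' :=
    (show D.N hu j p ≤ N' from sup_le (fun a ha => ⟨a, ha, 1, one_mem _, by simp⟩)
      fun w hw => ⟨1, one_mem _, w, hw, by simp⟩) hm
  obtain ⟨g, rfl⟩ : a ∈ j.range := (show A ≤ j.range from (Subgroup.closure_le _).2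
    fun _ ⟨_, _, _, _, e⟩ => ⟨_, e.symm⟩) ha
  obtain ⟨t, rfl⟩ : w ∈ (D.ψ hu j p).range := (show W ≤ (D.ψ hu j p).range from
    (Subgroup.closure_le _).2 fun _ ⟨_, _, _, _, e⟩ => ⟨_, e.symm⟩) hw
  rw [map_mul, R.hj, R.ρψ, mat_mul_mulVec] at hfix
  have ht : mat (t : Su 4 F q) *ᵥ cv C.w = cv C.w := by
    calc mat (t : Su 4 F q) *ᵥ cv C.w
        = mat (g : Su 4 F q)⁻¹ *ᵥ (mat (g : Su 4 F q) *ᵥ (mat (t : Su 4 F q) *ᵥ cv C.w)) := by
          rw [mat_inv_mulVec]
      _ = _ := by rw [hfix, fix_of_mem_erase (inv_mem g.2)]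
  have htp : (t : Su 4 F q) ∈ sub C.P2 := by
    refine sub_mono (fun i hi => ?_) (mem_sub_erase t.2 ht)
    simp only [Fw.P3, Finset.mem_erase, Finset.mem_insert, Finset.mem_singleton] at hi
    simp only [Fw.P2, Finset.mem_insert, Finset.mem_singleton]
    tauto
  rw [← R.agree ⟨_, sub_mono (P2_le C) htp⟩ t rfl]
  exact mul_mem ⟨g, rfl⟩ ⟨_, rfl⟩

/-- Elements of the plane fixing the first line normalise the unipotent group. -/
theorem plane_norm {x : Su 4 F q} (hx : x ∈ sub C.P2) {l : F} (hl : mat x *ᵥ C.e = l • C.e) :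
    ∀ m ∈ D.N hu j p,
      j ⟨x, sub_mono (P2_le C) hx⟩ * m * (j ⟨x, sub_mono (P2_le C) hx⟩)⁻¹ ∈ D.N hu j p := by
  have hxi : ∀ i : Fin 4, i ∉ C.P2 → ∀ r : F, mat x *ᵥ (r • cv i) = r • cv i := fun i hi r => by
    rw [Matrix.mulVec_smul, hx i hi]
  suffices hle : D.N hu j p ≤
      (D.N hu j p).comap (MulAut.conj (j ⟨x, sub_mono (P2_le C) hx⟩)).toMonoidHom from
    fun m hm => hle hm
  refine sup_le ((Subgroup.closure_le _).2 ?_) ((Subgroup.closure_le _).2 ?_)
  · rintro _ ⟨r, d, hm, hE, rfl⟩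
    have h2 : IsE σ C.e ((σ l * r) • cv D.c) (l * σ l * d) := by
      simpa only [smul_smul] using hE.smul hu l
    show j _ * j _ * (j _)⁻¹ ∈ D.N hu j p
    rw [← map_inv, ← map_mul, ← map_mul]
    rw [show (⟨x, sub_mono (P2_le C) hx⟩ : ↥(A4 q C)) * ⟨_, hm⟩ *
        (⟨x, sub_mono (P2_le C) hx⟩)⁻¹ = ⟨_, D.eSc_mem hu h2⟩ from Subtype.ext (by
      show x * eS hu C.e (r • cv D.c) d * x⁻¹ = _
      rw [suConj hu x hE, hl, hxi D.c (by simp [Fw.P2, D.hca, D.hcb]) r, eS_smul hu hE, smul_smul])]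
    exact R.mem_genC h2
  · rintro _ ⟨r, d, hm, hE, rfl⟩
    have h2 : IsE σ C.e ((σ l * r) • cv C.w) (l * σ l * d) := by
      simpa only [smul_smul] using hE.smul hu l
    show j _ * D.ψ hu j p _ * (j _)⁻¹ ∈ D.N hu j p
    rw [R.agree ⟨x, sub_mono (P2_le C) hx⟩ ⟨x, sub_mono C.P2_sub hx⟩ rfl, ← map_inv, ← map_mul,
      ← map_mul]
    rw [show (⟨x, sub_mono C.P2_sub hx⟩ : ↥(sub (q := q) (F := F) C.P3)) * ⟨_, hm⟩ *
        (⟨x, sub_mono C.P2_sub hx⟩)⁻¹ = ⟨_, FourData.eSw_mem hu h2⟩ from Subtype.ext (by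
      show x * eS hu C.e (r • cv C.w) d * x⁻¹ = _
      rw [suConj hu x hE, hl, hxi C.w C.w_notMem r, eS_smul hu hE, smul_smul])]
    exact R.mem_genW h2

/-- The section on the fourth and third coordinates normalises the unipotent group. -/
theorem N_conj (h : ↥(sub (q := q) (F := F) ({D.c, C.w} : Finset (Fin 4)))) :
    ∀ m ∈ D.N hu j p, D.κ hu j p h * m * (D.κ hu j p h)⁻¹ ∈ D.N hu j p := by
  have hP := C.hp hu
  set N := D.N hu j p
  -- the generators of the section
  have gens : ∀ g, g = h1 ∨ g = h2 → ∀ m ∈ N, D.κ hu j p g * m * (D.κ hu j p g)⁻¹ ∈ N := by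
    intro g hg
    set φ := (MulAut.conj (D.κ hu j p g)).toMonoidHom
    have m0 : ∀ {δ : F}, IsE σ C.e 0 δ → eS hu C.e 0 δ ∈ sub C.P2 := fun hδ =>
      eS_mem_sub hu hδ C.e_supp fun _ _ => rfl
    have centre : ∀ {δ : F} (hδ : IsE σ C.e 0 δ),
        φ (j ⟨_, sub_mono (P2_le C) (m0 hδ)⟩) = j ⟨_, sub_mono (P2_le C) (m0 hδ)⟩ := fun hδ => by
      show D.κ hu j p g * _ * (D.κ hu j p g)⁻¹ = _
      rw [← (R.κ_plane _ (m0 hδ) g).eq, mul_inv_cancel_right]
    -- the good scalars on either coordinate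
    have side : ∀ (i : Fin 4) (U : Subgroup (Su 4 F q)) (J : ↥U →* P)
        (hU : ∀ {r d : F}, IsE σ C.e (r • cv i) d → eS hu C.e (r • cv i) d ∈ U)
        (hplane : ∀ (x : Su 4 F q) (hx : x ∈ sub C.P2) (hx' : x ∈ U),
          J ⟨x, hx'⟩ = j ⟨x, sub_mono (P2_le C) hx⟩)
        (hsc : sub C.P2 ≤ U) (hi : i ≠ C.a ∧ i ≠ C.b)
        (hgenN : ∀ {r d : F} (hE : IsE σ C.e (r • cv i) d), J ⟨_, hU hE⟩ ∈ N)
        (hseed : ∀ r : F, r = 1 ∨ r = ξ → ∃ (d : F) (hE : IsE σ C.e (r • cv i) d),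
          φ (J ⟨_, hU hE⟩) ∈ N)
        (hNplane : ∀ (x : Su 4 F q) (hx : x ∈ sub C.P2) (l : F), mat x *ᵥ C.e = l • C.e → ∀ m ∈ N,
          j ⟨x, sub_mono (P2_le C) hx⟩ * m * (j ⟨x, sub_mono (P2_le C) hx⟩)⁻¹ ∈ N),
        ∀ (r d : F) (hE : IsE σ C.e (r • cv i) d), φ (J ⟨_, hU hE⟩) ∈ N := by
      intro i U J hU hplane hsc hi hgenN hseed hNplane
      have anyd : ∀ r, (∃ (d : F) (hE : IsE σ C.e (r • cv i) d), φ (J ⟨_, hU hE⟩) ∈ N) →
          ∀ (d : F) (hE : IsE σ C.e (r • cv i) d), φ (J ⟨_, hU hE⟩) ∈ N := by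
        rintro r ⟨d, hE, h⟩ d' hE'
        have hδ : IsE σ C.e 0 (d' - d) := isE_zero hP.ee (by
          rw [map_sub]; linear_combination hE'.tr - hE.tr)
        have hδi : IsE σ C.e ((0 : F) • cv i) (d' - d) := by simpa using hδ
        have e : (⟨_, hU hE'⟩ : ↥U) = ⟨_, hU hE⟩ * ⟨_, hU hδi⟩ := Subtype.ext (by
          show eS hu C.e (r • cv i) d' = eS hu C.e (r • cv i) d * eS hu C.e ((0 : F) • cv i) (d' - d)
          rw [eS_mul hu hE hδi, zero_smul, add_zero, map_zero, sub_zero, add_sub_cancel])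
        have hx : eS hu C.e ((0 : F) • cv i) (d' - d) ∈ sub C.P2 := by simpa using m0 hδ
        rw [e, map_mul, map_mul, hplane _ hx]
        refine mul_mem h ?_
        have hc := centre hδ
        have hh := hgenN hδi
        rw [hplane _ hx] at hh
        have heq : (⟨_, sub_mono (P2_le C) hx⟩ : ↥(A4 q C)) = ⟨_, sub_mono (P2_le C) (m0 hδ)⟩ :=
          Subtype.ext (by simp)
        rw [heq] at hh ⊢
        rwa [hc]
      let S : AddSubgroup F :=
        { carrier := {r | ∀ (d : F) (hE : IsE σ C.e (r • cv i) d), φ (J ⟨_, hU hE⟩) ∈ N}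
          zero_mem' := fun d hE => by
            have hδ : IsE σ C.e (0 : Vn 4 F) d := by simpa using hE
            have hx : eS hu C.e ((0 : F) • cv i) d ∈ sub C.P2 := by simpa using m0 hδ
            have hh := hgenN hE
            rw [hplane _ hx] at hh ⊢
            have heq : (⟨_, sub_mono (P2_le C) hx⟩ : ↥(A4 q C)) = ⟨_, sub_mono (P2_le C) (m0 hδ)⟩ :=
              Subtype.ext (by simp)
            rw [heq] at hh ⊢
            rwa [centre hδ]
          add_mem' := by
            intro r r' hr hr'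
            obtain ⟨d, hd⟩ := exists_isE hu (C := C) hi.1 hi.2 r
            obtain ⟨d', hd'⟩ := exists_isE hu (C := C) hi.1 hi.2 r'
            have h12 : IsE σ C.e ((r + r') • cv i) (d + d' - hB 4 σ (r • cv i) (r' • cv i)) := by
              rw [add_smul]; exact hd.mul hu hd'
            refine anyd _ ⟨_, h12, ?_⟩
            rw [show (⟨_, hU h12⟩ : ↥U) = ⟨_, hU hd⟩ * ⟨_, hU hd'⟩ from Subtype.ext (by
              show eS hu C.e ((r + r') • cv i) _ =
                eS hu C.e (r • cv i) d * eS hu C.e (r' • cv i) d'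
              rw [eS_mul hu hd hd', ← add_smul]), map_mul, map_mul]
            exact mul_mem (hr d hd) (hr' d' hd')
          neg_mem' := by
            intro r hr
            obtain ⟨d, hd⟩ := exists_isE hu (C := C) hi.1 hi.2 r
            obtain ⟨-, hie⟩ := eS_inv' hu hd
            have hn : IsE σ C.e ((-r) • cv i) (σ d) := by
              rw [neg_smul]; exact (eS_inv' hu hd).1
            refine anyd _ ⟨_, hn, ?_⟩
            rw [show (⟨_, hU hn⟩ : ↥U) = (⟨_, hU hd⟩)⁻¹ from Subtype.ext (by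
              show eS hu C.e ((-r) • cv i) (σ d) = (eS hu C.e (r • cv i) d)⁻¹
              rw [hie, neg_smul]), map_inv, map_inv]
            exact inv_mem (hr d hd) }
      have hS : ∀ r, r ∈ S := fix_span hu R.hξ (anyd 1 (hseed 1 (Or.inl rfl)))
        (anyd ξ (hseed ξ (Or.inr rfl))) (by
          intro s hs hs0 r hr
          obtain ⟨x, hx, hxe⟩ := exists_plane_dil hu C hs hs0
          obtain ⟨d, hd⟩ := exists_isE hu (C := C) hi.1 hi.2 r
          have h2 : IsE σ C.e ((s * r) • cv i) (s * s * d) := by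
            have := hd.smul hu s
            rwa [hs, smul_smul] at this
          refine anyd _ ⟨_, h2, ?_⟩
          have hxi : mat x *ᵥ cv i = cv i := hx i (by simp [Fw.P2, hi.1, hi.2])
          have e : (⟨_, hU h2⟩ : ↥U) = ⟨x, hsc hx⟩ * ⟨_, hU hd⟩ * (⟨x, hsc hx⟩)⁻¹ :=
            Subtype.ext (by
              show _ = x * eS hu C.e (r • cv i) d * x⁻¹
              rw [suConj hu x hd, hxe, Matrix.mulVec_smul, hxi, eS_smul hu hd, hs, smul_smul])
          have ex : φ (J ⟨x, hsc hx⟩) = j ⟨x, sub_mono (P2_le C) hx⟩ := by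
            rw [hplane x hx (hsc hx)]
            show D.κ hu j p g * _ * (D.κ hu j p g)⁻¹ = _
            rw [← (R.κ_plane x hx g).eq, mul_inv_cancel_right]
          rw [e, map_mul, map_mul, map_inv, map_mul, map_mul, map_inv, ex]
          exact hNplane x hx s hxe _ (hr d hd))
      exact fun r d hE => hS r d hE
    have hNplane : ∀ (x : Su 4 F q) (hx : x ∈ sub C.P2) (l : F), mat x *ᵥ C.e = l • C.e → ∀ m ∈ N,
        j ⟨x, sub_mono (P2_le C) hx⟩ * m * (j ⟨x, sub_mono (P2_le C) hx⟩)⁻¹ ∈ N :=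
      fun x hx l hl => R.plane_norm hx hl
    have hle : N ≤ N.comap φ := by
      refine sup_le ((Subgroup.closure_le _).2 ?_) ((Subgroup.closure_le _).2 ?_)
      · rintro _ ⟨r, d, _, hE, rfl⟩
        exact side D.c (A4 q C) j (fun hE => D.eSc_mem hu hE) (fun x hx hx' => rfl)
          (sub_mono (P2_le C)) ⟨D.hca, D.hcb⟩ (fun hE => R.mem_genC hE)
          (fun r hr => by
            obtain ⟨d, _, hE, hh⟩ := (R.norm g hg r hr).1
            exact ⟨d, hE, hh⟩) hNplane r d hE
      · rintro _ ⟨r, d, _, hE, rfl⟩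
        exact side C.w (sub C.P3) (D.ψ hu j p) (fun hE => FourData.eSw_mem hu hE)
          (fun x hx hx' => (R.agree ⟨x, sub_mono (P2_le C) hx⟩ ⟨x, hx'⟩ rfl).symm)
          (sub_mono C.P2_sub) ⟨C.haw.symm, C.hbw.symm⟩ (fun hE => R.mem_genW hE)
          (fun r hr => by
            obtain ⟨d, _, hE, hh⟩ := (R.norm g hg r hr).2
            exact ⟨d, hE, hh⟩) hNplane r d hE
    exact fun m hm => hle hm
  have hh : h ∈ Subgroup.closure
      ({h1, h2} : Set ↥(sub (q := q) (F := F) ({D.c, C.w} : Finset (Fin 4)))) :=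
    R.hgen ▸ Subgroup.mem_top h
  induction hh using Subgroup.closure_induction with
  | mem y hy => exact gens y hy
  | one => intro m hm; simpa using hm
  | mul y y' _ _ e e' =>
    intro m hm
    rw [map_mul, show D.κ hu j p y * D.κ hu j p y' * m * (D.κ hu j p y * D.κ hu j p y')⁻¹ =
      D.κ hu j p y * (D.κ hu j p y' * m * (D.κ hu j p y')⁻¹) * (D.κ hu j p y)⁻¹ by group]
    exact e _ (e' m hm)
  | inv y _ e =>
    have hpow : ∀ k : ℕ, ∀ m ∈ N,
        D.κ hu j p (y ^ k) * m * (D.κ hu j p (y ^ k))⁻¹ ∈ N := by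
      intro k
      induction k with
      | zero => intro m hm; simpa using hm
      | succ k ih =>
        intro m hm
        rw [pow_succ', map_mul, show D.κ hu j p y * D.κ hu j p (y ^ k) * m *
          (D.κ hu j p y * D.κ hu j p (y ^ k))⁻¹ =
          D.κ hu j p y * (D.κ hu j p (y ^ k) * m * (D.κ hu j p (y ^ k))⁻¹) * (D.κ hu j p y)⁻¹ by group]
        exact e _ (ih m hm)
    have hy : y⁻¹ = y ^ (orderOf y - 1) := by
      refine inv_eq_of_mul_eq_one_right ?_
      rw [← pow_succ', Nat.sub_add_cancel (orderOf_pos y), pow_orderOf_eq_one]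
    rw [hy]
    exact hpow _

theorem injective : Function.Injective ρ := by
  have hP := C.hp hu
  set ψ := D.ψ hu j p
  have hc3 : C.rest (Finset.univ : Finset (Fin 4)) = {D.c} := D.rest_eq
  have H : Hyp hu C (Finset.univ : Finset (Fin 4)) ρ j ψ :=
    { hj := R.hj
      hψ := R.ρψ
      agree := R.agree
      gen := R.gen_top
      twist := R.twist_all
      tor := R.tor_all
      rad := by
        intro a t y d α b hy hE hS hae hte
        rw [hc3] at hy
        have hy' : y = y D.c • cv D.c := by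
          conv_lhs => rw [hy.eq_sum, Finset.sum_singleton]
        have hE' : IsE σ C.e (y D.c • cv D.c) d := hy' ▸ hE
        rw [show a = ⟨_, D.eSc_mem hu hE'⟩ from Subtype.ext (by rw [hae]; exact congrArg (eS hu C.e · d) hy'),
          show t = ⟨_, FourData.eSw_mem hu hS⟩ from Subtype.ext hte]
        exact R.rad_all _ _ _ _ hE' hS
      anis := by
        intro a t haa htaw
        refine R.anis a t (fun i hi => ?_) htaw
        simp only [Finset.mem_insert, Finset.mem_singleton, not_or] at hi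
        rcases D.univ_cases i with rfl | rfl | rfl | rfl
        · exact haa _ (by simp)
        · exact absurd rfl hi.1
        · exact fix_of_mem_erase a.2
        · exact absurd rfl hi.2
      slide := by
        intro x z hx hne hnorm t α b hS hte
        rw [hc3] at hx
        have hx' : x = x D.c • cv D.c := by
          conv_lhs => rw [hx.eq_sum, Finset.sum_singleton]
        have hxc : x D.c ≠ 0 := fun h0 => hne (by rw [hx', h0, zero_smul])
        have hv1 : hB 4 σ (x + z • cv C.w) (x + z • cv C.w) = 1 := by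
          simp [hB_cv, hB_cv_right, hx C.w (by simp [D.hcw.symm])]
          linear_combination hnorm
        have hw0 : (cv C.w : Vn 4 F) ≠ 0 := by simp [cv]
        obtain ⟨h, hh, hhw⟩ := exists_su_move hu (S := {D.c, C.w}) (v := cv C.w)
          (v' := x + z • cv C.w) (supp_cv (by simp))
          ((hx.mono (by simp)).add ((supp_cv (by simp)).smul z)) hw0
          (fun h0 => by rw [h0, map_zero] at hv1; exact zero_ne_one hv1)
          (by rw [hv1, hB_cv_cv, if_pos rfl])
          (Or.inr ⟨by rw [Finset.card_pair D.hcw], by simp [hB_cv_cv]⟩)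
        set κh := D.κ hu j p ⟨h, hh⟩ with hκh
        set κ' := σ (σ α * z / x D.c)
        obtain ⟨d, hE⟩ := exists_isE hu (C := C) D.hca D.hcb κ'
        set r : ↥(A4 q C) := ⟨_, D.eSc_mem hu hE⟩
        set v0 := x + z • cv C.w
        have hv0 : mat (t : Su 4 F q) *ᵥ v0 = mat (r : Su 4 F q) *ᵥ v0 := by
          show _ = mat (eS hu C.e (κ' • cv D.c) d) *ᵥ v0
          rw [hte, eS_mulVec hu hS, eS_mulVec hu hE]
          have e1 : hB 4 σ C.e v0 = 0 := by
            have : hB 4 σ C.e x = 0 := by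
              rw [hx', map_smul, hB_cv_right, C.e_supp D.c (by simp [Fw.P2, D.hca, D.hcb])]
              simp
            simp [v0, this, hB_cv_right, C.e_w]
          have e2 : hB 4 σ (α • cv C.w) v0 = σ α * z := by
            simp [v0, hB_cv, hx C.w (by simp [D.hcw.symm])]
          have e3 : hB 4 σ (κ' • cv D.c) v0 = σ α * z := by
            simp [v0, κ', hB_cv, hu.invol, D.hcw]
            field_simp
          rw [e1, e2, e3]
          simp
        set m := (j r)⁻¹ * ψ t
        have hm : m ∈ D.N hu j p := by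
          refine mul_mem (inv_mem (R.mem_genC hE)) ?_
          rw [show t = ⟨_, FourData.eSw_mem hu hS⟩ from Subtype.ext hte]
          exact R.mem_genW hS
        have hm2 := R.N_conj ⟨h, hh⟩⁻¹ m hm
        rw [map_inv, inv_inv] at hm2
        have hρκ : ρ κh = h := R.ρκ _
        have hfix : mat (ρ (κh⁻¹ * m * κh)) *ᵥ cv C.w = cv C.w := by
          rw [map_mul, map_mul, mat_mul_mulVec, mat_mul_mulVec, map_inv, hρκ, hhw,
            map_mul ρ (j r)⁻¹, map_inv, R.hj, R.ρψ, mat_mul_mulVec, hv0, mat_inv_mulVec, ← hhw,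
            mat_inv_mulVec]
        obtain ⟨a0, ha0⟩ := R.N_fix hm2 hfix
        set M0 : ↥(A4 q C) := ⟨D.m0, sub_mono D.ac_le D.hm0⟩
        set s : ↥(sub (q := q) (F := F) C.P3) :=
          ⟨_, sub_mono (aw_le C) (D.cw_conj_mem hu ⟨h, hh⟩)⟩
        have hκe : κh = j M0 * ψ s * (j M0)⁻¹ := D.κ_apply hu j p _
        refine ⟨M0, s, ?_, r * M0, s, M0⁻¹ * a0 * M0, ?_⟩
        · show mat (D.m0 * (D.m0⁻¹ * h * D.m0)) *ᵥ _ = _
          rw [show D.m0 * (D.m0⁻¹ * h * D.m0) = h * D.m0 by group, mat_mul_mulVec,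
            D.hm0 C.w (by simp [C.haw.symm, D.hcw.symm]), hhw]
        · rw [map_mul j r, map_mul, map_mul, map_inv, ha0, show D.κ hu j p ⟨h, hh⟩ = _ from hκe]
          simp only [m]
          group }
  exact H.injective hu (Finset.mem_univ _) (Finset.mem_univ _) (Finset.mem_univ _)

end FourData.Rel

end Cfsg.Agent.SUShort
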