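import Cfsg.Agent.S2284
import Mathlib.GroupTheory.SpecificGroups.Alternating.Simple

/-!
# Even permutations moving sets, and generators of the stabiliser of a set
-/

set_option autoImplicit false

namespace Cfsg.Agent.SUShort

open Equiv

variable {n : ℕ}

/-- A permutation fixing `A` and carrying one set onto another. -/
theorem exists_map_fix (A : Finset (Fin n)) :
    ∀ (m : ℕ) (B₁ B₂ : Finset (Fin n)), (B₁ \ B₂).card = m → B₁.card = B₂.card → Disjoint A B₁ →
      Disjoint A B₂ → ∃ σ : Perm (Fin n), (∀ i ∈ A, σ i = i) ∧ B₁.image σ = B₂ := by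
  intro m
  induction m with
  | zero =>
    intro B₁ B₂ h hc _ _
    refine ⟨1, fun i _ => rfl, ?_⟩
    rw [Finset.card_eq_zero, Finset.sdiff_eq_empty_iff_subset] at h
    rw [Finset.eq_of_subset_of_card_le h hc.ge]
    simp
  | succ m ih =>
    intro B₁ B₂ h hc h1 h2
    obtain ⟨i, hi⟩ : (B₁ \ B₂).Nonempty := by rw [← Finset.card_pos]; omega
    obtain ⟨k, hk⟩ : (B₂ \ B₁).Nonempty := by
      rw [← Finset.card_pos]
      have e1 := Finset.card_sdiff_add_card_inter B₁ B₂
      have e2 := Finset.card_sdiff_add_card_inter B₂ B₁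
      rw [Finset.inter_comm] at e2
      omega
    rw [Finset.mem_sdiff] at hi hk
    have hiA : i ∉ A := fun h' => Finset.disjoint_left.1 h1 h' hi.1
    have hkA : k ∉ A := fun h' => Finset.disjoint_left.1 h2 h' hk.1
    have himg : B₁.image (swap i k) = insert k (B₁.erase i) := by
      ext x
      simp only [Finset.mem_image, Finset.mem_insert, Finset.mem_erase]
      constructor
      · rintro ⟨y, hy, rfl⟩
        by_cases hyi : y = i
        · left; rw [hyi, swap_apply_left]
        · right
          rw [swap_apply_of_ne_of_ne hyi (fun (h' : y = k) => hk.2 (h' ▸ hy))]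
          exact ⟨hyi, hy⟩
      · rintro (rfl | ⟨hxi, hx⟩)
        · exact ⟨i, hi.1, swap_apply_left _ _⟩
        · exact ⟨x, hx, swap_apply_of_ne_of_ne hxi fun (h' : x = k) => hk.2 (h' ▸ hx)⟩
    obtain ⟨σ, hσ, hσ'⟩ := ih (insert k (B₁.erase i)) B₂
      (by
        rw [Finset.insert_sdiff_of_mem _ hk.1, Finset.erase_sdiff_comm,
          Finset.card_erase_of_mem (Finset.mem_sdiff.2 hi), h]
        rfl)
      (by
        rw [Finset.card_insert_of_notMem (fun h' => hk.2 (Finset.mem_of_mem_erase h')),
          Finset.card_erase_of_mem hi.1, ← hc]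
        have := Finset.card_pos.2 ⟨i, hi.1⟩
        omega)
      (by
        rw [Finset.disjoint_left]
        intro x hx hx'
        simp only [Finset.mem_insert, Finset.mem_erase] at hx'
        rcases hx' with rfl | ⟨-, hx'⟩
        exacts [hkA hx, Finset.disjoint_left.1 h1 hx hx'])
      h2
    refine ⟨σ * swap i k, fun x hx => ?_, ?_⟩
    · rw [Perm.mul_apply, swap_apply_of_ne_of_ne (fun (h' : x = i) => hiA (h' ▸ hx))
        (fun (h' : x = k) => hkA (h' ▸ hx)), hσ x hx]
    · rw [Perm.coe_mul, ← Finset.image_image, himg, hσ']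

/-- Even permutations carry pairs of disjoint sets to pairs of disjoint sets. -/
theorem exists_even_sets {A B A' B' : Finset (Fin n)} (hA : A.card = A'.card) (h2 : 2 ≤ A.card)
    (hB : B.card = B'.card) (hAB : Disjoint A B) (hAB' : Disjoint A' B') :
    ∃ π : ↥(alternatingGroup (Fin n)), A.image π.1 = A' ∧ B.image π.1 = B' := by
  obtain ⟨σ, -, hσ⟩ := exists_map_fix ∅ _ A A' rfl hA (Finset.disjoint_empty_left _)
    (Finset.disjoint_empty_left _)
  have hd : Disjoint A' (B.image σ) := by
    rw [← hσ, Finset.disjoint_image σ.injective]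
    exact hAB
  obtain ⟨τ, hτA, hτ⟩ := exists_map_fix A' _ (B.image σ) B' rfl
    (by rw [Finset.card_image_of_injective _ σ.injective, hB]) hd hAB'
  have himA : A'.image τ = A' := by
    ext x
    simp only [Finset.mem_image]
    exact ⟨fun ⟨y, hy, e⟩ => by rw [← e, hτA y hy]; exact hy, fun hx => ⟨x, hx, hτA x hx⟩⟩
  have eA : A.image (τ * σ) = A' := by rw [Perm.coe_mul, ← Finset.image_image, hσ, himA]
  have eB : B.image (τ * σ) = B' := by rw [Perm.coe_mul, ← Finset.image_image, hτ]
  rcases Int.units_eq_one_or (Perm.sign (τ * σ)) with h | h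
  · exact ⟨⟨τ * σ, h⟩, eA, eB⟩
  · obtain ⟨x, hx, y, hy, hxy⟩ := Finset.one_lt_card.1 (show 1 < A.card by omega)
    have hs : Perm.sign (τ * σ * swap x y) = 1 := by
      rw [Perm.sign_mul, h, Perm.sign_swap hxy]; rfl
    have fixA : A.image (swap x y) = A := by
      ext z
      simp only [Finset.mem_image]
      constructor
      · rintro ⟨w, hw, rfl⟩
        by_cases h1 : w = x
        · rw [h1, swap_apply_left]; exact hy
        by_cases h2 : w = y
        · rw [h2, swap_apply_right]; exact hx
        rw [swap_apply_of_ne_of_ne h1 h2]; exact hw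
      · intro hz
        refine ⟨swap x y z, ?_, swap_apply_self _ _ _⟩
        by_cases h1 : z = x
        · rw [h1, swap_apply_left]; exact hy
        by_cases h2 : z = y
        · rw [h2, swap_apply_right]; exact hx
        rw [swap_apply_of_ne_of_ne h1 h2]; exact hz
    have fixB : B.image (swap x y) = B := by
      refine (Finset.image_congr fun z hz => ?_).trans Finset.image_id
      exact swap_apply_of_ne_of_ne (fun h' : z = x => Finset.disjoint_left.1 hAB hx (h' ▸ hz))
        (fun h' : z = y => Finset.disjoint_left.1 hAB hy (h' ▸ hz))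
    exact ⟨⟨τ * σ * swap x y, hs⟩,
      by show A.image ⇑(τ * σ * swap x y) = A'; rw [Perm.coe_mul, ← Finset.image_image, fixA, eA],
      by show B.image ⇑(τ * σ * swap x y) = B'; rw [Perm.coe_mul, ← Finset.image_image, fixB, eB]⟩

/-- An even permutation carrying one set onto another. -/
theorem exists_even_set {A A' : Finset (Fin n)} (hA : A.card = A'.card) (h2 : 2 ≤ A.card) :
    ∃ π : ↥(alternatingGroup (Fin n)), A.image π.1 = A' := by
  obtain ⟨π, h, -⟩ := exists_even_sets (B := ∅) (B' := ∅) hA h2 rfl (Finset.disjoint_empty_right _)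
    (Finset.disjoint_empty_right _)
  exact ⟨π, h⟩

/-- The even permutations of a set are generated by two. -/
theorem exists_alt_pair (S : Finset (Fin n)) :
    ∃ a b : ↥(alternatingGroup (Fin n)), (∀ i, i ∉ S → a.1 i = i) ∧ (∀ i, i ∉ S → b.1 i = i) ∧
      ∀ π : ↥(alternatingGroup (Fin n)), (∀ i, i ∉ S → π.1 i = i) →
        π ∈ Subgroup.closure ({a, b} : Set ↥(alternatingGroup (Fin n))) := by
  classical
  obtain ⟨rels, -, ⟨e⟩⟩ := (S2284.result S.card).2
  let e' := e.trans (Equiv.altCongrHom S.equivFin.symm)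
  let ι : ↥(alternatingGroup ↥S) →* ↥(alternatingGroup (Fin n)) :=
    MonoidHom.mk' (fun π => ⟨Perm.ofSubtype π.1, by
      rw [Perm.mem_alternatingGroup, Perm.sign_ofSubtype]; exact π.2⟩)
      fun π τ => Subtype.ext (map_mul _ _ _)
  let g : Fin 2 → ↥(alternatingGroup (Fin n)) := fun i => ι (e' (PresentedGroup.of i))
  have hfix : ∀ i k, k ∉ S → (g i).1 k = k := fun i k hk =>
    Perm.ofSubtype_apply_of_not_mem _ hk
  refine ⟨g 0, g 1, hfix 0, hfix 1, fun π hπ => ?_⟩
  have hS : ∀ x, π.1 x ∈ S ↔ x ∈ S := fun x => by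
    constructor
    · intro h
      by_contra hx
      exact hx (hπ x hx ▸ h)
    · intro hx
      by_contra h
      exact h ((π.1.injective (hπ _ h)).symm ▸ hx)
  set p : Perm ↥S := π.1.subtypePerm hS
  have hp : Perm.ofSubtype p = π.1 := Perm.ofSubtype_subtypePerm hS fun x hx => by
    by_contra h; exact hx (hπ x h)
  have hp1 : Perm.sign p = 1 := by rw [← Perm.sign_ofSubtype, hp]; exact π.2
  have hπ' : π = ι ⟨p, hp1⟩ := Subtype.ext hp.symm
  rw [hπ']
  obtain ⟨x, hx⟩ := e'.surjective ⟨p, hp1⟩
  rw [← hx]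
  have hmem : x ∈ Subgroup.closure (Set.range (PresentedGroup.of (rels := (↑rels : Set _)))) := by
    rw [PresentedGroup.closure_range_of]; exact Subgroup.mem_top x
  clear hx
  induction hmem using Subgroup.closure_induction with
  | mem y hy =>
    obtain ⟨i, rfl⟩ := hy
    refine Subgroup.subset_closure ?_
    fin_cases i <;> simp [g]
  | one => rw [map_one, map_one]; exact one_mem _
  | mul y y' _ _ h h' => rw [map_mul, map_mul]; exact mul_mem h h'
  | inv y _ h => rw [map_inv, map_inv]; exact inv_mem h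

/-- The even stabiliser of a set from its two parts and one more element. -/
theorem stab_induction {S : Finset (Fin n)} (H : Subgroup ↥(alternatingGroup (Fin n)))
    (hin : ∀ π : ↥(alternatingGroup (Fin n)), (∀ i, i ∉ S → π.1 i = i) → π ∈ H)
    (hout : ∀ π : ↥(alternatingGroup (Fin n)), (∀ i, i ∈ S → π.1 i = i) → π ∈ H)
    {x y u v : Fin n} (hx : x ∈ S) (hy : y ∈ S) (hxy : x ≠ y)
    (hs : 2 ≤ Sᶜ.card → u ∉ S ∧ v ∉ S ∧ u ≠ v ∧
      ∀ s : ↥(alternatingGroup (Fin n)), s.1 = swap x y * swap u v → s ∈ H)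
    (π : ↥(alternatingGroup (Fin n))) (hπ : ∀ i ∈ S, π.1 i ∈ S) : π ∈ H := by
  classical
  have himg : S.image π.1 = S := by
    refine Finset.eq_of_subset_of_card_le (fun z hz => ?_)
      (Finset.card_image_of_injective _ π.1.injective).ge
    obtain ⟨w, hw, rfl⟩ := Finset.mem_image.1 hz
    exact hπ w hw
  have hS : ∀ z, π.1 z ∈ S ↔ z ∈ S := fun z => by
    refine ⟨fun h => ?_, hπ z⟩
    obtain ⟨w, hw, e⟩ := Finset.mem_image.1 (himg.symm ▸ h)
    exact π.1.injective e ▸ hw
  set α : Perm (Fin n) := Perm.ofSubtype (π.1.subtypePerm hS)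
  set β : Perm (Fin n) := α⁻¹ * π.1
  have hα : ∀ i, i ∉ S → α i = i := fun i hi => Perm.ofSubtype_apply_of_not_mem _ hi
  have hβ : ∀ i, i ∈ S → β i = i := fun i hi => by
    show α⁻¹ (π.1 i) = i
    rw [Perm.inv_eq_iff_eq]
    exact (Perm.ofSubtype_apply_of_mem (π.1.subtypePerm hS) hi).symm
  have hαβ : π.1 = α * β := (mul_inv_cancel_left α π.1).symm
  have hsign : Perm.sign α * Perm.sign β = 1 := by
    rw [← Perm.sign_mul, ← hαβ]; exact π.2
  rcases Int.units_eq_one_or (Perm.sign α) with h | h
  · have h' : Perm.sign β = 1 := by rw [h, one_mul] at hsign; exact hsign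
    rw [show π = (⟨α, h⟩ : ↥(alternatingGroup (Fin n))) * ⟨β, h'⟩ from Subtype.ext hαβ]
    exact mul_mem (hin _ hα) (hout _ hβ)
  · have h' : Perm.sign β = -1 := by
      rw [h] at hsign
      rcases Int.units_eq_one_or (Perm.sign β) with e | e
      · rw [e] at hsign; exact absurd hsign (by decide)
      · exact e
    have hc : 2 ≤ Sᶜ.card := by
      by_contra hc
      have : β = 1 := by
        ext i
        by_cases hi : i ∈ S
        · rw [hβ i hi]; rfl
        · have hmem : β i ∈ Sᶜ := by
            rw [Finset.mem_compl]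
            intro hm
            have := hβ _ hm
            exact hi (β.injective this ▸ hm)
          have := Finset.card_le_one.1 (show Sᶜ.card ≤ 1 by omega) _ hmem i (Finset.mem_compl.2 hi)
          rw [this]; rfl
      rw [this, Perm.sign_one] at h'
      exact absurd h' (by decide)
    obtain ⟨hu, hv, huv, hs'⟩ := hs hc
    have e1 : Perm.sign (α * swap x y) = 1 := by rw [Perm.sign_mul, h, Perm.sign_swap hxy]; rfl
    have e2 : Perm.sign (swap x y * swap u v) = 1 := by
      rw [Perm.sign_mul, Perm.sign_swap huv, Perm.sign_swap hxy]; rfl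
    have e3 : Perm.sign (swap u v * β) = 1 := by rw [Perm.sign_mul, h', Perm.sign_swap huv]; rfl
    have e : π = (⟨α * swap x y, e1⟩ : ↥(alternatingGroup (Fin n))) *
        ⟨swap x y * swap u v, e2⟩ * ⟨swap u v * β, e3⟩ := by
      refine Subtype.ext ?_
      show π.1 = α * swap x y * (swap x y * swap u v) * (swap u v * β)
      rw [hαβ, mul_assoc α, ← mul_assoc (swap x y) (swap x y), swap_mul_self, one_mul,
        mul_assoc α, ← mul_assoc (swap u v) (swap u v), swap_mul_self, one_mul]
    rw [e]
    refine mul_mem (mul_mem (hin _ fun i hi => ?_) (hs' _ rfl)) (hout _ fun i hi => ?_)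
    · show α (swap x y i) = i
      rw [swap_apply_of_ne_of_ne (fun h' : i = x => hi (h' ▸ hx)) (fun h' : i = y => hi (h' ▸ hy)),
        hα i hi]
    · show swap u v (β i) = i
      rw [hβ i hi, swap_apply_of_ne_of_ne (fun h' : i = u => hu (h' ▸ hi))
        (fun h' : i = v => hv (h' ▸ hi))]

end Cfsg.Agent.SUShort
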