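import Cfsg.Agent.SUShort.Geom
import Mathlib.LinearAlgebra.Matrix.Permutation

/-!
# Even permutation matrices inside `SU(n, q)`
-/

set_option autoImplicit false

namespace Cfsg.Agent.SUShort

open Matrix Classical.Herm Cfsg.Agent.AutPSU

variable {n q : ℕ} {F : Type*} [Field F]

theorem perm_mem (π : Equiv.Perm (Fin n)) (h : Equiv.Perm.sign π = 1) :
    (⟨(π⁻¹).permMatrix F, by rw [Matrix.det_permutation, map_inv, h]; simp⟩ :
      Matrix.SpecialLinearGroup (Fin n) F) ∈ Cfsg.SU n F q := by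
  intro u v
  show Cfsg.hermForm n F q ((π⁻¹).permMatrix F *ᵥ u) ((π⁻¹).permMatrix F *ᵥ v) = _
  rw [Matrix.permMatrix_mulVec, Matrix.permMatrix_mulVec]
  simp only [Cfsg.hermForm, Function.comp_apply]
  exact Equiv.sum_comp π⁻¹ fun i => u i * v i ^ q

/-- Even permutations act by permuting the coordinates. -/
noncomputable def permSu : ↥(alternatingGroup (Fin n)) →* Su n F q :=
  MonoidHom.mk' (fun π => ⟨_, perm_mem π.1 π.2⟩) fun π τ => su_ext (by
    show ((π.1 * τ.1)⁻¹).permMatrix F = (π.1⁻¹).permMatrix F * (τ.1⁻¹).permMatrix F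
    rw [_root_.mul_inv_rev, Matrix.permMatrix_mul])

theorem permSu_mulVec (π : ↥(alternatingGroup (Fin n))) (x : Vn n F) :
    mat (permSu (q := q) π) *ᵥ x = fun i => x (π.1⁻¹ i) := by
  show (π.1⁻¹).permMatrix F *ᵥ x = _
  rw [Matrix.permMatrix_mulVec]; rfl

theorem permSu_cv (π : ↥(alternatingGroup (Fin n))) (i : Fin n) :
    mat (permSu (q := q) π) *ᵥ (cv i : Vn n F) = cv (π.1 i) := by
  rw [permSu_mulVec]
  funext k
  by_cases h : k = π.1 i
  · subst h; simp
  · have : π.1⁻¹ k ≠ i := fun e => h (by rw [← e]; simp)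
    show cv i (π.1⁻¹ k) = cv (π.1 i) k
    rw [cv, cv, Pi.single_eq_of_ne this, Pi.single_eq_of_ne h]

/-- Conjugation by a permutation moves the coordinate subgroups. -/
theorem permSu_conj_mem (π : ↥(alternatingGroup (Fin n))) {S T : Finset (Fin n)}
    (h : ∀ i, i ∉ T → π.1⁻¹ i ∉ S) {g : Su n F q} (hg : g ∈ sub S) :
    permSu π * g * (permSu π)⁻¹ ∈ sub T := by
  intro i hi
  have e : mat (permSu (q := q) π)⁻¹ *ᵥ (cv i : Vn n F) = cv (π.1⁻¹ i) := by
    rw [← map_inv, permSu_cv]; rfl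
  rw [mat_mul_mulVec, mat_mul_mulVec, e, hg _ (h i hi), permSu_cv]
  simp

theorem permSu_fix {π : ↥(alternatingGroup (Fin n))} {S : Finset (Fin n)}
    (h : ∀ i, i ∉ S → π.1 i = i) : permSu (F := F) (q := q) π ∈ sub S := fun i hi => by
  rw [permSu_cv, h i hi]

end Cfsg.Agent.SUShort
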