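import Cfsg.Agent.SUShort.Five
import Cfsg.Agent.SUShort.PermMat
import Cfsg.Agent.SUShort.AltComb

/-!
# Gluing the alternating group and `SU(4, q)`
-/

set_option autoImplicit false

namespace Cfsg.Agent.SUShort

open Matrix Classical.Herm Cfsg.Agent.AutPSU

variable {n q : ℕ}

/-- The first coordinates. -/
def ini (n k : ℕ) : Finset (Fin n) := Finset.univ.filter fun i => i.val < k

theorem mem_ini {k : ℕ} {i : Fin n} : i ∈ ini n k ↔ i.val < k := by simp [ini]

theorem card_ini {k : ℕ} (h : k ≤ n) : (ini n k).card = k := by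
  have e : ini n k = (Finset.univ : Finset (Fin k)).map (Fin.castLEEmb h) := by
    ext i
    simp only [mem_ini, Finset.mem_map, Finset.mem_univ, true_and]
    exact ⟨fun hi => ⟨⟨i.val, hi⟩, rfl⟩, fun ⟨j, hj⟩ => hj ▸ j.isLt⟩
  rw [e, Finset.card_map, Finset.card_univ, Fintype.card_fin]

theorem ini_mono {k l : ℕ} (h : k ≤ l) : ini n k ⊆ ini n l := fun i hi =>
  mem_ini.2 (lt_of_lt_of_le (mem_ini.1 hi) h)

variable {F : Type*} [Field F]

theorem conj_mem {π : ↥(alternatingGroup (Fin n))} {S T : Finset (Fin n)}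
    (h : ∀ i ∈ S, π.1 i ∈ T) {g : Su n F q} (hg : g ∈ sub S) :
    permSu π * g * (permSu π)⁻¹ ∈ sub T :=
  permSu_conj_mem π (fun i hi hm => hi (by simpa using h _ hm)) hg

/-- Transport of coordinate subgroups along a permutation. -/
noncomputable def tr (π : ↥(alternatingGroup (Fin n))) (S T : Finset (Fin n))
    (h : ∀ i ∈ S, π.1 i ∈ T) :
    ↥(sub (q := q) (F := F) S) →* ↥(sub (q := q) (F := F) T) :=
  MonoidHom.mk' (fun g => ⟨permSu π * (g : Su n F q) * (permSu π)⁻¹, conj_mem h g.2⟩)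
    fun g g' => Subtype.ext (by simp [mul_assoc])

variable {P : Type*} [Group P] (a : ↥(alternatingGroup (Fin n)) →* P)
  (K : ↥(sub (q := q) (F := F) (ini n 4)) →* P)

/-- Conjugation by `a π` agrees with conjugation by the permutation matrix on a coordinate set. -/
def EQ (π : ↥(alternatingGroup (Fin n))) (U : Finset (Fin n)) : Prop :=
  ∀ g g' : ↥(sub (q := q) (F := F) (ini n 4)), (g : Su n F q) ∈ sub U →
    permSu π * (g : Su n F q) * (permSu π)⁻¹ = (g' : Su n F q) → a π * K g * (a π)⁻¹ = K g'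

/-- The section on the image of the first four coordinates. -/
noncomputable def secAt (π : ↥(alternatingGroup (Fin n))) :
    ↥(sub (q := q) (F := F) ((ini n 4).image π.1)) →* P :=
  (MulAut.conj (a π)).toMonoidHom.comp (K.comp (tr π⁻¹ ((ini n 4).image π.1) (ini n 4) fun i hi => by
    obtain ⟨j, hj, rfl⟩ := Finset.mem_image.1 hi
    simpa using hj))

/-- The defining conditions. -/
structure AmRel (ρ : P →* Su n F q) : Prop where
  hn : 5 ≤ n
  hρa : ∀ π, ρ (a π) = permSu π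
  hρK : ∀ g, ρ (K g) = g
  gen : a.range ⊔ K.range = ⊤
  stab : ∀ π : ↥(alternatingGroup (Fin n)), (∀ i ∈ ini n 4, π.1 i ∈ ini n 4) → EQ a K π (ini n 4)
  bridge : ∃ π0 : ↥(alternatingGroup (Fin n)), (∀ i ∈ ini n 3, π0.1 i ∈ ini n 3) ∧
    (∀ i ∈ ini n 4, i ∉ ini n 3 → π0.1 i ∉ ini n 4) ∧ EQ a K π0 (ini n 3)
  mon : ∀ (π : ↥(alternatingGroup (Fin n))) (hπ : ∀ i, i ∉ ini n 4 → π.1 i = i),
    a π = K ⟨permSu π, permSu_fix hπ⟩
  far : ∃ π1 : ↥(alternatingGroup (Fin n)), Disjoint (ini n 3) ((ini n (min 3 (n - 3))).image π1.1) ∧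
    ∀ g g' : ↥(sub (q := q) (F := F) (ini n 4)), (g : Su n F q) ∈ sub (ini n 3) →
      (g' : Su n F q) ∈ sub (ini n (min 3 (n - 3))) → Commute (K g) (a π1 * K g' * (a π1)⁻¹)

namespace AmRel

variable {a K} {ρ : P →* Su n F q}

theorem eq_comp {π π' : ↥(alternatingGroup (Fin n))} {U U' : Finset (Fin n)} (h : EQ a K π U)
    (h' : EQ a K π' U') (hU : ∀ i ∈ U, π.1 i ∈ U') (hU' : U' ⊆ ini n 4) : EQ a K (π' * π) U := by
  intro g g' hg e
  have hm := conj_mem (F := F) (q := q) hU hg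
  have e1 := h g ⟨_, sub_mono hU' hm⟩ hg rfl
  have e2 := h' ⟨_, sub_mono hU' hm⟩ g' hm (by
    rw [← e, map_mul]; show _ * (_ * _ * _) * _ = _; group)
  rw [← e2, ← e1, map_mul]
  group

theorem eq_inv {π : ↥(alternatingGroup (Fin n))} {U : Finset (Fin n)} (h : EQ a K π U)
    (hU : U ⊆ ini n 4) {U' : Finset (Fin n)} (hU' : ∀ i ∈ U', (π⁻¹).1 i ∈ U) : EQ a K π⁻¹ U' := by
  intro g g' hg e
  have hm := conj_mem (F := F) (q := q) hU' hg
  rw [e] at hm
  have e1 := h g' g hm (by rw [← e, map_inv]; group)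
  rw [← e1, map_inv]
  group

theorem eq_mono {π : ↥(alternatingGroup (Fin n))} {U V : Finset (Fin n)} (h : EQ a K π U)
    (hV : V ⊆ U) : EQ a K π V := fun g g' hg => h g g' (sub_mono hV hg)

variable (R : AmRel a K ρ)
include R

theorem key_base (π : ↥(alternatingGroup (Fin n))) (hπ : ∀ i ∈ ini n 3, π.1 i ∈ ini n 3) :
    EQ a K π (ini n 3) := by
  have hn := R.hn
  have h34 : ini n 3 ⊆ ini n 4 := ini_mono (by norm_num)
  obtain ⟨π0, hπ0, hπ03, h0⟩ := R.bridge
  set v : Fin n := ⟨3, by omega⟩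
  have hv : v ∈ ini n 4 := mem_ini.2 (by show 3 < 4; norm_num)
  have hv3 : v ∉ ini n 3 := fun h => by have := mem_ini.1 h; simp [v] at this
  have hi0 := hπ03 v hv hv3
  have himg : ∀ (σ : ↥(alternatingGroup (Fin n))), (∀ i ∈ ini n 3, σ.1 i ∈ ini n 3) →
      ∀ i, σ.1 i ∈ ini n 3 → i ∈ ini n 3 := by
    intro σ hσ i hi
    have e : (ini n 3).image σ.1 = ini n 3 :=
      Finset.eq_of_subset_of_card_le (fun z hz => by
        obtain ⟨w, hw, rfl⟩ := Finset.mem_image.1 hz
        exact hσ w hw) (Finset.card_image_of_injective _ σ.1.injective).ge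
    obtain ⟨w, hw, he⟩ := Finset.mem_image.1 (e.symm ▸ hi)
    exact σ.1.injective he ▸ hw
  have stabv : ∀ σ : ↥(alternatingGroup (Fin n)), (∀ i ∈ ini n 3, σ.1 i ∈ ini n 3) →
      σ.1 v ∈ ini n 4 → EQ a K σ (ini n 3) := fun σ hσ hσv =>
    eq_mono (R.stab σ fun i hi => by
      by_cases h3 : i ∈ ini n 3
      · exact h34 (hσ i h3)
      · have : i = v := by
          have := mem_ini.1 hi
          have h3' : ¬ i.val < 3 := fun h => h3 (mem_ini.2 h)
          exact Fin.ext (by show i.val = 3; omega)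
        rw [this]; exact hσv) h34
  by_cases hiv : π.1 v ∈ ini n 4
  · exact stabv π hπ hiv
  -- move `v` back by the bridge
  set i0 := π0.1 v
  set i := π.1 v
  obtain ⟨σ, hσ3, hσv, hσi⟩ : ∃ σ : ↥(alternatingGroup (Fin n)),
      (∀ l ∈ ini n 3, σ.1 l ∈ ini n 3) ∧ σ.1 v = v ∧ σ.1 i0 = i := by
    by_cases h : i = i0
    · exact ⟨1, fun l hl => hl, rfl, h.symm⟩
    set x : Fin n := ⟨0, by omega⟩
    set y : Fin n := ⟨1, by omega⟩
    have hx : x ∈ ini n 4 := mem_ini.2 (by show 0 < 4; norm_num)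
    have hy : y ∈ ini n 4 := mem_ini.2 (by show 1 < 4; norm_num)
    have hxy : x ≠ y := fun h' => absurd (congrArg Fin.val h') (show ¬ (0 = 1) by norm_num)
    refine ⟨⟨Equiv.swap x y * Equiv.swap i0 i, ?_⟩, fun l hl => ?_, ?_, ?_⟩
    · rw [Equiv.Perm.mem_alternatingGroup, Equiv.Perm.sign_mul, Equiv.Perm.sign_swap hxy,
        Equiv.Perm.sign_swap (Ne.symm h)]
      rfl
    · show Equiv.swap x y (Equiv.swap i0 i l) ∈ _
      rw [Equiv.swap_apply_of_ne_of_ne (fun h' : l = i0 => hi0 (h' ▸ h34 hl))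
        (fun h' : l = i => hiv (h' ▸ h34 hl))]
      by_cases hlx : l = x
      · rw [hlx, Equiv.swap_apply_left]; exact mem_ini.2 (by show 1 < 3; norm_num)
      by_cases hly : l = y
      · rw [hly, Equiv.swap_apply_right]; exact mem_ini.2 (by show 0 < 3; norm_num)
      rw [Equiv.swap_apply_of_ne_of_ne hlx hly]; exact hl
    · show Equiv.swap x y (Equiv.swap i0 i v) = v
      rw [Equiv.swap_apply_of_ne_of_ne (fun h' : v = i0 => hi0 (h' ▸ hv))
        (fun h' : v = i => hiv (h' ▸ hv)),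
        Equiv.swap_apply_of_ne_of_ne (fun h' : v = x => absurd (congrArg Fin.val h')
          (show ¬ (3 = 0) by norm_num)) (fun h' : v = y => absurd (congrArg Fin.val h')
          (show ¬ (3 = 1) by norm_num))]
    · show Equiv.swap x y (Equiv.swap i0 i i0) = i
      rw [Equiv.swap_apply_left, Equiv.swap_apply_of_ne_of_ne (fun h' : i = x => hiv (h' ▸ hx))
        (fun h' : i = y => hiv (h' ▸ hy))]
  set τ := (σ * π0)⁻¹ * π
  have hτ : ∀ l ∈ ini n 3, τ.1 l ∈ ini n 3 := by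
    intro l hl
    refine himg (σ * π0) (fun m hm => hσ3 _ (hπ0 m hm)) _ ?_
    show (σ * π0).1 ((σ * π0).1⁻¹ (π.1 l)) ∈ _
    simpa using hπ l hl
  have hτv : τ.1 v = v := by
    show (σ * π0).1⁻¹ i = v
    rw [Equiv.Perm.inv_eq_iff_eq]
    exact hσi.symm
  have e : π = σ * (π0 * τ) := by simp [τ, mul_assoc]
  rw [e]
  exact eq_comp (eq_comp (stabv τ hτ (hτv.symm ▸ hv)) h0 hτ h34)
    (stabv σ hσ3 (hσv.symm ▸ hv)) (fun l hl => hπ0 _ (hτ l hl)) h34

theorem key_three {π : ↥(alternatingGroup (Fin n))} {U : Finset (Fin n)} (hU : U ⊆ ini n 4)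
    (hc : U.card = 3) (hπ : ∀ i ∈ U, π.1 i ∈ ini n 4) : EQ a K π U := by
  have hn := R.hn
  have h34 : ini n 3 ⊆ ini n 4 := ini_mono (by norm_num)
  have mk : ∀ V : Finset (Fin n), V ⊆ ini n 4 → V.card = 3 → ∃ σ : ↥(alternatingGroup (Fin n)),
      (ini n 3).image σ.1 = V ∧ ∀ i ∈ ini n 4, σ.1 i ∈ ini n 4 := by
    intro V hV hVc
    obtain ⟨σ, hA, hB⟩ := exists_even_sets (A := ini n 3) (B := ini n 4 \ ini n 3) (A' := V)
      (B' := ini n 4 \ V) (by rw [card_ini (by omega), hVc]) (by rw [card_ini (by omega)]; norm_num)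
      (by rw [Finset.card_sdiff_of_subset h34, Finset.card_sdiff_of_subset hV,
        card_ini (n := n) (k := 3) (by omega), hVc]) Finset.disjoint_sdiff Finset.disjoint_sdiff
    refine ⟨σ, hA, fun i hi => ?_⟩
    by_cases h : i ∈ ini n 3
    · exact hV (hA ▸ Finset.mem_image_of_mem _ h)
    · exact (Finset.mem_sdiff.1 (hB ▸ Finset.mem_image_of_mem σ.1 (Finset.mem_sdiff.2 ⟨hi, h⟩))).1
  obtain ⟨σ, hσU, hσ⟩ := mk U hU hc
  obtain ⟨τ, hτU, hτ⟩ := mk (U.image π.1) (fun z hz => by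
      obtain ⟨w, hw, rfl⟩ := Finset.mem_image.1 hz
      exact hπ w hw) (by rw [Finset.card_image_of_injective _ π.1.injective, hc])
  have hσ' : ∀ i ∈ U, (σ⁻¹).1 i ∈ ini n 3 := by
    intro i hi
    obtain ⟨w, hw, rfl⟩ := Finset.mem_image.1 (hσU.symm ▸ hi)
    simpa using hw
  set μ := τ⁻¹ * π * σ
  have hμ : ∀ i ∈ ini n 3, μ.1 i ∈ ini n 3 := by
    intro i hi
    have : π.1 (σ.1 i) ∈ U.image π.1 := Finset.mem_image_of_mem _ (hσU ▸ Finset.mem_image_of_mem _ hi)
    obtain ⟨w, hw, e⟩ := Finset.mem_image.1 (hτU.symm ▸ this)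
    show τ.1⁻¹ (π.1 (σ.1 i)) ∈ _
    rw [← e]; simpa using hw
  have e : π = τ * (μ * σ⁻¹) := by simp [μ, mul_assoc]
  rw [e]
  exact eq_comp (eq_comp (eq_inv (eq_mono (R.stab σ hσ) h34) h34 hσ') (R.key_base μ hμ) hσ' h34)
    (eq_mono (R.stab τ hτ) h34) (fun i hi => hμ _ (hσ' i hi)) h34

theorem secAt_three {π π' : ↥(alternatingGroup (Fin n))} {W : Finset (Fin n)} (hc : W.card = 3)
    (h : W ⊆ (ini n 4).image π.1) (h' : W ⊆ (ini n 4).image π'.1) {g : Su n F q} (hg : g ∈ sub W) :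
    secAt a K π ⟨g, sub_mono h hg⟩ = secAt a K π' ⟨g, sub_mono h' hg⟩ := by
  set U := W.image ⇑(π⁻¹).1
  have hmem : ∀ i ∈ W, (π⁻¹).1 i ∈ U := fun i hi => Finset.mem_image_of_mem _ hi
  have hU : U ⊆ ini n 4 := by
    intro z hz
    obtain ⟨w, hw, rfl⟩ := Finset.mem_image.1 hz
    obtain ⟨m, hm, rfl⟩ := Finset.mem_image.1 (h hw)
    simpa using hm
  have hπ : ∀ z ∈ U, (π'⁻¹ * π).1 z ∈ ini n 4 := by
    intro z hz
    obtain ⟨w, hw, rfl⟩ := Finset.mem_image.1 hz
    obtain ⟨m, hm, rfl⟩ := Finset.mem_image.1 (h' hw)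
    simpa using hm
  have hkey := R.key_three hU
    (by rw [Finset.card_image_of_injective _ (π⁻¹).1.injective, hc]) hπ
  have := hkey ⟨_, sub_mono hU (conj_mem hmem hg)⟩
    ⟨permSu π'⁻¹ * g * (permSu π'⁻¹)⁻¹, conj_mem (fun i hi => by
      obtain ⟨m, hm, rfl⟩ := Finset.mem_image.1 (h' hi)
      simpa using hm) hg⟩ (conj_mem hmem hg) (by
      show _ * (_ * g * _) * _ = _
      simp only [map_mul, map_inv]
      group)
  show a π * K _ * (a π)⁻¹ = a π' * K _ * (a π')⁻¹
  simp only [tr, MonoidHom.mk'_apply]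
  rw [← this]
  simp only [map_mul]
  rw [map_inv a π']
  group

theorem secAt_eq {π π' : ↥(alternatingGroup (Fin n))} {W : Finset (Fin n)}
    (h : W ⊆ (ini n 4).image π.1) (h' : W ⊆ (ini n 4).image π'.1) {g : Su n F q} (hg : g ∈ sub W) :
    secAt a K π ⟨g, sub_mono h hg⟩ = secAt a K π' ⟨g, sub_mono h' hg⟩ := by
  have hn := R.hn
  have c4 : (ini n 4).card = 4 := card_ini (by omega)
  have stab' : ∀ {π π' : ↥(alternatingGroup (Fin n))}, (ini n 4).image π.1 = (ini n 4).image π'.1 →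
      ∀ (g : Su n F q) (hg : g ∈ sub ((ini n 4).image π.1)) (hg' : g ∈ sub ((ini n 4).image π'.1)),
        secAt a K π ⟨g, hg⟩ = secAt a K π' ⟨g, hg'⟩ := by
    intro π π' he g hg hg'
    have hst := R.stab (π'⁻¹ * π) fun i hi => by
      have : π.1 i ∈ (ini n 4).image π'.1 := he ▸ Finset.mem_image_of_mem _ hi
      obtain ⟨m, hm, e⟩ := Finset.mem_image.1 this
      show π'.1⁻¹ (π.1 i) ∈ _
      rw [← e]; simpa using hm
    have b1 : ∀ i ∈ (ini n 4).image π.1, (π⁻¹).1 i ∈ ini n 4 := fun i hi => by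
      obtain ⟨m, hm, rfl⟩ := Finset.mem_image.1 hi
      simpa using hm
    have b2 : ∀ i ∈ (ini n 4).image π'.1, (π'⁻¹).1 i ∈ ini n 4 := fun i hi => by
      obtain ⟨m, hm, rfl⟩ := Finset.mem_image.1 hi
      simpa using hm
    have := hst ⟨_, conj_mem b1 hg⟩ ⟨_, conj_mem b2 hg'⟩ (conj_mem b1 hg) (by
      show _ * (_ * g * _) * _ = _ * g * _
      simp only [map_mul, map_inv]
      group)
    show a π * K _ * (a π)⁻¹ = a π' * K _ * (a π')⁻¹
    simp only [tr, MonoidHom.mk'_apply]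
    rw [← this]
    simp only [map_mul]
    rw [map_inv a π']
    group
  suffices key : ∀ m, ∀ π : ↥(alternatingGroup (Fin n)),
      ((ini n 4).image π.1 \ (ini n 4).image π'.1).card = m →
      ∀ (h : W ⊆ (ini n 4).image π.1), secAt a K π ⟨g, sub_mono h hg⟩ =
        secAt a K π' ⟨g, sub_mono h' hg⟩ from key _ π rfl h
  intro m
  induction m with
  | zero =>
    intro π hm h
    rw [Finset.card_eq_zero, Finset.sdiff_eq_empty_iff_subset] at hm
    exact stab' (Finset.eq_of_subset_of_card_le hm (by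
      rw [Finset.card_image_of_injective _ π.1.injective,
        Finset.card_image_of_injective _ π'.1.injective])) g _ _
  | succ m ih =>
    intro π hm h
    set S := (ini n 4).image π.1
    set S' := (ini n 4).image π'.1
    have cS : S.card = 4 := by rw [Finset.card_image_of_injective _ π.1.injective, c4]
    have cS' : S'.card = 4 := by rw [Finset.card_image_of_injective _ π'.1.injective, c4]
    obtain ⟨i, hi⟩ : (S \ S').Nonempty := by rw [← Finset.card_pos]; omega
    obtain ⟨k, hk⟩ : (S' \ S).Nonempty := by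
      rw [← Finset.card_pos]
      have e1 := Finset.card_sdiff_add_card_inter S S'
      have e2 := Finset.card_sdiff_add_card_inter S' S
      rw [Finset.inter_comm] at e2
      omega
    rw [Finset.mem_sdiff] at hi hk
    have hnot : k ∉ S.erase i := fun h => hk.2 (Finset.mem_of_mem_erase h)
    have cS'' : (insert k (S.erase i)).card = 4 := by
      rw [Finset.card_insert_of_notMem hnot, Finset.card_erase_of_mem hi.1, cS]
    obtain ⟨π'', hπ''⟩ := exists_even_set (A := ini n 4) (A' := insert k (S.erase i))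
      (c4.trans cS''.symm) (by omega)
    have hWS : W ⊆ S.erase i := fun w hw => Finset.mem_erase.2
      ⟨fun e => hi.2 (e ▸ h' hw), h hw⟩
    have hW'' : W ⊆ (ini n 4).image π''.1 := hπ''.symm ▸ hWS.trans (Finset.subset_insert _ _)
    have e1 := R.secAt_three (π := π) (π' := π'') (W := S.erase i)
      (by rw [Finset.card_erase_of_mem hi.1, cS]) (Finset.erase_subset _ _)
      (hπ''.symm ▸ Finset.subset_insert _ _) (sub_mono hWS hg)
    rw [e1]
    refine ih π'' ?_ hW''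
    rw [hπ'', Finset.insert_sdiff_of_mem _ hk.1, Finset.erase_sdiff_comm,
      Finset.card_erase_of_mem (Finset.mem_sdiff.2 hi), hm]
    rfl

theorem exists_cover (S : Finset (Fin n)) (h : S.card ≤ 4) :
    ∃ π : ↥(alternatingGroup (Fin n)), S ⊆ (ini n 4).image π.1 := by
  have hn := R.hn
  obtain ⟨S', hS', hc⟩ := Finset.exists_superset_card_eq (s := S) (n := 4) h
    (by rw [Fintype.card_fin]; omega)
  obtain ⟨π, hπ⟩ := exists_even_set (A := ini n 4) (A' := S')
    (by rw [card_ini (by omega), hc]) (by rw [card_ini (by omega)]; norm_num)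
  exact ⟨π, hπ ▸ hS'⟩

/-- The chosen sections. -/
noncomputable def kap (S : Finset (Fin n)) : ↥(sub (q := q) (F := F) S) →* P :=
  if h : S.card ≤ 4 then
    (secAt a K (R.exists_cover S h).choose).comp
      (Subgroup.inclusion (sub_mono (R.exists_cover S h).choose_spec))
  else 1

theorem kap_eq {S : Finset (Fin n)} (h4 : S.card ≤ 4) {π : ↥(alternatingGroup (Fin n))}
    (hπ : S ⊆ (ini n 4).image π.1) (g : ↥(sub (q := q) (F := F) S)) :
    R.kap S g = secAt a K π ⟨g, sub_mono hπ g.2⟩ := by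
  rw [kap, dif_pos h4]
  exact R.secAt_eq (R.exists_cover S h4).choose_spec hπ g.2

theorem ρ_secAt (π : ↥(alternatingGroup (Fin n)))
    (g : ↥(sub (q := q) (F := F) ((ini n 4).image π.1))) : ρ (secAt a K π g) = g := by
  show ρ (a π * K _ * (a π)⁻¹) = _
  rw [map_mul, map_mul, map_inv, R.hρa, R.hρK]
  show permSu (F := F) (q := q) π * (permSu (F := F) (q := q) π⁻¹ * (g : Su n F q) *
    (permSu (F := F) (q := q) π⁻¹)⁻¹) * (permSu (F := F) (q := q) π)⁻¹ = g
  rw [map_inv]
  group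

theorem kap_conj {S : Finset (Fin n)} (h4 : S.card ≤ 4) (π : ↥(alternatingGroup (Fin n)))
    (g : ↥(sub (q := q) (F := F) S)) {S' : Finset (Fin n)} (hS' : ∀ i ∈ S, π.1 i ∈ S')
    (h4' : S'.card ≤ 4) :
    a π * R.kap S g * (a π)⁻¹ = R.kap S' ⟨_, conj_mem hS' g.2⟩ := by
  obtain ⟨σ, hσ⟩ := R.exists_cover S h4
  have hπσ : S.image π.1 ⊆ (ini n 4).image (π * σ).1 := by
    intro z hz
    obtain ⟨w, hw, rfl⟩ := Finset.mem_image.1 hz
    obtain ⟨m, hm, rfl⟩ := Finset.mem_image.1 (hσ hw)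
    exact Finset.mem_image.2 ⟨m, hm, rfl⟩
  have hmem : permSu π * (g : Su n F q) * (permSu π)⁻¹ ∈ sub (S.image π.1) :=
    conj_mem (fun i hi => Finset.mem_image_of_mem _ hi) g.2
  have h4'' : (S.image π.1).card ≤ 4 := by
    rw [Finset.card_image_of_injective _ π.1.injective]; exact h4
  have e1 : R.kap S' ⟨_, conj_mem hS' g.2⟩ = R.kap (S.image π.1) ⟨_, hmem⟩ := by
    obtain ⟨τ, hτ⟩ := R.exists_cover S' h4'
    rw [R.kap_eq h4' hτ, R.kap_eq h4'' (π := τ) fun z hz => by
      obtain ⟨w, hw, rfl⟩ := Finset.mem_image.1 hz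
      exact hτ (hS' w hw)]
  rw [e1, R.kap_eq h4 hσ, R.kap_eq h4'' hπσ]
  show a π * (a σ * K _ * (a σ)⁻¹) * (a π)⁻¹ = a (π * σ) * K _ * (a (π * σ))⁻¹
  simp only [tr, MonoidHom.mk'_apply, map_mul]
  rw [show ∀ g1 g2 : ↥(sub (q := q) (F := F) (ini n 4)), g1 = g2 →
    a π * (a σ * K g1 * (a σ)⁻¹) * (a π)⁻¹ = a π * a σ * K g2 * (a π * a σ)⁻¹ from
      fun g1 g2 e => by rw [e]; group]
  refine Subtype.ext ?_
  show permSu σ⁻¹ * (g : Su n F q) * (permSu σ⁻¹)⁻¹ =
    permSu (π * σ)⁻¹ * (permSu π * (g : Su n F q) * (permSu π)⁻¹) * (permSu (π * σ)⁻¹)⁻¹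
  simp only [map_mul, map_inv, _root_.mul_inv_rev]
  group

variable [Fintype F]

/-- The local family. -/
noncomputable def loc : Loc ρ where
  κ := R.kap
  proj S h g := by
    obtain ⟨π, hπ⟩ := R.exists_cover S h
    rw [R.kap_eq h hπ, R.ρ_secAt]
  mono S S' h h4 g := by
    obtain ⟨π, hπ⟩ := R.exists_cover S' h4
    rw [R.kap_eq h4 hπ, R.kap_eq ((Finset.card_le_card h).trans h4) (h.trans hπ)]
    rfl
  far S S' hd h3 h3' g g' := by
    have hn := R.hn
    obtain ⟨π1, hπ1, hfar⟩ := R.far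
    set k := min 3 (n - 3) with hk
    have hdisj : (S.card + S'.card) ≤ n := by
      rw [← Finset.card_union_of_disjoint hd]
      exact (Finset.card_le_univ _).trans_eq (Fintype.card_fin n)
    have ext : ∀ {S S' : Finset (Fin n)}, Disjoint S S' → S.card ≤ 3 → S'.card ≤ k →
        ∀ (g : ↥(sub (q := q) (F := F) S)) (g' : ↥(sub (q := q) (F := F) S')),
          Commute (R.kap S g) (R.kap S' g') := by
      intro S S' hd h3 hk' g g'
      obtain ⟨V, hS'V, hVS, hVc⟩ := Finset.exists_subsuperset_card_eq (s := S') (t := Sᶜ) (n := k)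
        (fun x hx => Finset.mem_compl.2 fun h => Finset.disjoint_left.1 hd h hx) hk'
        (by rw [Finset.card_compl, Fintype.card_fin]; omega)
      obtain ⟨U, hSU, hUV, hUc⟩ := Finset.exists_subsuperset_card_eq (s := S) (t := Vᶜ) (n := 3)
        (fun x hx => Finset.mem_compl.2 fun h => Finset.mem_compl.1 (hVS h) hx) h3
        (by rw [Finset.card_compl, Fintype.card_fin, hVc]; omega)
      obtain ⟨π, hA, hB⟩ := exists_even_sets (A := ini n 3) (B := (ini n k).image π1.1) (A' := U)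
        (B' := V) (by rw [card_ini (by omega), hUc]) (by rw [card_ini (by omega)]; norm_num)
        (by rw [Finset.card_image_of_injective _ π1.1.injective, card_ini (by omega), hVc]) hπ1
        (Finset.disjoint_left.2 fun x hx => Finset.mem_compl.1 (hUV hx))
      have hU4 : U ⊆ (ini n 4).image π.1 := hA ▸ Finset.image_subset_image (ini_mono (by norm_num))
      have hV4 : V ⊆ (ini n 4).image (π * π1).1 := by
        intro z hz
        obtain ⟨w, hw, rfl⟩ := Finset.mem_image.1 (hB.symm ▸ hz)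
        obtain ⟨m, hm, rfl⟩ := Finset.mem_image.1 hw
        exact Finset.mem_image.2 ⟨m, ini_mono (by omega) hm, rfl⟩
      rw [R.kap_eq (by omega) (hSU.trans hU4), R.kap_eq (by omega) (hS'V.trans hV4)]
      show Commute (a π * K _ * (a π)⁻¹) (a (π * π1) * K _ * (a (π * π1))⁻¹)
      simp only [map_mul]
      rw [show ∀ y : P, a π * a π1 * y * (a π * a π1)⁻¹ = a π * (a π1 * y * (a π1)⁻¹) * (a π)⁻¹ from
        fun y => by group]
      refine (hfar _ _ ?_ ?_).map (MulAut.conj (a π)).toMonoidHom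
      · refine conj_mem (fun i hi => ?_) g.2
        obtain ⟨m, hm, rfl⟩ := Finset.mem_image.1 (hA.symm ▸ hSU hi)
        simpa using hm
      · refine conj_mem (fun i hi => ?_) g'.2
        obtain ⟨w, hw, rfl⟩ := Finset.mem_image.1 (hB.symm ▸ hS'V hi)
        obtain ⟨m, hm, rfl⟩ := Finset.mem_image.1 hw
        show ((π * π1).1)⁻¹ (π.1 (π1.1 m)) ∈ _
        simpa using hm
    rcases Nat.lt_or_ge k S'.card with h | h
    · exact (ext hd.symm h3' (by omega) g' g).symm
    · exact ext hd h3 h g g'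

theorem loc_κ (S : Finset (Fin n)) : R.loc.κ S = R.kap S := rfl

theorem a_conj_LT (π : ↥(alternatingGroup (Fin n))) (T : Finset (Fin n)) {x : P}
    (hx : x ∈ R.loc.LT T) : a π * x * (a π)⁻¹ ∈ R.loc.LT (T.image π.1) := by
  suffices hle : R.loc.LT T ≤ (R.loc.LT (T.image π.1)).comap (MulAut.conj (a π)).toMonoidHom from
    hle hx
  refine (Subgroup.closure_le _).2 ?_
  rintro _ ⟨S, g, hS, h4, rfl⟩
  show a π * R.kap S g * (a π)⁻¹ ∈ R.loc.LT (T.image π.1)
  have h4' : (S.image π.1).card ≤ 4 := by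
    rw [Finset.card_image_of_injective _ π.1.injective]; exact h4
  rw [R.kap_conj h4 π g (fun i hi => Finset.mem_image_of_mem _ hi) h4']
  exact R.loc.mem_LT (Finset.image_subset_image hS) h4' _

theorem LT_top : R.loc.LT Finset.univ = ⊤ := by
  have hn := R.hn
  set L := R.loc.LT (Finset.univ : Finset (Fin n))
  have hc4 : (ini n 4).card ≤ 4 := (card_ini (by omega)).le
  have hK : K.range ≤ L := by
    rintro _ ⟨g, rfl⟩
    have h1 : ini n 4 ⊆ (ini n 4).image ⇑(1 : ↥(alternatingGroup (Fin n))).1 := by simp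
    have e : R.kap (ini n 4) g = K g := by
      rw [R.kap_eq hc4 h1]
      show a 1 * K _ * (a 1)⁻¹ = _
      simp only [map_one, inv_one, mul_one, one_mul, tr, MonoidHom.mk'_apply]
    rw [← e, ← R.loc_κ]
    exact R.loc.mem_LT (Finset.subset_univ _) hc4 _
  let H : Subgroup ↥(alternatingGroup (Fin n)) := L.comap a
  have hnorm : H.Normal := ⟨fun x hx π => by
    show a (π * x * π⁻¹) ∈ L
    rw [map_mul, map_mul, map_inv]
    have := R.a_conj_LT π _ (show a x ∈ L from hx)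
    rwa [Finset.image_univ_of_surjective π.1.surjective] at this⟩
  have : IsSimpleGroup ↥(alternatingGroup (Fin n)) :=
    alternatingGroup.isSimpleGroup (by rw [Nat.card_fin]; omega)
  have hH : H = ⊤ := by
    refine hnorm.eq_bot_or_eq_top.resolve_left fun hbot => ?_
    set v : (i : ℕ) → i < 4 → Fin n := fun i hi => ⟨i, by omega⟩
    set σ : Equiv.Perm (Fin n) :=
      Equiv.swap (v 0 (by norm_num)) (v 1 (by norm_num)) *
        Equiv.swap (v 2 (by norm_num)) (v 3 (by norm_num))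
    have hσ : Equiv.Perm.sign σ = 1 := by
      rw [Equiv.Perm.sign_mul, Equiv.Perm.sign_swap, Equiv.Perm.sign_swap]
      · rfl
      · simp [v, Fin.ext_iff]
      · simp [v, Fin.ext_iff]
    have hfix : ∀ i, i ∉ ini n 4 → σ i = i := by
      intro i hi
      have h4 : ¬ i.val < 4 := fun h => hi (mem_ini.2 h)
      have ne : ∀ (k : ℕ) (hk : k < 4), i ≠ v k hk := fun k hk h => h4 (by rw [h]; exact hk)
      rw [Equiv.Perm.mul_apply, Equiv.swap_apply_of_ne_of_ne (ne _ (by norm_num)) (ne _ (by norm_num)),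
        Equiv.swap_apply_of_ne_of_ne (ne _ (by norm_num)) (ne _ (by norm_num))]
    have hm : (⟨σ, hσ⟩ : ↥(alternatingGroup (Fin n))) ∈ H := by
      show a _ ∈ L
      rw [R.mon _ hfix]
      exact hK ⟨_, rfl⟩
    rw [hbot, Subgroup.mem_bot] at hm
    have := congrArg (fun p : ↥(alternatingGroup (Fin n)) => p.1 (v 0 (by norm_num))) hm
    simp [σ, v, Equiv.swap_apply_def, Fin.ext_iff] at this
  rw [eq_top_iff, ← R.gen]
  refine sup_le ?_ hK
  rintro _ ⟨π, rfl⟩
  exact (hH ▸ Subgroup.mem_top π : π ∈ H)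

variable {σ : F →+* F}

theorem injective (hu : UCtx σ q) (h5 : R.loc.Inj (ini n 5)) : Function.Injective ρ := by
  have hn := R.hn
  have five : ∀ U : Finset (Fin n), U.card = 5 → R.loc.Inj U := by
    intro U hU x hx e
    obtain ⟨π, hπ⟩ := exists_even_set (A := ini n 5) (A' := U) (by rw [card_ini (by omega), hU])
      (by rw [card_ini (by omega)]; norm_num)
    have hx' : a π⁻¹ * x * (a π⁻¹)⁻¹ ∈ R.loc.LT (ini n 5) := by
      have := R.a_conj_LT π⁻¹ U hx
      have he : U.image ⇑(π⁻¹).1 = ini n 5 := by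
        rw [← hπ, Finset.image_image]
        refine (Finset.image_congr fun i _ => ?_).trans Finset.image_id
        simp
      rwa [he] at this
    have := h5 _ hx' (by simp [e])
    rw [mul_inv_eq_one, mul_eq_left] at this
    exact this
  refine (injective_iff_map_eq_one ρ).2 fun x hx => ?_
  exact R.loc.inj_all hu five Finset.univ x (R.LT_top ▸ Subgroup.mem_top x) hx

end AmRel

end Cfsg.Agent.SUShort
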