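import Cfsg.Agent.SUShort.Embed
import Cfsg.Agent.SUShort.ThreeTwo
import Cfsg.Agent.SUGen.Three
import Cfsg.Agent.SUGen.Field
import Cfsg.Agent.SUTwoGen.Main
import Cfsg.Agent.ShortPres.SL2Gen
import Cfsg.Agent.Classical.UnitarySmall

/-!
# Two generators of small coordinate subgroups, and a lemma on additive spans
-/

set_option autoImplicit false

namespace Cfsg.Agent.SUShort

open Matrix Classical.Herm Cfsg.Agent.AutPSU

theorem pair_congr {G H : Type*} [Group G] [Group H] (e : G ≃* H) {a b : G}
    (h : Subgroup.closure ({a, b} : Set G) = ⊤) : Subgroup.closure ({e a, e b} : Set H) = ⊤ := by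
  have h' := congrArg (Subgroup.map e.toMonoidHom) h
  rw [MonoidHom.map_closure, Set.image_pair, Subgroup.map_top_of_surjective e.toMonoidHom e.surjective] at h'
  exact h'

variable {n q : ℕ} {F : Type*} [Field F] [Fintype F] {σ : F →+* F} (hu : UCtx σ q)
include hu

/-- Two generators of a coordinate subgroup on two to four coordinates. -/
theorem exists_pair (U : Finset (Fin n)) (h2 : 2 ≤ U.card) (h4 : U.card ≤ 4) :
    ∃ a b : ↥(sub (q := q) (F := F) U),
      Subgroup.closure ({a, b} : Set ↥(sub (q := q) (F := F) U)) = ⊤ := by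
  obtain ⟨E⟩ := exists_subEquiv hu U rfl
  suffices h : ∃ a b : Su U.card F q, Subgroup.closure ({a, b} : Set (Su U.card F q)) = ⊤ by
    obtain ⟨a, b, hab⟩ := h
    exact ⟨E a, E b, pair_congr E hab⟩
  interval_cases hc : U.card
  · letI : Fintype (fixField σ) := Fintype.ofFinite _
    obtain ⟨E2⟩ := Classical.su_two_equiv (K := ↥(fixField σ)) hu.toIsInvol hu.pow hu.card_fix
      (by rw [← Nat.card_eq_fintype_card]; exact hu.card_fix)
    obtain ⟨a, b, hab⟩ := Cfsg.Agent.ShortPres.sl_two_pair (fixField σ)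
    exact ⟨_, _, pair_congr E2.symm hab⟩
  · rcases Nat.lt_or_ge q 3 with hq | hq
    · obtain rfl : q = 2 := by have := hu.one_lt; omega
      exact su32_two_gen (by rw [SUGen.card_F hu]; norm_num)
    · obtain ⟨u, g, -, h⟩ := SUGen.generated_three hu (n := 3) rfl hq
      exact ⟨_, _, h⟩
  · exact SUTwoGen.su_two_gen hu (m := 2) (Or.inl rfl) le_rfl

/-- An additive subgroup stable under fourth powers of norm one is everything once it contains two
independent elements. -/
theorem span_fourth (hq : 3 ≤ q) {S : AddSubgroup F} {ξ : F} (hξ : σ ξ ≠ ξ) (h1 : (1 : F) ∈ S)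
    (hξS : ξ ∈ S) (hmul : ∀ u : F, u * σ u = 1 → ∀ s ∈ S, u ^ 4 * s ∈ S) : ∀ x : F, x ∈ S := by
  obtain ⟨u, huo, hu1⟩ := SUGen.exists_norm_one hu
  have hpow : ∀ (r : F), (∀ s ∈ S, r * s ∈ S) → ∀ (k : ℕ), ∀ s ∈ S, r ^ k * s ∈ S := by
    intro r hr k
    induction k with
    | zero => intro s hs; simpa using hs
    | succ k ih => intro s hs; rw [pow_succ, mul_assoc]; exact ih _ (hr s hs)
  let R : Subfield F :=
    { carrier := {r | ∀ s ∈ S, r * s ∈ S}
      zero_mem' := fun s _ => by rw [zero_mul]; exact zero_mem S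
      one_mem' := fun s hs => by rwa [one_mul]
      add_mem' := fun {a b} ha hb s hs => by rw [add_mul]; exact add_mem (ha s hs) (hb s hs)
      neg_mem' := fun {a} ha s hs => by rw [neg_mul]; exact neg_mem (ha s hs)
      mul_mem' := fun {a b} ha hb s hs => by rw [mul_assoc]; exact ha _ (hb s hs)
      inv_mem' := fun a ha s hs => by
        rcases eq_or_ne a 0 with rfl | ha0
        · rw [_root_.inv_zero, zero_mul]; exact zero_mem S
        · have e : a⁻¹ = a ^ (Fintype.card F - 2) := by
            refine inv_eq_of_mul_eq_one_right ?_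
            have := hu.one_lt
            have hF := SUGen.card_F hu
            have : 4 ≤ Fintype.card F := by rw [hF]; nlinarith
            rw [← pow_succ', show Fintype.card F - 2 + 1 = Fintype.card F - 1 by omega,
              FiniteField.pow_card_sub_one_eq_one a ha0]
          rw [e]; exact hpow a ha _ s hs }
  have hR : ∀ r ∈ R, r ∈ S := fun r hr => by simpa using hr 1 h1
  have hu4 : u ^ 4 ∈ R := fun s hs => hmul u hu1 s hs
  by_cases htop : R = ⊤
  · exact fun x => hR x (htop ▸ Subfield.mem_top x)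
  have hu0 : u ≠ 0 := left_ne_zero_of_mul_eq_one hu1
  have hσu : σ (u ^ 4) = (u ^ 4)⁻¹ := by
    rw [map_pow, eq_inv_of_mul_eq_one_right hu1, inv_pow]
  by_cases hfix : σ (u ^ 4) = u ^ 4
  · have h8 : u ^ 8 = 1 := by
      rw [show (8 : ℕ) = 4 + 4 from rfl, pow_add]
      nth_rewrite 1 [← hfix]
      rw [hσu, inv_mul_cancel₀ (pow_ne_zero _ hu0)]
    have hdvd := huo ▸ orderOf_dvd_of_pow_eq_one h8
    have hle := Nat.le_of_dvd (by norm_num) hdvd
    have hp : q.Prime := by
      have hq7 : q ≤ 7 := by omega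
      interval_cases q <;> first | decide | (exfalso; revert hdvd; decide)
    have hfixR : ∀ r : F, σ r = r → ∀ s ∈ S, r * s ∈ S := by
      intro r hr
      have : Fact q.Prime := ⟨hp⟩
      obtain ⟨k, hk⟩ := AddSubgroup.mem_zmultiples_iff.1
        (mem_zmultiples_of_prime_card (G := ↥(fixField σ)) hu.card_fix (g := 1) (g' := ⟨r, hr⟩)
          one_ne_zero)
      have e : r = (k : F) := by
        have := congrArg (fun z : ↥(fixField σ) => (z : F)) hk
        simpa using this.symm
      intro s hs
      rw [e, ← zsmul_eq_mul]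
      exact zsmul_mem hs k
    intro x
    have hd : ξ - σ ξ ≠ 0 := fun h0 => hξ (sub_eq_zero.1 h0).symm
    set b := (x - σ x) / (ξ - σ ξ)
    have hbf : σ b = b := by
      simp only [b, map_div₀, map_sub, hu.invol]
      rw [show σ x - x = -(x - σ x) by ring, show σ ξ - ξ = -(ξ - σ ξ) by ring, neg_div_neg_eq]
    have haf : σ (x - b * ξ) = x - b * ξ := by
      rw [map_sub, map_mul, hbf]
      simp only [b]
      field_simp
      ring
    rw [show x = (x - b * ξ) * 1 + b * ξ by ring]
    exact add_mem (hfixR _ haf 1 h1) (hfixR b hbf ξ hξS)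
  · exfalso
    obtain ⟨r, j, hr, hj, hcard, hqr⟩ := SUGen.odd_root hu hu4 hfix htop
    have hfx : (u ^ 4) ^ r ^ 2 = u ^ 4 := by
      have := SUGen.pow_card_iterate R hu4 1
      rwa [pow_one, hcard] at this
    have hn4 : u ^ 4 * σ (u ^ 4) = 1 := by rw [map_pow, ← mul_pow, hu1, one_pow]
    have h := SUGen.pow_succ_of_fixed hu hn4 hqr hfx
    rw [← pow_mul] at h
    have hdvd := huo ▸ orderOf_dvd_of_pow_eq_one h
    have hle := Nat.le_of_dvd (by positivity) hdvd
    have h3 : r ^ 3 ≤ q := hqr ▸ Nat.pow_le_pow_right (by omega) (by omega)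
    obtain rfl : r = 2 := by
      by_contra hne
      have : 3 ≤ r := by omega
      nlinarith [Nat.mul_le_mul_right r (Nat.mul_le_mul this this)]
    have hodd : Odd (q + 1) := by
      rw [hqr]
      exact Even.add_one ((Nat.even_pow).2 ⟨even_two, by omega⟩)
    have h12 : (q + 1) ∣ 3 := by
      have : Nat.Coprime (q + 1) 4 := by
        rw [show (4 : ℕ) = 2 ^ 2 from rfl]
        exact Nat.Coprime.pow_right 2 (Nat.coprime_two_right.2 hodd)
      exact this.dvd_of_dvd_mul_left (by simpa using hdvd)
    have := Nat.le_of_dvd (by norm_num) h12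
    omega

end Cfsg.Agent.SUShort
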