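import Cfsg.Agent.SUShort.Inject
import Cfsg.Agent.SUShort.Small

/-!
# Elementary facts for four coordinates
-/

set_option autoImplicit false

namespace Cfsg.Agent.SUShort

open Matrix Classical.Herm Cfsg.Agent.AutPSU

theorem hom_eq_of_pair {G H : Type*} [Group G] [Group H] {a b : G}
    (h : Subgroup.closure ({a, b} : Set G) = ⊤) {φ ψ : G →* H} (ha : φ a = ψ a) (hb : φ b = ψ b)
    (x : G) : φ x = ψ x := by
  have hx : x ∈ Subgroup.closure ({a, b} : Set G) := h ▸ Subgroup.mem_top x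
  induction hx using Subgroup.closure_induction with
  | mem y hy =>
    rcases hy with rfl | rfl
    exacts [ha, hb]
  | one => rw [map_one, map_one]
  | mul y y' _ _ e e' => rw [map_mul, map_mul, e, e']
  | inv y _ e => rw [map_inv, map_inv, e]

/-- Commutation of two pairs of generators extends. -/
theorem commute_of_pairs {G H P : Type*} [Group G] [Group H] [Group P] {φ : G →* P} {ψ : H →* P}
    {a b : G} {c d : H} (h : Subgroup.closure ({a, b} : Set G) = ⊤)
    (h' : Subgroup.closure ({c, d} : Set H) = ⊤) (h1 : Commute (φ a) (ψ c)) (h2 : Commute (φ a) (ψ d))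
    (h3 : Commute (φ b) (ψ c)) (h4 : Commute (φ b) (ψ d)) (x : G) (y : H) :
    Commute (φ x) (ψ y) := by
  have key : ∀ g : G, g = a ∨ g = b → ∀ y, Commute (φ g) (ψ y) := by
    intro g hg y
    have hy : y ∈ Subgroup.closure ({c, d} : Set H) := h' ▸ Subgroup.mem_top y
    induction hy using Subgroup.closure_induction with
    | mem z hz =>
      rcases hg with rfl | rfl <;> rcases hz with rfl | rfl <;> assumption
    | one => rw [map_one]; exact Commute.one_right _
    | mul z z' _ _ e e' => rw [map_mul]; exact e.mul_right e'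
    | inv z _ e => rw [map_inv]; exact e.inv_right
  have hx : x ∈ Subgroup.closure ({a, b} : Set G) := h ▸ Subgroup.mem_top x
  induction hx using Subgroup.closure_induction with
  | mem z hz => exact key z hz y
  | one => rw [map_one]; exact Commute.one_left _
  | mul z z' _ _ e e' => rw [map_mul]; exact e.mul_left e'
  | inv z _ e => rw [map_inv]; exact e.inv_left

variable {n q : ℕ} {F : Type*} [Field F] [Fintype F] {σ : F →+* F} (hu : UCtx σ q)
include hu

/-- Coordinate subgroups on disjoint sets commute. -/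
theorem sub_commute {S T : Finset (Fin n)} (h : Disjoint S T) {g g' : Su n F q} (hg : g ∈ sub S)
    (hg' : g' ∈ sub T) : g * g' = g' * g := by
  refine su_ext_mulVec fun x => ?_
  rw [mat_mul_mulVec, mat_mul_mulVec, ← supp_sum x]
  simp only [Matrix.mulVec_sum, Matrix.mulVec_smul]
  refine Finset.sum_congr rfl fun i _ => ?_
  congr 1
  by_cases hi : i ∈ S
  · rw [hg' i (Finset.disjoint_left.1 h hi),
      fix_of_supp hg' fun k hk => sub_supp hu hg (supp_cv hi) k (Finset.disjoint_right.1 h hk)]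
  · rw [hg i hi]
    by_cases hi' : i ∈ T
    · rw [fix_of_supp hg fun k hk => sub_supp hu hg' (supp_cv hi') k (Finset.disjoint_left.1 h hk)]
    · rw [hg' i hi', hg i hi]

/-- The determinant condition makes one coordinate trivial. -/
theorem sub_singleton {c : Fin n} {g : Su n F q} (hg : g ∈ sub ({c} : Finset (Fin n))) : g = 1 := by
  classical
  have hv := sub_supp hu hg (supp_cv (Finset.mem_singleton_self c))
  set z := (mat g *ᵥ cv c) c
  have hgc : mat g *ᵥ cv c = z • cv c := by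
    conv_lhs => rw [hv.eq_sum, Finset.sum_singleton]
  have hM : mat g = Matrix.diagonal (Function.update (1 : Fin n → F) c z) := by
    refine Matrix.ext_of_mulVec_single fun i => ?_
    by_cases hi : i = c
    · subst hi
      rw [hgc]
      funext l
      by_cases hl : l = i
      · subst hl; simp [Matrix.mulVec_single]
      · simp [Matrix.mulVec_single, hl, Matrix.diagonal_apply_ne _ hl]
    · rw [hg i (by simpa using hi)]
      funext l
      by_cases hl : l = i
      · subst hl; simp [Matrix.mulVec_single, hi]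
      · simp [Matrix.mulVec_single, hl, Matrix.diagonal_apply_ne _ hl]
  have hz : z = 1 := by
    have h1 : (mat g).det = 1 := g.1.2
    rwa [hM, Matrix.det_diagonal, Finset.prod_update_of_mem (Finset.mem_univ c),
      show (∏ x ∈ Finset.univ \ {c}, (1 : Fin n → F) x) = 1 from Finset.prod_eq_one (fun _ _ => rfl), mul_one] at h1
  refine su_ext_mulVec fun x => ?_
  rw [hM, hz, mat_one_mulVec, show (Function.update (1 : Fin n → F) c 1) = 1 by simp]
  simp

theorem fix_span {S : AddSubgroup F} {ξ : F} (hξ : σ ξ ≠ ξ) (h1 : (1 : F) ∈ S) (hξS : ξ ∈ S)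
    (hmul : ∀ r : F, σ r = r → r ≠ 0 → ∀ s ∈ S, r * s ∈ S) (x : F) : x ∈ S := by
  have hd : ξ - σ ξ ≠ 0 := fun h0 => hξ (sub_eq_zero.1 h0).symm
  set b := (x - σ x) / (ξ - σ ξ)
  have hbf : σ b = b := by
    simp only [b, map_div₀, map_sub, hu.invol]
    rw [show σ x - x = -(x - σ x) by ring, show σ ξ - ξ = -(ξ - σ ξ) by ring, neg_div_neg_eq]
  have haf : σ (x - b * ξ) = x - b * ξ := by
    rw [map_sub, map_mul, hbf]
    simp only [b]
    field_simp
    ring
  have hall : ∀ r : F, σ r = r → ∀ s ∈ S, r * s ∈ S := fun r hr s hs => by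
    rcases eq_or_ne r 0 with rfl | h0
    · rw [zero_mul]; exact zero_mem S
    · exact hmul r hr h0 s hs
  rw [show x = (x - b * ξ) * 1 + b * ξ by ring]
  exact add_mem (hall _ haf 1 h1) (hall b hbf ξ hξS)

/-- A torus element of the plane and one further coordinate. -/
theorem exists_K (C : Fw n σ) {c : Fin n} (hca : c ≠ C.a) (hcb : c ≠ C.b) {l : F} (hl : l ≠ 0) :
    ∃ k ∈ (sub ({C.a, C.b, c} : Finset (Fin n)) : Subgroup (Su n F q)),
      mat k *ᵥ C.e = l • C.e ∧ mat k *ᵥ C.f = (σ l)⁻¹ • C.f ∧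
      mat k *ᵥ cv c = (σ l / l) • cv c := by
  have hP := C.hp hu
  obtain ⟨g1, hg1e, hg1f, hg1W, hg1d⟩ := hP.exists_dil hu hl
  have hsl := (map_ne_zero σ).2 hl
  have hzz : (l * (σ l)⁻¹)⁻¹ * σ (l * (σ l)⁻¹)⁻¹ = 1 := by
    rw [map_inv₀, map_mul, map_inv₀, hu.invol]; field_simp
  obtain ⟨g2, hg2c, hg2f, hg2d⟩ := exists_refl hu (b := (cv c : Vn n F))
    (by rw [hB_cv_cv, if_pos rfl]) hzz
  obtain ⟨k0, hk0⟩ := exists_su_of_gu hu (g2 * g1) (by
    show (gmat g2.1 * gmat g1.1).det = 1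
    rw [Matrix.det_mul, hg1d, hg2d, inv_mul_cancel₀ (mul_ne_zero hl (inv_ne_zero hsl))])
  have hk0v : ∀ x, mat k0 *ᵥ x = gmat g2.1 *ᵥ (gmat g1.1 *ᵥ x) := fun x => by
    rw [hk0, Matrix.mulVec_mulVec]; rfl
  have hec : hB n σ (cv c) C.e = 0 := by
    rw [hB_cv]; exact C.e_supp c (by simp [Fw.P2, hca, hcb])
  have hfc : hB n σ (cv c) C.f = 0 := by
    rw [hB_cv]; exact C.f_supp c (by simp [Fw.P2, hca, hcb])
  refine ⟨k0, fun i hi => ?_, ?_, ?_, ?_⟩
  · simp only [Finset.mem_insert, Finset.mem_singleton, not_or] at hi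
    rw [hk0v, hg1W _ ((C.inW_iff hu _).2
      ⟨Pi.single_eq_of_ne (Ne.symm hi.1) _, Pi.single_eq_of_ne (Ne.symm hi.2.1) _⟩),
      hg2f _ (by rw [hB_cv_cv, if_neg (Ne.symm hi.2.2)])]
  · rw [hk0v, hg1e, Matrix.mulVec_smul, hg2f _ hec]
  · rw [hk0v, hg1f, Matrix.mulVec_smul, hg2f _ hfc]
  · rw [hk0v, hg1W _ ((C.inW_iff hu _).2 ⟨Pi.single_eq_of_ne (Ne.symm hca) _,
      Pi.single_eq_of_ne (Ne.symm hcb) _⟩), hg2c, _root_.mul_inv_rev, inv_inv, div_eq_mul_inv]

/-- A torus element of the plane for a fixed scalar. -/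
theorem exists_plane_dil (C : Fw n σ) {r : F} (hr : σ r = r) (hr0 : r ≠ 0) :
    ∃ g ∈ (sub C.P2 : Subgroup (Su n F q)), mat g *ᵥ C.e = r • C.e := by
  have hP := C.hp hu
  obtain ⟨g1, hg1e, -, hg1W, hg1d⟩ := hP.exists_dil hu hr0
  obtain ⟨g, hg⟩ := exists_su_of_gu hu g1 (by rw [hg1d, hr, mul_inv_cancel₀ hr0])
  refine ⟨g, fun i hi => ?_, by rw [hg, hg1e]⟩
  simp only [Fw.P2, Finset.mem_insert, Finset.mem_singleton, not_or] at hi
  rw [hg, hg1W _ ((C.inW_iff hu _).2
    ⟨Pi.single_eq_of_ne (Ne.symm hi.1) _, Pi.single_eq_of_ne (Ne.symm hi.2) _⟩)]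

/-- An element fixing both vectors of the pair fixes the plane. -/
theorem fix_plane (C : Fw n σ) {g : Su n F q} (he : mat g *ᵥ C.e = C.e) (hf : mat g *ᵥ C.f = C.f)
    {v : Vn n F} (hv : Supp C.P2 v) : mat g *ᵥ v = v := by
  have hP := C.hp hu
  have hz : AutPSU.proj σ C.e C.f v = 0 := by
    funext i
    by_cases hi : i ∈ C.P2
    · obtain ⟨p1, p2⟩ := (C.inW_iff hu _).1 (hP.proj_mem hu v)
      simp only [Fw.P2, Finset.mem_insert, Finset.mem_singleton] at hi
      rcases hi with rfl | rfl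
      exacts [p1, p2]
    · simp [AutPSU.proj_apply, hv i hi, C.e_supp i hi, C.f_supp i hi]
  have hv' : v = hB n σ C.f v • C.e + hB n σ C.e v • C.f := by
    conv_lhs => rw [eq_proj (σ := σ) C.e C.f v, hz, add_zero]
  rw [hv', Matrix.mulVec_add, Matrix.mulVec_smul, Matrix.mulVec_smul, he, hf]

end Cfsg.Agent.SUShort
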