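import Cfsg.Agent.SUShort.Amalgam
import Cfsg.Agent.SUShort.FourAux
import Cfsg.Agent.ShortPres.Basic

/-!
# A short presentation of `SU(n, q)` for at least five coordinates
-/

set_option autoImplicit false

namespace Cfsg.Agent.SUShort

open Matrix Classical.Herm Cfsg.Agent.AutPSU Cfsg.Agent.ShortPres

universe u

variable {n q : ℕ} {F : Type u} [Field F] [Fintype F] {σ : F →+* F}

omit [Fintype F] in
theorem secAt_map {G H : Type*} [Group G] [Group H] (f : G →* H)
    (a : ↥(alternatingGroup (Fin n)) →* G) (K : ↥(sub (q := q) (F := F) (ini n 4)) →* G)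
    (π : ↥(alternatingGroup (Fin n))) (g : ↥(sub (q := q) (F := F) ((ini n 4).image π.1))) :
    f (secAt a K π g) = secAt (f.comp a) (f.comp K) π g := by
  simp [secAt]

theorem exists_cover' (hn : 5 ≤ n) (S : Finset (Fin n)) (h : S.card ≤ 4) :
    ∃ π : ↥(alternatingGroup (Fin n)), S ⊆ (ini n 4).image π.1 := by
  obtain ⟨S', hS', hc⟩ := Finset.exists_superset_card_eq (s := S) (n := 4) h
    (by rw [Fintype.card_fin]; omega)
  obtain ⟨π, hπ⟩ := exists_even_set (A := ini n 4) (A' := S')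
    (by rw [card_ini (by omega), hc]) (by rw [card_ini (by omega)]; norm_num)
  exact ⟨π, hπ ▸ hS'⟩

variable (hu : UCtx σ q)
include hu

/-- A unipotent element on three coordinates splits along them. -/
theorem split_three (C : Fw n σ) {c d : Fin n} (hca : c ≠ C.a) (hcb : c ≠ C.b) (hcw : c ≠ C.w)
    (hda : d ≠ C.a) (hdb : d ≠ C.b) (hdw : d ≠ C.w) (hcd : c ≠ d) {y : Vn n F}
    (hy : Supp ({c, d, C.w} : Finset (Fin n)) y) {s : F} (hE : IsE σ C.e y s) :
    ∃ (rc dc rd dd rw dw : F), IsE σ C.e (rc • cv c) dc ∧ IsE σ C.e (rd • cv d) dd ∧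
      IsE σ C.e (rw • cv C.w) dw ∧ eS hu C.e y s =
        eS hu C.e (rc • cv c) dc * eS hu C.e (rd • cv d) dd * eS hu C.e (rw • cv C.w) dw := by
  have hP := C.hp hu
  have hW : ∀ i : Fin n, i ≠ C.a → i ≠ C.b → ∀ r : F, InW σ C.e C.f (r • cv i) := fun i h1 h2 r =>
    ((C.inW_iff hu _).2 ⟨Pi.single_eq_of_ne (Ne.symm h1) _, Pi.single_eq_of_ne (Ne.symm h2) _⟩).smul r
  obtain ⟨dd, hdd⟩ := exists_d hu (y d • cv d : Vn n F)
  obtain ⟨dw, hdw'⟩ := exists_d hu (y C.w • cv C.w : Vn n F)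
  have hyy : y = y c • cv c + y d • cv d + y C.w • cv C.w := by
    conv_lhs => rw [hy.eq_sum, Finset.sum_insert (by simp [hcd, hcw]), Finset.sum_pair hdw]
    rw [add_assoc]
  have hB : ∀ {i k : Fin n}, i ≠ k → ∀ r r' : F, hB n σ (r • cv i : Vn n F) (r' • cv k) = 0 :=
    fun h r r' => by simp [hB_cv_cv, h]
  have hEd := hP.isE hu (hW d hda hdb (y d)) hdd
  have hEw := hP.isE hu (hW C.w C.haw.symm C.hbw.symm (y C.w)) hdw'
  have hEc : IsE σ C.e (y c • cv c) (s - dd - dw) := hP.isE hu (hW c hca hcb (y c)) (by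
    have h1 := hE.tr
    rw [hyy] at h1
    simp only [map_add, LinearMap.add_apply, hB hcd, hB hcd.symm, hB hcw, hB hcw.symm, hB hdw,
      hB hdw.symm, add_zero, zero_add] at h1
    rw [map_sub, map_sub]
    linear_combination h1 - hdd - hdw')
  refine ⟨_, _, _, _, _, _, hEc, hEd, hEw, ?_⟩
  rw [eS_mul hu hEc hEd, eS_mul hu (hEc.mul hu hEd) hEw, ← hyy, map_add, LinearMap.add_apply,
    hB hcd, hB hcw, hB hdw]
  congr 1
  ring

/-- The normalisation needed over the field with four elements. -/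
theorem Loc.two_of_seeds {P : Type*} [Group P] {ρ : P →* Su n F q} (L : Loc ρ) (hq : q = 2)
    {C : Fw n σ} {c d : Fin n} (hca : c ≠ C.a) (hcb : c ≠ C.b) (hda : d ≠ C.a) (hdb : d ≠ C.b)
    {ξ : F} (hξ : σ ξ ≠ ξ) (h : ↥(sub (q := q) (F := F) ({c, d, C.w} : Finset (Fin n))))
    (hw : mat (h : Su n F q) *ᵥ cv C.w = cv c + cv d + cv C.w)
    (hseed : ∀ i, i = c ∨ i = d ∨ i = C.w → ∀ r : F, r = 1 ∨ r = ξ →
      ∃ (s : F) (hm : eS hu C.e (r • cv i) s ∈ sub ({C.a, C.b, i} : Finset (Fin n))),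
        IsE σ C.e (r • cv i) s ∧ (L.κ {c, d, C.w} h)⁻¹ * L.κ {C.a, C.b, i} ⟨_, hm⟩ *
          L.κ {c, d, C.w} h ∈ L.Nrad hu C c d) :
    L.Two hu C c d := by
  have hP := C.hp hu
  set g := L.κ {c, d, C.w} h
  set N := L.Nrad hu C c d
  refine ⟨h, hw, ?_⟩
  suffices hle : N ≤ N.comap (MulAut.conj g⁻¹).toMonoidHom from fun m hm => by
    simpa using hle hm
  have side : ∀ i, i = c ∨ i = d ∨ i = C.w →
      Subgroup.closure (L.radGens hu C i) ≤ N.comap (MulAut.conj g⁻¹).toMonoidHom := by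
    intro i hi
    have hia : i ≠ C.a := by rcases hi with rfl | rfl | rfl; exacts [hca, hda, C.haw.symm]
    have hib : i ≠ C.b := by rcases hi with rfl | rfl | rfl; exacts [hcb, hdb, C.hbw.symm]
    have hsupp : Supp ({C.a, C.b, i} : Finset (Fin n)) C.e := C.e_supp.mono fun l hl => by
      simp only [Fw.P2, Finset.mem_insert, Finset.mem_singleton] at hl ⊢; tauto
    have hmem : ∀ {r s : F}, IsE σ C.e (r • cv i) s →
        eS hu C.e (r • cv i) s ∈ sub ({C.a, C.b, i} : Finset (Fin n)) := fun hE =>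
      eS_mem_sub hu hE hsupp ((supp_cv (by simp)).smul _)
    have hgen : ∀ {r s : F} (hE : IsE σ C.e (r • cv i) s),
        L.κ {C.a, C.b, i} ⟨_, hmem hE⟩ ∈ N := by
      intro r s hE
      have : L.κ {C.a, C.b, i} ⟨_, hmem hE⟩ ∈ Subgroup.closure (L.radGens hu C i) :=
        Subgroup.subset_closure ⟨r, s, _, hE, rfl⟩
      rcases hi with rfl | rfl | rfl
      exacts [Subgroup.mem_sup_left (Subgroup.mem_sup_left this),
        Subgroup.mem_sup_left (Subgroup.mem_sup_right this), Subgroup.mem_sup_right this]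
    let Good : ↥(sub (q := q) (F := F) ({C.a, C.b, i} : Finset (Fin n))) → Prop := fun x =>
      g⁻¹ * L.κ {C.a, C.b, i} x * g ∈ N
    have centre : ∀ {s : F} (hE : IsE σ C.e ((0 : F) • cv i) s), Good ⟨_, hmem hE⟩ := by
      intro s hE
      have hm2 : eS hu C.e ((0 : F) • cv i) s ∈ sub C.P2 :=
        eS_mem_sub hu hE C.e_supp (by rw [zero_smul]; exact fun _ _ => rfl)
      have h2sub : C.P2 ⊆ ({C.a, C.b, i} : Finset (Fin n)) := fun l hl => by
        simp only [Fw.P2, Finset.mem_insert, Finset.mem_singleton] at hl ⊢; tauto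
      have hd : Disjoint C.P2 ({c, d, C.w} : Finset (Fin n)) := by
        rw [Finset.disjoint_left]
        intro l hl h'
        simp only [Fw.P2, Finset.mem_insert, Finset.mem_singleton] at hl h'
        rcases hl with rfl | rfl <;> rcases h' with h' | h' | h'
        exacts [hca h'.symm, hda h'.symm, C.haw h', hcb h'.symm, hdb h'.symm, C.hbw h']
      show g⁻¹ * L.κ _ _ * g ∈ N
      have e : L.κ {C.a, C.b, i} ⟨_, hmem hE⟩ = L.κ C.P2 ⟨_, hm2⟩ :=
        L.mono C.P2 _ h2sub (Finset.card_le_three.trans (by norm_num)) ⟨_, hm2⟩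
      have hc := L.far C.P2 _ hd (by rw [Fw.P2, Finset.card_pair C.hab]; norm_num)
        Finset.card_le_three ⟨_, hm2⟩ h
      rw [e, mul_assoc, hc.eq, inv_mul_cancel_left, ← e]
      exact hgen hE
    have goodmul : ∀ x y, Good x → Good y → Good (x * y) := fun x y hx hy => by
      show g⁻¹ * L.κ _ (x * y) * g ∈ N
      rw [map_mul, show g⁻¹ * (L.κ _ x * L.κ _ y) * g = (g⁻¹ * L.κ _ x * g) * (g⁻¹ * L.κ _ y * g) by
        group]
      exact mul_mem hx hy
    have anyd : ∀ r, (∃ (s : F) (hE : IsE σ C.e (r • cv i) s), Good ⟨_, hmem hE⟩) →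
        ∀ (s : F) (hE : IsE σ C.e (r • cv i) s), Good ⟨_, hmem hE⟩ := by
      rintro r ⟨s, hE, hg⟩ s' hE'
      have hδ : IsE σ C.e ((0 : F) • cv i) (s' - s) := by
        rw [zero_smul]; exact isE_zero hP.ee (by rw [map_sub]; linear_combination hE'.tr - hE.tr)
      rw [show (⟨_, hmem hE'⟩ : ↥(sub (q := q) (F := F) ({C.a, C.b, i} : Finset (Fin n)))) =
        ⟨_, hmem hE⟩ * ⟨_, hmem hδ⟩ from Subtype.ext (by
          show eS hu C.e (r • cv i) s' = eS hu C.e (r • cv i) s * eS hu C.e ((0 : F) • cv i) (s' - s)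
          rw [eS_mul hu hE hδ, zero_smul, add_zero, map_zero, sub_zero, add_sub_cancel])]
      exact goodmul _ _ hg (centre hδ)
    have hex : ∀ r : F, ∃ s, IsE σ C.e (r • cv i) s := fun r => by
      obtain ⟨s, hs⟩ := exists_d hu (r • cv i : Vn n F)
      exact ⟨s, hP.isE hu (((C.inW_iff hu _).2
        ⟨Pi.single_eq_of_ne (Ne.symm hia) _, Pi.single_eq_of_ne (Ne.symm hib) _⟩).smul r) hs⟩
    let S : AddSubgroup F :=
      { carrier := {r | ∀ (s : F) (hE : IsE σ C.e (r • cv i) s), Good ⟨_, hmem hE⟩}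
        zero_mem' := fun s hE => centre hE
        add_mem' := by
          intro r r' hr hr'
          obtain ⟨s, hs⟩ := hex r
          obtain ⟨s', hs'⟩ := hex r'
          have h12 : IsE σ C.e ((r + r') • cv i) (s + s' - hB n σ (r • cv i) (r' • cv i)) := by
            rw [add_smul]; exact hs.mul hu hs'
          refine anyd _ ⟨_, h12, ?_⟩
          rw [show (⟨_, hmem h12⟩ : ↥(sub (q := q) (F := F) ({C.a, C.b, i} : Finset (Fin n)))) =
            ⟨_, hmem hs⟩ * ⟨_, hmem hs'⟩ from Subtype.ext (by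
              show eS hu C.e ((r + r') • cv i) _ =
                eS hu C.e (r • cv i) s * eS hu C.e (r' • cv i) s'
              rw [eS_mul hu hs hs', ← add_smul])]
          exact goodmul _ _ (hr s hs) (hr' s' hs')
        neg_mem' := by
          intro r hr
          obtain ⟨s, hs⟩ := hex r
          obtain ⟨hi', hie⟩ := eS_inv' hu hs
          have hn : IsE σ C.e ((-r) • cv i) (σ s) := by rwa [neg_smul]
          refine anyd _ ⟨_, hn, ?_⟩
          show g⁻¹ * L.κ _ _ * g ∈ N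
          rw [show (⟨_, hmem hn⟩ : ↥(sub (q := q) (F := F) ({C.a, C.b, i} : Finset (Fin n)))) =
            (⟨_, hmem hs⟩)⁻¹ from Subtype.ext (by
              show eS hu C.e ((-r) • cv i) (σ s) = (eS hu C.e (r • cv i) s)⁻¹
              rw [hie, neg_smul]), map_inv,
            show g⁻¹ * (L.κ _ ⟨_, hmem hs⟩)⁻¹ * g = (g⁻¹ * L.κ _ ⟨_, hmem hs⟩ * g)⁻¹ by group]
          exact inv_mem (hr s hs) }
    have hone : ∀ r : F, r = 1 ∨ r = ξ → r ∈ S := fun r hr => by
      obtain ⟨s, _, hE, hg⟩ := hseed i hi r hr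
      exact anyd r ⟨s, hE, hg⟩
    have hS : ∀ r, r ∈ S := fix_span hu hξ (hone 1 (Or.inl rfl)) (hone ξ (Or.inr rfl)) (by
      intro r hr hr0 s hs
      have : r = 1 := by
        rw [hu.pow, hq, sq] at hr
        exact mul_left_cancel₀ hr0 (hr.trans (mul_one r).symm)
      rwa [this, one_mul])
    refine (Subgroup.closure_le _).2 ?_
    rintro _ ⟨r, s, hm, hE, rfl⟩
    show MulAut.conj g⁻¹ _ ∈ N
    rw [MulAut.conj_apply, inv_inv]
    exact hS r s hE
  exact sup_le (sup_le (side c (Or.inl rfl)) (side d (Or.inr (Or.inl rfl))))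
    (side C.w (Or.inr (Or.inr rfl)))

/-- The relations for the normalisation over four elements. -/
theorem two_rels {G : Type*} [Group G] (hq : q = 2) {C : Fw n σ} {c d : Fin n} (hca : c ≠ C.a)
    (hcb : c ≠ C.b) (hcw : c ≠ C.w) (hda : d ≠ C.a) (hdb : d ≠ C.b) (hdw : d ≠ C.w) (hcd : c ≠ d)
    (ξ : F) (Φ : G →* Su n F q)
    (wd : ∀ (S : Finset (Fin n)), S.card ≤ 4 → ↥(sub (q := q) (F := F) S) →* G)
    (Φwd : ∀ S h g, Φ (wd S h g) = g)
    (hc3 : ∀ {x y z : Fin n}, ({x, y, z} : Finset (Fin n)).card ≤ 4) :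
    ∃ L2 : List G, L2.length ≤ 6 ∧ (∀ r ∈ L2, Φ r = 1) ∧
      ∃ (h : ↥(sub (q := q) (F := F) ({c, d, C.w} : Finset (Fin n)))),
        mat (h : Su n F q) *ᵥ cv C.w = cv c + cv d + cv C.w ∧
        ∀ i, i = c ∨ i = d ∨ i = C.w → ∀ r : F, r = 1 ∨ r = ξ →
          ∃ (s rc dc rd dd rw dw : F)
            (hm : eS hu C.e (r • cv i) s ∈ sub ({C.a, C.b, i} : Finset (Fin n)))
            (mc : eS hu C.e (rc • cv c) dc ∈ sub ({C.a, C.b, c} : Finset (Fin n)))
            (md : eS hu C.e (rd • cv d) dd ∈ sub ({C.a, C.b, d} : Finset (Fin n)))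
            (mw : eS hu C.e (rw • cv C.w) dw ∈ sub ({C.a, C.b, C.w} : Finset (Fin n))),
            IsE σ C.e (r • cv i) s ∧ IsE σ C.e (rc • cv c) dc ∧ IsE σ C.e (rd • cv d) dd ∧
            IsE σ C.e (rw • cv C.w) dw ∧
            ((wd _ hc3 h)⁻¹ * wd _ hc3 ⟨_, hm⟩ * wd _ hc3 h) *
              (wd _ hc3 ⟨_, mc⟩ * wd _ hc3 ⟨_, md⟩ * wd _ hc3 ⟨_, mw⟩)⁻¹ ∈ L2 := by
  have h2F : (2 : F) = 0 := by
    have hF := SUGen.card_F hu
    have := FiniteField.cast_card_eq_zero F
    rw [hF, hq] at this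
    push_cast at this
    exact (pow_eq_zero_iff (two_ne_zero (α := ℕ))).1 (by linear_combination this)
  obtain ⟨h, hh, hhw⟩ := exists_su_move hu (S := {c, d, C.w}) (v := cv C.w)
    (v' := cv c + cv d + cv C.w) (supp_cv (by simp))
    (((supp_cv (by simp)).add (supp_cv (by simp))).add (supp_cv (by simp))) (by simp [cv])
    (fun h0 => by
      have := congrFun h0 c
      simp [hcd, hcw] at this)
    (by
      simp [hB_cv_cv, hcd, hcd.symm, hcw, hcw.symm, hdw, hdw.symm]
      linear_combination h2F)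
    (Or.inl (by rw [Finset.card_insert_of_notMem (by simp [hcd, hcw]), Finset.card_pair hdw]))
  have hP := C.hp hu
  have hex : ∀ i, i = c ∨ i = d ∨ i = C.w → ∀ r : F, ∃ s, IsE σ C.e (r • cv i) s := by
    intro i hi r
    obtain ⟨s, hs⟩ := exists_d hu (r • cv i : Vn n F)
    refine ⟨s, hP.isE hu (((C.inW_iff hu _).2 ⟨Pi.single_eq_of_ne ?_ _,
      Pi.single_eq_of_ne ?_ _⟩).smul r) hs⟩ <;> rcases hi with rfl | rfl | rfl
    exacts [hca.symm, hda.symm, C.haw, hcb.symm, hdb.symm, C.hbw]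
  have mem : ∀ {i : Fin n} {r s : F}, IsE σ C.e (r • cv i) s →
      eS hu C.e (r • cv i) s ∈ sub ({C.a, C.b, i} : Finset (Fin n)) := fun hE =>
    eS_mem_sub hu hE (C.e_supp.mono fun l hl => by
      simp only [Fw.P2, Finset.mem_insert, Finset.mem_singleton] at hl ⊢; tauto)
      ((supp_cv (by simp)).smul _)
  have key : ∀ i, i = c ∨ i = d ∨ i = C.w → ∀ r : F,
      ∃ (s rc dc rd dd rw dw : F) (hE : IsE σ C.e (r • cv i) s)
        (hc : IsE σ C.e (rc • cv c) dc) (hd : IsE σ C.e (rd • cv d) dd)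
        (hw' : IsE σ C.e (rw • cv C.w) dw),
        Φ ((wd _ hc3 ⟨h, hh⟩)⁻¹ * wd _ hc3 ⟨_, mem hE⟩ * wd _ hc3 ⟨h, hh⟩) =
          Φ (wd _ hc3 ⟨_, mem hc⟩ * wd _ hc3 ⟨_, mem hd⟩ * wd _ hc3 ⟨_, mem hw'⟩) := by
    intro i hi r
    obtain ⟨s, hE⟩ := hex i hi r
    have hys : Supp ({c, d, C.w} : Finset (Fin n)) (mat h⁻¹ *ᵥ (r • cv i)) :=
      sub_supp hu (inv_mem hh) ((supp_cv (by
        rcases hi with rfl | rfl | rfl <;> simp)).smul r)
    have he : mat h⁻¹ *ᵥ C.e = C.e := by
      refine fix_of_supp (inv_mem hh) fun l hl => C.e_supp l ?_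
      simp only [Finset.mem_insert, Finset.mem_singleton] at hl
      rcases hl with rfl | rfl | rfl
      · simp [Fw.P2, hca, hcb]
      · simp [Fw.P2, hda, hdb]
      · exact C.w_notMem
    have hEy : IsE σ C.e (mat h⁻¹ *ᵥ (r • cv i)) s := by
      have := hE.conjS hu h⁻¹
      rwa [he] at this
    obtain ⟨rc, dc, rd, dd, rw', dw, hc, hd, hw', e⟩ :=
      split_three hu C hca hcb hcw hda hdb hdw hcd hys hEy
    refine ⟨s, rc, dc, rd, dd, rw', dw, hE, hc, hd, hw', ?_⟩
    simp only [map_mul, map_inv, Φwd]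
    show h⁻¹ * eS hu C.e (r • cv i) s * h =
      eS hu C.e (rc • cv c) dc * eS hu C.e (rd • cv d) dd * eS hu C.e (rw' • cv C.w) dw
    rw [← e]
    have := suConj hu h⁻¹ hE
    rw [inv_inv, he] at this
    exact this
  choose s rc dc rd dd rw' dw hE hc hd hw' hkey using key
  let rel : ∀ i, (i = c ∨ i = d ∨ i = C.w) → F → G := fun i hi r =>
    ((wd _ hc3 ⟨h, hh⟩)⁻¹ * wd _ hc3 ⟨_, mem (hE i hi r)⟩ * wd _ hc3 ⟨h, hh⟩) *
      (wd _ hc3 ⟨_, mem (hc i hi r)⟩ * wd _ hc3 ⟨_, mem (hd i hi r)⟩ *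
        wd _ hc3 ⟨_, mem (hw' i hi r)⟩)⁻¹
  refine ⟨[rel c (Or.inl rfl) 1, rel c (Or.inl rfl) ξ, rel d (Or.inr (Or.inl rfl)) 1,
    rel d (Or.inr (Or.inl rfl)) ξ, rel C.w (Or.inr (Or.inr rfl)) 1,
    rel C.w (Or.inr (Or.inr rfl)) ξ], by simp, ?_, ⟨h, hh⟩, hhw, ?_⟩
  · intro r hr
    simp only [List.mem_cons, List.not_mem_nil, or_false] at hr
    rcases hr with rfl | rfl | rfl | rfl | rfl | rfl <;>
      simp only [rel] <;> rw [map_mul, map_inv, hkey, mul_inv_cancel]
  · intro i hi r hr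
    refine ⟨s i hi r, rc i hi r, dc i hi r, rd i hi r, dd i hi r, rw' i hi r, dw i hi r,
      mem (hE i hi r), mem (hc i hi r), mem (hd i hi r), mem (hw' i hi r), hE i hi r, hc i hi r,
      hd i hi r, hw' i hi r, ?_⟩
    rcases hi with rfl | rfl | rfl <;> rcases hr with rfl | rfl <;> simp [rel]

set_option maxHeartbeats 400000 in
/-- The presentation for at least five coordinates. -/
theorem su_big_pres (hn : 5 ≤ n) {r4 : ℕ} (h4 : HasPres (Su 4 F q) r4) :
    HasPres (Su n F q) (r4 + 28) := by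
  classical
  obtain ⟨rels, hrels, hiso⟩ := (S2284.result n).2
  have hA : HasPres ↥(alternatingGroup (Fin n)) 8 := hasPres_of_presented rels hrels hiso
  have hC := hA.coprod h4
  obtain ⟨E4⟩ := exists_subEquiv hu (m := 4) (ini n 4) (card_ini (by omega))
  let C0 := Monoid.Coprod ↥(alternatingGroup (Fin n)) (Su 4 F q)
  let A : ↥(alternatingGroup (Fin n)) →* C0 := Monoid.Coprod.inl
  let J : ↥(sub (q := q) (F := F) (ini n 4)) →* C0 := Monoid.Coprod.inr.comp E4.symm.toMonoidHom
  let Φ : C0 →* Su n F q :=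
    Monoid.Coprod.lift permSu ((sub (q := q) (F := F) (ini n 4)).subtype.comp E4.toMonoidHom)
  have ΦA : ∀ π, Φ (A π) = permSu π := fun π => Monoid.Coprod.lift_apply_inl _ _ _
  have ΦJ : ∀ g, Φ (J g) = g := fun g => by
    refine (Monoid.Coprod.lift_apply_inr _ _ _).trans ?_
    show ((E4 (E4.symm g)) : Su n F q) = _
    rw [E4.apply_symm_apply]
  have Φsec : ∀ π g, Φ (secAt A J π g) = g := fun π g => by
    show Φ (A π * J _ * (A π)⁻¹) = _
    rw [map_mul, map_mul, map_inv, ΦA, ΦJ]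
    show permSu (F := F) (q := q) π * (permSu (F := F) (q := q) π⁻¹ * (g : Su n F q) *
      (permSu (F := F) (q := q) π⁻¹)⁻¹) * (permSu (F := F) (q := q) π)⁻¹ = g
    rw [map_inv]
    group
  let wd : ∀ (S : Finset (Fin n)), S.card ≤ 4 → ↥(sub (q := q) (F := F) S) →* C0 := fun S h =>
    (secAt A J (exists_cover' hn S h).choose).comp
      (Subgroup.inclusion (sub_mono (exists_cover' hn S h).choose_spec))
  have Φwd : ∀ S h g, Φ (wd S h g) = g := fun S h g => Φsec _ _
  have hc3 : ∀ {x y z : Fin n}, ({x, y, z} : Finset (Fin n)).card ≤ 4 :=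
    Finset.card_le_three.trans (by norm_num)
  -- points
  let v : (k : ℕ) → k < 5 → Fin n := fun k hk => ⟨k, by omega⟩
  have vne : ∀ {k l : ℕ} (hk : k < 5) (hl : l < 5), k ≠ l → v k hk ≠ v l hl := fun _ _ h h' =>
    h (congrArg Fin.val h')
  obtain ⟨C, hCa, hCb, hCw⟩ := Fw.exists_mk (n := n) hu (a := v 0 (by norm_num))
    (b := v 1 (by norm_num)) (w := v 4 (by norm_num)) (vne (k := 0) (l := 1) (by norm_num) (by norm_num) (by norm_num))
    (vne (k := 0) (l := 4) (by norm_num) (by norm_num) (by norm_num)) (vne (k := 1) (l := 4) (by norm_num) (by norm_num) (by norm_num))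
  set c := v 2 (by norm_num)
  set d := v 3 (by norm_num)
  have hca : c ≠ C.a := by rw [hCa]; exact vne (k := 2) (l := 0) (by norm_num) (by norm_num) (by norm_num)
  have hcb : c ≠ C.b := by rw [hCb]; exact vne (k := 2) (l := 1) (by norm_num) (by norm_num) (by norm_num)
  have hcw : c ≠ C.w := by rw [hCw]; exact vne (k := 2) (l := 4) (by norm_num) (by norm_num) (by norm_num)
  have hda : d ≠ C.a := by rw [hCa]; exact vne (k := 3) (l := 0) (by norm_num) (by norm_num) (by norm_num)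
  have hdb : d ≠ C.b := by rw [hCb]; exact vne (k := 3) (l := 1) (by norm_num) (by norm_num) (by norm_num)
  have hdw : d ≠ C.w := by rw [hCw]; exact vne (k := 3) (l := 4) (by norm_num) (by norm_num) (by norm_num)
  have hcd : c ≠ d := vne (k := 2) (l := 3) (by norm_num) (by norm_num) (by norm_num)
  have hΦ : Function.Surjective Φ := by
    intro g
    have hle : sub (Finset.univ : Finset (Fin n)) ≤ Φ.range :=
      sub_le_of_triples hu C.hab _ (Finset.mem_univ _) (Finset.mem_univ _)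
        (by rw [Finset.card_univ, Fintype.card_fin]; omega) _
        fun i _ _ _ g hg => ⟨wd ({C.a, C.b, i} : Finset (Fin n)) hc3 ⟨g, hg⟩, Φwd _ hc3 _⟩
    exact hle (sub_univ (q := q) (F := F) ▸ Subgroup.mem_top g)
  -- permutations
  obtain ⟨i1, i2, hi1, hi2, hin⟩ := exists_alt_pair (ini n 4)
  obtain ⟨o1, o2, ho1, ho2, hout⟩ := exists_alt_pair (ini n 4)ᶜ
  have stab_out : ∀ {π : ↥(alternatingGroup (Fin n))}, (∀ i, i ∉ (ini n 4)ᶜ → π.1 i = i) →
      ∀ i ∈ ini n 4, π.1 i ∈ ini n 4 := fun h i hi => by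
    rw [h i (fun h' => Finset.mem_compl.1 h' hi)]; exact hi
  set x := v 0 (by norm_num)
  set y := v 1 (by norm_num)
  have hxy : x ≠ y := vne (k := 0) (l := 1) (by norm_num) (by norm_num) (by norm_num)
  have hx4 : x ∈ ini n 4 := mem_ini.2 (by show 0 < 4; norm_num)
  have hy4 : y ∈ ini n 4 := mem_ini.2 (by show 1 < 4; norm_num)
  have swap_mem : ∀ {S : Finset (Fin n)} {u w : Fin n}, u ∈ S → w ∈ S → ∀ i ∈ S,
      Equiv.swap u w i ∈ S := fun {S u w} hu' hw i hi => by
    by_cases h1 : i = u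
    · rw [h1, Equiv.swap_apply_left]; exact hw
    by_cases h2 : i = w
    · rw [h2, Equiv.swap_apply_right]; exact hu'
    rw [Equiv.swap_apply_of_ne_of_ne h1 h2]; exact hi
  obtain ⟨sx, hsx, hsx'⟩ : ∃ sx : ↥(alternatingGroup (Fin n)),
      (∀ i ∈ ini n 4, sx.1 i ∈ ini n 4) ∧ ∀ (h6 : 6 ≤ n),
        sx.1 = Equiv.swap x y * Equiv.swap (⟨4, by omega⟩ : Fin n) ⟨5, by omega⟩ := by
    by_cases h6 : 6 ≤ n
    · have huv : (⟨4, by omega⟩ : Fin n) ≠ ⟨5, by omega⟩ := fun h =>
        absurd (congrArg Fin.val h) (show ¬ (4 = 5) by norm_num)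
      refine ⟨⟨Equiv.swap x y * Equiv.swap (⟨4, by omega⟩ : Fin n) ⟨5, by omega⟩, by
        rw [Equiv.Perm.mem_alternatingGroup, Equiv.Perm.sign_mul, Equiv.Perm.sign_swap hxy,
          Equiv.Perm.sign_swap huv]; rfl⟩, fun i hi => ?_, fun _ => rfl⟩
      show Equiv.swap x y (Equiv.swap _ _ i) ∈ _
      have hi' := mem_ini.1 hi
      rw [Equiv.swap_apply_of_ne_of_ne
        (fun h : i = ⟨4, by omega⟩ => absurd (congrArg Fin.val h) (show ¬ (i.val = 4) by omega))
        (fun h : i = ⟨5, by omega⟩ => absurd (congrArg Fin.val h) (show ¬ (i.val = 5) by omega))]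
      exact swap_mem hx4 hy4 i hi
    · exact ⟨1, fun i hi => hi, fun h => absurd h h6⟩
  obtain ⟨π0, hπ0, hπ03⟩ : ∃ π0 : ↥(alternatingGroup (Fin n)),
      (∀ i ∈ ini n 3, π0.1 i ∈ ini n 3) ∧ ∀ i ∈ ini n 4, i ∉ ini n 3 → π0.1 i ∉ ini n 4 := by
    set w4 := v 4 (by norm_num)
    refine ⟨⟨Equiv.swap x y * Equiv.swap d w4, by
      rw [Equiv.Perm.mem_alternatingGroup, Equiv.Perm.sign_mul, Equiv.Perm.sign_swap hxy,
        Equiv.Perm.sign_swap (vne (k := 3) (l := 4) (by norm_num) (by norm_num) (by norm_num))]; rfl⟩,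
      fun i hi => ?_, fun i hi hi3 => ?_⟩
    · show Equiv.swap x y (Equiv.swap d w4 i) ∈ _
      have hi' := mem_ini.1 hi
      rw [Equiv.swap_apply_of_ne_of_ne
        (fun h : i = d => absurd (congrArg Fin.val h) (show ¬ (i.val = 3) by omega))
        (fun h : i = w4 => absurd (congrArg Fin.val h) (show ¬ (i.val = 4) by omega))]
      exact swap_mem (mem_ini.2 (by show 0 < 3; norm_num)) (mem_ini.2 (by show 1 < 3; norm_num)) i hi
    · have hid : i = d := by
        have h1 := mem_ini.1 hi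
        have h2 : ¬ i.val < 3 := fun h => hi3 (mem_ini.2 h)
        exact Fin.ext (by show i.val = 3; omega)
      subst hid
      show Equiv.swap x y (Equiv.swap d w4 d) ∉ _
      rw [Equiv.swap_apply_left, Equiv.swap_apply_of_ne_of_ne
        (vne (k := 4) (l := 0) (by norm_num) (by norm_num) (by norm_num))
        (vne (k := 4) (l := 1) (by norm_num) (by norm_num) (by norm_num))]
      intro h
      have := mem_ini.1 h
      simp [w4, v] at this
  set k := min 3 (n - 3) with hk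
  obtain ⟨V, hV, hVc⟩ := Finset.exists_subset_card_eq (s := (ini n 3)ᶜ) (n := k)
    (by rw [Finset.card_compl, Fintype.card_fin, card_ini (by omega)]; omega)
  obtain ⟨π1, hπ1⟩ := exists_even_set (A := ini n k) (A' := V)
    (by rw [card_ini (by omega), hVc]) (by rw [card_ini (by omega)]; omega)
  have hdisj : Disjoint (ini n 3) ((ini n k).image π1.1) := by
    rw [hπ1, Finset.disjoint_left]
    exact fun z hz hz' => Finset.mem_compl.1 (hV hz') hz
  -- generators of the coordinate subgroups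
  obtain ⟨g1, g2, hg⟩ := exists_pair hu (ini n 4) (by rw [card_ini (by omega)]; norm_num)
    (card_ini (by omega)).le
  obtain ⟨u1, u2, huu⟩ := exists_pair hu (ini n 3) (by rw [card_ini (by omega)]; norm_num)
    (by rw [card_ini (by omega)]; norm_num)
  obtain ⟨w1, w2, hww⟩ := exists_pair hu (ini n k) (by rw [card_ini (by omega)]; omega)
    (by rw [card_ini (by omega)]; omega)
  have h34 : ini n 3 ⊆ ini n 4 := ini_mono (by norm_num)
  have hk4 : ini n k ⊆ ini n 4 := ini_mono (by omega)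
  let iu : ↥(sub (q := q) (F := F) (ini n 3)) →* ↥(sub (q := q) (F := F) (ini n 4)) :=
    Subgroup.inclusion (sub_mono h34)
  let iw : ↥(sub (q := q) (F := F) (ini n k)) →* ↥(sub (q := q) (F := F) (ini n 4)) :=
    Subgroup.inclusion (sub_mono hk4)
  let mk : C0 → C0 → C0 := fun a b => a * b⁻¹
  let eqv : ∀ (π : ↥(alternatingGroup (Fin n))), (∀ i ∈ ini n 4, π.1 i ∈ ini n 4) →
      ↥(sub (q := q) (F := F) (ini n 4)) → C0 := fun π h g =>
    mk (A π * J g * (A π)⁻¹) (J (tr π _ _ h g))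
  let br : ↥(sub (q := q) (F := F) (ini n 3)) → C0 := fun g =>
    mk (A π0 * J (iu g) * (A π0)⁻¹) (J (iu (tr π0 _ _ hπ0 g)))
  let farw : ↥(sub (q := q) (F := F) (ini n 3)) → ↥(sub (q := q) (F := F) (ini n k)) → C0 :=
    fun g g' => mk (J (iu g) * (A π1 * J (iw g') * (A π1)⁻¹)) (A π1 * J (iw g') * (A π1)⁻¹ * J (iu g))
  let L1 : List C0 :=
    [mk (A i1) (J ⟨permSu i1, permSu_fix hi1⟩), mk (A i2) (J ⟨permSu i2, permSu_fix hi2⟩),
     eqv o1 (stab_out ho1) g1, eqv o1 (stab_out ho1) g2, eqv o2 (stab_out ho2) g1,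
     eqv o2 (stab_out ho2) g2, eqv sx hsx g1, eqv sx hsx g2, br u1, br u2,
     farw u1 w1, farw u1 w2, farw u2 w1, farw u2 w2]
  -- the relations over four elements
  obtain ⟨ξ, hξ⟩ : ∃ ξ : F, σ ξ ≠ ξ := by
    by_contra h; push Not at h; exact hu.ne_id (RingHom.ext h)
  obtain ⟨L2, hL2c, hL2, hTwo⟩ : ∃ L2 : List C0, L2.length ≤ 6 ∧ (∀ r ∈ L2, Φ r = 1) ∧
      (q = 2 → ∃ (h : ↥(sub (q := q) (F := F) ({c, d, C.w} : Finset (Fin n)))),
        mat (h : Su n F q) *ᵥ cv C.w = cv c + cv d + cv C.w ∧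
        ∀ i, i = c ∨ i = d ∨ i = C.w → ∀ r : F, r = 1 ∨ r = ξ →
          ∃ (s rc dc rd dd rw dw : F)
            (hm : eS hu C.e (r • cv i) s ∈ sub ({C.a, C.b, i} : Finset (Fin n)))
            (mc : eS hu C.e (rc • cv c) dc ∈ sub ({C.a, C.b, c} : Finset (Fin n)))
            (md : eS hu C.e (rd • cv d) dd ∈ sub ({C.a, C.b, d} : Finset (Fin n)))
            (mw : eS hu C.e (rw • cv C.w) dw ∈ sub ({C.a, C.b, C.w} : Finset (Fin n))),
            IsE σ C.e (r • cv i) s ∧ IsE σ C.e (rc • cv c) dc ∧ IsE σ C.e (rd • cv d) dd ∧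
            IsE σ C.e (rw • cv C.w) dw ∧
            mk ((wd _ hc3 h)⁻¹ * wd _ hc3 ⟨_, hm⟩ * wd _ hc3 h)
              (wd _ hc3 ⟨_, mc⟩ * wd _ hc3 ⟨_, md⟩ * wd _ hc3 ⟨_, mw⟩) ∈ L2) := by
    by_cases hq : q = 2
    swap
    · exact ⟨[], by simp, by simp, fun h => absurd h hq⟩
    obtain ⟨L2, h1, h2, h3⟩ := two_rels hu hq hca hcb hcw hda hdb hdw hcd ξ Φ wd Φwd hc3
    exact ⟨L2, h1, h2, fun _ => h3⟩
  let L := L1 ++ L2
  have hmk : ∀ {a b : C0}, Φ a = Φ b → Φ (mk a b) = 1 := fun h => by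
    rw [map_mul, map_inv, h, mul_inv_cancel]
  have hL : ∀ r ∈ L, Φ r = 1 := by
    intro r hr
    rcases List.mem_append.1 hr with hr | hr
    swap
    · exact hL2 r hr
    have heqv : ∀ π h g, Φ (eqv π h g) = 1 := fun π h g => hmk (by
      rw [map_mul, map_mul, map_inv, ΦA, ΦJ, ΦJ]; rfl)
    have hbr : ∀ g, Φ (br g) = 1 := fun g => hmk (by
      rw [map_mul, map_mul, map_inv, ΦA, ΦJ, ΦJ]; rfl)
    have hfar : ∀ g g', Φ (farw g g') = 1 := fun g g' => hmk (by
      simp only [map_mul, map_inv, ΦA, ΦJ]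
      exact sub_commute hu hdisj (show ((iu g : ↥(sub (q := q) (F := F) (ini n 4))) : Su n F q) ∈
          sub (ini n 3) from g.2)
        (conj_mem (fun i hi => Finset.mem_image_of_mem _ hi) g'.2))
    simp only [L1, List.mem_cons, List.not_mem_nil, or_false] at hr
    rcases hr with rfl | rfl | rfl | rfl | rfl | rfl | rfl | rfl | rfl | rfl | rfl | rfl | rfl | rfl
    · exact hmk (by rw [ΦA, ΦJ])
    · exact hmk (by rw [ΦA, ΦJ])
    iterate 6 exact heqv _ _ _
    iterate 2 exact hbr _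
    iterate 4 exact hfar _ _
  refine (hC.of_universal Φ hΦ L.toFinset (fun r hr => hL r (List.mem_toFinset.1 hr)) ?_).mono ?_
  swap
  · have h1 := List.toFinset_card_le L
    have h2 : L.length ≤ 20 := by
      show (L1 ++ L2).length ≤ 20
      simp [L1]; omega
    omega
  intro z hz
  set N := Subgroup.normalClosure (L.toFinset : Set C0)
  let q' : C0 →* C0 ⧸ N := QuotientGroup.mk' N
  let ρ : C0 ⧸ N →* Su n F q := QuotientGroup.lift N Φ
    (Subgroup.normalClosure_le_normal fun r hr => hL r (List.mem_toFinset.1 hr))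
  set a := q'.comp A
  set K := q'.comp J
  have rel : ∀ {s t : C0}, mk s t ∈ L → q' s = q' t := fun {s t} h => by
    have h1 : q' (mk s t) = 1 := (QuotientGroup.eq_one_iff _).2
      (Subgroup.subset_normalClosure (List.mem_toFinset.2 h))
    rwa [map_mul, map_inv, mul_inv_eq_one] at h1
  have mon : ∀ (π : ↥(alternatingGroup (Fin n))) (hπ : ∀ i, i ∉ ini n 4 → π.1 i = i),
      a π = K ⟨permSu π, permSu_fix hπ⟩ := by
    intro π hπ
    let H : Subgroup ↥(alternatingGroup (Fin n)) :=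
      { carrier := {π | ∃ hm : permSu π ∈ sub (q := q) (F := F) (ini n 4), a π = K ⟨_, hm⟩}
        one_mem' := ⟨by rw [map_one]; exact one_mem _, by
          rw [map_one, ← map_one K]; exact congrArg K (Subtype.ext (map_one permSu).symm)⟩
        mul_mem' := by
          rintro p p' ⟨hm, e⟩ ⟨hm', e'⟩
          refine ⟨by rw [map_mul]; exact mul_mem hm hm', ?_⟩
          rw [map_mul, e, e', ← map_mul]
          exact congrArg K (Subtype.ext (map_mul permSu p p').symm)
        inv_mem' := by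
          rintro p ⟨hm, e⟩
          refine ⟨by rw [map_inv]; exact inv_mem hm, ?_⟩
          rw [map_inv, e, ← map_inv]
          exact congrArg K (Subtype.ext (map_inv permSu p).symm) }
    have hle : Subgroup.closure ({i1, i2} : Set ↥(alternatingGroup (Fin n))) ≤ H := by
      refine (Subgroup.closure_le _).2 ?_
      rintro _ (rfl | rfl)
      · exact ⟨permSu_fix hi1, rel (by simp [L, L1])⟩
      · exact ⟨permSu_fix hi2, rel (by simp [L, L1])⟩
    obtain ⟨_, e⟩ := hle (hin π hπ)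
    exact e
  have stab : ∀ π : ↥(alternatingGroup (Fin n)), (∀ i ∈ ini n 4, π.1 i ∈ ini n 4) →
      EQ a K π (ini n 4) := by
    let H : Subgroup ↥(alternatingGroup (Fin n)) :=
      { carrier := {π | (∀ i ∈ ini n 4, π.1 i ∈ ini n 4) ∧ EQ a K π (ini n 4)}
        one_mem' := ⟨fun i hi => hi, fun g g' _ e => by
          have : g = g' := Subtype.ext (by simpa using e)
          simp [this]⟩
        mul_mem' := fun {p p'} hp hp' => ⟨fun i hi => hp.1 _ (hp'.1 i hi),
          AmRel.eq_comp hp'.2 hp.2 hp'.1 subset_rfl⟩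
        inv_mem' := fun {p} hp => by
          have h1 : ∀ i ∈ ini n 4, (p⁻¹).1 i ∈ ini n 4 := by
            intro i hi
            have e : (ini n 4).image p.1 = ini n 4 :=
              Finset.eq_of_subset_of_card_le (fun z hz => by
                obtain ⟨w, hw, rfl⟩ := Finset.mem_image.1 hz
                exact hp.1 w hw) (Finset.card_image_of_injective _ p.1.injective).ge
            obtain ⟨w, hw, rfl⟩ := Finset.mem_image.1 (e.symm ▸ hi)
            simpa using hw
          exact ⟨h1, AmRel.eq_inv hp.2 subset_rfl h1⟩ }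
    have gens : ∀ π (hπ : ∀ i ∈ ini n 4, π.1 i ∈ ini n 4), eqv π hπ g1 ∈ L → eqv π hπ g2 ∈ L →
        π ∈ H := by
      intro π hπ h1 h2
      refine ⟨hπ, fun g g' _ e => ?_⟩
      have key : ∀ g, eqv π hπ g ∈ L →
          ((MulAut.conj (a π)).toMonoidHom.comp K) g = (K.comp (tr π _ _ hπ)) g := fun g h => by
        have := rel h
        rw [map_mul, map_mul, map_inv] at this
        exact this
      have := hom_eq_of_pair hg (key g1 h1) (key g2 h2) g
      exact this.trans (congrArg K (Subtype.ext e))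
    intro π hπ
    refine (stab_induction H (fun p hp => ⟨fun i hi => ?_, fun g g' _ e => ?_⟩) (fun p hp => ?_)
      (x := x) (y := y) (u := if h : 6 ≤ n then (⟨4, by omega⟩ : Fin n) else x)
      (v := if h : 6 ≤ n then (⟨5, by omega⟩ : Fin n) else y) hx4 hy4 hxy ?_ π hπ).2
    · by_contra h
      exact h ((p.1.injective (hp _ h)).symm ▸ hi)
    · rw [mon p hp, ← map_inv, ← map_mul, ← map_mul]
      exact congrArg K (Subtype.ext e)
    · have hle : Subgroup.closure ({o1, o2} : Set ↥(alternatingGroup (Fin n))) ≤ H := by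
        refine (Subgroup.closure_le _).2 ?_
        rintro _ (rfl | rfl)
        · exact gens _ (stab_out ho1) (by simp [L, L1]) (by simp [L, L1])
        · exact gens _ (stab_out ho2) (by simp [L, L1]) (by simp [L, L1])
      exact hle (hout p fun i hi => hp i (by simpa using hi))
    · intro hc
      have h6 : 6 ≤ n := by
        rw [Finset.card_compl, Fintype.card_fin, card_ini (by omega)] at hc; omega
      rw [dif_pos h6, dif_pos h6]
      refine ⟨fun h => by simpa using mem_ini.1 h, fun h => by simpa using mem_ini.1 h,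
        fun h => absurd (congrArg Fin.val h) (show ¬ (4 = 5) by norm_num), fun s hs => ?_⟩
      have : s = sx := Subtype.ext (hs.trans (hsx' h6).symm)
      rw [this]
      exact gens sx hsx (by simp [L, L1]) (by simp [L, L1])
  have R : AmRel a K ρ :=
    { hn := hn
      hρa := ΦA
      hρK := ΦJ
      gen := by
        rw [eq_top_iff]
        rintro w -
        obtain ⟨w, rfl⟩ := QuotientGroup.mk'_surjective N w
        induction w using Monoid.Coprod.induction_on with
        | inl p => exact Subgroup.mem_sup_left ⟨p, rfl⟩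
        | inr g =>
          refine Subgroup.mem_sup_right ⟨E4 g, ?_⟩
          show q' (Monoid.Coprod.inr (E4.symm (E4 g))) = _
          rw [E4.symm_apply_apply]
        | mul s t hs ht => rw [map_mul]; exact mul_mem hs ht
      stab := stab
      bridge := by
        refine ⟨π0, hπ0, hπ03, fun g g' hg e => ?_⟩
        have key : ∀ g, br g ∈ L → ((MulAut.conj (a π0)).toMonoidHom.comp (K.comp iu)) g =
            ((K.comp iu).comp (tr π0 _ _ hπ0)) g := fun g h => by
          have := rel h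
          rw [map_mul, map_mul, map_inv] at this
          exact this
        have := hom_eq_of_pair huu (key u1 (by simp [L, L1])) (key u2 (by simp [L, L1]))
          ⟨(g : Su n F q), hg⟩
        exact this.trans (congrArg K (Subtype.ext e))
      mon := mon
      far := by
        refine ⟨π1, hdisj, fun g g' hg hg' => ?_⟩
        have key : ∀ g g', farw g g' ∈ L → Commute ((K.comp iu) g)
            (((MulAut.conj (a π1)).toMonoidHom.comp (K.comp iw)) g') := fun g g' h => by
          have := rel h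
          simp only [map_mul, map_inv] at this
          exact this
        exact commute_of_pairs huu hww (key u1 w1 (by simp [L, L1])) (key u1 w2 (by simp [L, L1]))
          (key u2 w1 (by simp [L, L1])) (key u2 w2 (by simp [L, L1])) ⟨(g : Su n F q), hg⟩
          ⟨(g' : Su n F q), hg'⟩ }
  have hwd : ∀ S (h : S.card ≤ 4) g, q' (wd S h g) = R.loc.κ S g := fun S h g => by
    rw [R.loc_κ, R.kap_eq h (exists_cover' hn S h).choose_spec]
    exact secAt_map q' A J _ _
  have h5 : R.loc.Inj (ini n 5) := by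
    have hmem : ∀ {k : ℕ} (hk : k < 5), v k hk ∈ ini n 5 := fun hk => mem_ini.2 hk
    have hrest : ∀ {k : ℕ} (hk : k < 5), k ≠ 0 → k ≠ 1 → k ≠ 4 → v k hk ∈ C.rest (ini n 5) :=
      fun hk h0 h1 h4 => Finset.mem_sdiff.2 ⟨hmem hk, by
        simp only [Fw.P3, Finset.mem_insert, Finset.mem_singleton, not_or]
        rw [hCa, hCb, hCw]
        exact ⟨vne hk (by norm_num) h0, vne hk (by norm_num) h1, vne hk (by norm_num) h4⟩⟩
    refine R.loc.inj_five hu (hCa ▸ hmem (k := 0) (by norm_num)) (hCb ▸ hmem (k := 1) (by norm_num)) (hCw ▸ hmem (k := 4) (by norm_num)) (card_ini hn)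
      (c := c) (d := d) (hrest (k := 2) (by norm_num) (by norm_num) (by norm_num) (by norm_num))
      (hrest (k := 3) (by norm_num) (by norm_num) (by norm_num) (by norm_num)) hcd ?_
    rcases Nat.lt_or_ge q 3 with hq | hq
    · right
      have hq2 : q = 2 := by have := hu.one_lt; omega
      obtain ⟨h, hhw, hseeds⟩ := hTwo hq2
      refine R.loc.two_of_seeds hu hq2 hca hcb hda hdb hξ h hhw fun i hi r hr => ?_
      obtain ⟨s, rc, dc, rd, dd, rw', dw, hm, mc, md, mw, hE, hEc, hEd, hEw, hrel⟩ := hseeds i hi r hr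
      refine ⟨s, hm, hE, ?_⟩
      have := rel (List.mem_append_right L1 hrel)
      rw [map_mul, map_mul, map_inv, map_mul, map_mul] at this
      simp only [hwd _ hc3] at this
      rw [this]
      exact mul_mem (mul_mem
        (Subgroup.mem_sup_left (Subgroup.mem_sup_left (Subgroup.subset_closure ⟨rc, dc, mc, hEc, rfl⟩)))
        (Subgroup.mem_sup_left (Subgroup.mem_sup_right (Subgroup.subset_closure ⟨rd, dd, md, hEd, rfl⟩))))
        (Subgroup.mem_sup_right (Subgroup.subset_closure ⟨rw', dw, mw, hEw, rfl⟩))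
    · left
      have hc : 2 < Nat.card (fixField σ) := by rw [hu.card_fix]; omega
      letI : Fintype (fixField σ) := Fintype.ofFinite _
      rw [Nat.card_eq_fintype_card] at hc
      obtain ⟨t, ht⟩ : ∃ t : ↥(fixField σ), t ∉ ({0, 1} : Finset ↥(fixField σ)) := by
        by_contra h
        push Not at h
        have := Finset.card_le_card (fun t (_ : t ∈ (Finset.univ : Finset ↥(fixField σ))) => h t)
        rw [Finset.card_univ, Finset.card_pair zero_ne_one] at this
        omega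
      simp only [Finset.mem_insert, Finset.mem_singleton, not_or] at ht
      exact ⟨t.1, t.2, fun h => ht.1 (Subtype.ext h), fun h => ht.2 (Subtype.ext h)⟩
  have := R.injective hu h5 (show ρ (q' z) = ρ 1 by
    show Φ z = _
    rw [hz, map_one])
  exact (QuotientGroup.eq_one_iff z).1 this

end Cfsg.Agent.SUShort
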