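import Cfsg.Agent.SUShort.Frame

/-!
# A group glued from a point stabiliser and a local `SU(3)` maps injectively

If every element is `j a * ψ s * j a'`, the kernel is trivial, since `j` and `ψ` are sections
agreeing on the plane.  The set of these products is closed under the generators.
-/

set_option autoImplicit false

namespace Cfsg.Agent.SUShort

open Matrix Classical.Herm Cfsg.Agent.AutPSU

variable {n q : ℕ} {F : Type*} [Field F] [Fintype F] {σ : F →+* F} (hu : UCtx σ q)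
  (C : Fw n σ) (T : Finset (Fin n))
  {P : Type*} [Group P] (ρ : P →* Su n F q)
  (j : ↥(sub (q := q) (F := F) (T.erase C.w)) →* P) (ψ : ↥(sub (q := q) (F := F) C.P3) →* P)

/-- The stabiliser part. -/
abbrev Apart := ↥(sub (q := q) (F := F) (T.erase C.w))
/-- The local part. -/
abbrev Lpart := ↥(sub (q := q) (F := F) C.P3)

/-- The other coordinates. -/
def Fw.rest : Finset (Fin n) := T \ C.P3

/-- The products `j a * ψ s * j a'`. -/
def Dset : Set P := {x | ∃ a s a', x = j a * ψ s * j a'}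

/-- The conditions on the two sections. -/
structure Hyp : Prop where
  hj : ∀ a, ρ (j a) = a
  hψ : ∀ t, ρ (ψ t) = t
  agree : ∀ (a : Apart (q := q) C T) (t : Lpart (q := q) C), (a : Su n F q) = t → j a = ψ t
  gen : j.range ⊔ ψ.range = ⊤
  twist : ∀ (k : Apart (q := q) C T), ∀ l μ : F, mat (k : Su n F q) *ᵥ C.e = l • C.e → mat (k : Su n F q) *ᵥ C.f = μ • C.f →
    ∀ (t t' : Lpart (q := q) C), (k : Su n F q) * t * (k : Su n F q)⁻¹ = t' → j k * ψ t * (j k)⁻¹ = ψ t'
  tor : ∀ (t : Lpart (q := q) C), ∀ z : F, mat (t : Su n F q) *ᵥ cv C.w = z • cv C.w →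
    ∀ (a a' : Apart (q := q) C T), (t : Su n F q) * a * (t : Su n F q)⁻¹ = a' → ψ t * j a * (ψ t)⁻¹ = j a'
  rad : ∀ (a : Apart (q := q) C T) (t : Lpart (q := q) C), ∀ (y : Vn n F) (d α b : F), Supp (C.rest T) y → IsE σ C.e y d →
    IsE σ C.e (α • cv C.w) b → (a : Su n F q) = eS hu C.e y d →
      (t : Su n F q) = eS hu C.e (α • cv C.w) b → Commute (j a) (ψ t)
  anis : ∀ (a : Apart (q := q) C T) (t : Lpart (q := q) C), (a : Su n F q) ∈ sub (T.erase C.a) → (t : Su n F q) ∈ sub {C.a, C.w} →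
    Commute (j a) (ψ t)
  slide : ∀ (x : Vn n F) (z : F), Supp (C.rest T) x → x ≠ 0 → hB n σ x x + z * σ z = 1 →
    ∀ (t : Lpart (q := q) C), ∀ α b : F, IsE σ C.e (α • cv C.w) b → (t : Su n F q) = eS hu C.e (α • cv C.w) b →
      ∃ (a : Apart (q := q) C T) (s : Lpart (q := q) C), mat ((a : Su n F q) * (s : Su n F q)) *ᵥ cv C.w = x + z • cv C.w ∧
        ψ t * (j a * ψ s) ∈ Dset C T j ψ

namespace Hyp

variable {C T ρ j ψ} (h : Hyp hu C T ρ j ψ) (ha : C.a ∈ T) (hb : C.b ∈ T) (hw : C.w ∈ T)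
include h ha hb hw

omit h in
theorem P2_le : (sub C.P2 : Subgroup (Su n F q)) ≤ sub (T.erase C.w) := by
  refine sub_mono fun i hi => ?_
  simp only [Fw.P2, Finset.mem_insert, Finset.mem_singleton] at hi
  rcases hi with rfl | rfl
  exacts [Finset.mem_erase.2 ⟨C.haw, ha⟩, Finset.mem_erase.2 ⟨C.hbw, hb⟩]

omit h in
theorem P3_le : (sub C.P3 : Subgroup (Su n F q)) ≤ sub T := by
  refine sub_mono fun i hi => ?_
  simp only [Fw.P3, Finset.mem_insert, Finset.mem_singleton] at hi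
  rcases hi with rfl | rfl | rfl <;> assumption

theorem mul_mem_D {x : P} (hx : x ∈ Dset C T j ψ) (a : ↥(sub (q := q) (F := F) (T.erase C.w))) :
    x * j a ∈ Dset C T j ψ := by
  obtain ⟨a1, s, a2, rfl⟩ := hx
  exact ⟨a1, s, a2 * a, by rw [map_mul, mul_assoc]⟩

theorem j_mul_D {x : P} (hx : x ∈ Dset C T j ψ) (a : ↥(sub (q := q) (F := F) (T.erase C.w))) :
    j a * x ∈ Dset C T j ψ := by
  obtain ⟨a1, s, a2, rfl⟩ := hx
  exact ⟨a * a1, s, a2, by rw [map_mul, mul_assoc, mul_assoc, mul_assoc]⟩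

/-- An element of the plane seen in both parts. -/
theorem plane {g : Su n F q} (hg : g ∈ sub C.P2) :
    j ⟨g, P2_le ha hb hw hg⟩ = ψ ⟨g, sub_mono C.P2_sub hg⟩ := h.agree _ _ rfl

theorem same {t t' : ↥(sub (q := q) (F := F) C.P3)}
    (e : mat (t : Su n F q) *ᵥ cv C.w = mat (t' : Su n F q) *ᵥ cv C.w) :
    ∃ a, ψ t = ψ t' * j a := by
  have hs : ((t'⁻¹ * t : ↥(sub (q := q) (F := F) C.P3)) : Su n F q) ∈ sub C.P2 := by
    have h1 := mem_sub_erase (i := C.w) (t'⁻¹ * t).2 (by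
      rw [Subgroup.coe_mul, Subgroup.coe_inv, mat_mul_mulVec, e, mat_inv_mulVec])
    refine sub_mono (fun i hi => ?_) h1
    simp only [Fw.P3, Finset.mem_erase, Finset.mem_insert, Finset.mem_singleton] at hi
    simp only [Fw.P2, Finset.mem_insert, Finset.mem_singleton]
    tauto
  refine ⟨⟨_, P2_le ha hb hw hs⟩, ?_⟩
  rw [h.plane hu ha hb hw hs, Subtype.coe_eta, ← map_mul, mul_inv_cancel_left]

/-- Moving a stabiliser element across the local part, up to the plane on both sides. -/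
theorem move_plane {k : ↥(sub (q := q) (F := F) (T.erase C.w))} {t : ↥(sub (q := q) (F := F) C.P3)}
    {b c : Su n F q} (hb2 : b ∈ sub C.P2) (hc : c ∈ sub C.P2)
    (hk : ∃ t' a, j (⟨b, P2_le ha hb hw hb2⟩ * k * ⟨c, P2_le ha hb hw hc⟩⁻¹) *
      ψ (⟨c, sub_mono C.P2_sub hc⟩ * t) = ψ t' * j a) :
    ∃ t' a, j k * ψ t = ψ t' * j a := by
  obtain ⟨t', a, e⟩ := hk
  refine ⟨⟨b, sub_mono C.P2_sub hb2⟩⁻¹ * t', a, ?_⟩
  rw [map_mul, map_mul, map_inv, map_mul, h.plane hu ha hb hw hb2, h.plane hu ha hb hw hc] at e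
  rw [map_mul, map_inv, mul_assoc, ← e]
  group

theorem move (k : ↥(sub (q := q) (F := F) (T.erase C.w))) (t : ↥(sub (q := q) (F := F) C.P3))
    (hp : Supp C.P3 (mat (k : Su n F q) *ᵥ (mat (t : Su n F q) *ᵥ cv C.w))) :
    ∃ t' a, j k * ψ t = ψ t' * j a := by
  have hH := hu.isHerm n
  have hP := C.hp hu
  set p := mat (t : Su n F q) *ᵥ cv C.w with hpdef
  have hps : Supp C.P3 p := sub_supp hu t.2 (supp_cv C.w_mem3)
  set z := p C.w
  set u := p - z • cv C.w with hudef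
  have hus : Supp C.P2 u := fun i hi => by
    by_cases hiw : i = C.w
    · subst hiw; simp [u, z]
    · have : i ∉ C.P3 := by
        simp only [Fw.P2, Fw.P3, Finset.mem_insert, Finset.mem_singleton] at hi ⊢
        tauto
      simp [u, hps i this, hiw]
  have hpuz : p = u + z • cv C.w := by simp [u]
  set u' := mat (k : Su n F q) *ᵥ u with hu'def
  have hkw := fix_of_mem_erase k.2
  have hus' : Supp C.P2 u' := fun i hi => by
    have e : u' = mat (k : Su n F q) *ᵥ p - z • cv C.w := by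
      rw [hu'def, hudef, Matrix.mulVec_sub, Matrix.mulVec_smul, hkw]
    by_cases hiw : i = C.w
    · subst hiw
      rw [hu'def, sub_apply hu k.2 u (Finset.notMem_erase _ _), hus _ C.w_notMem]
    · have : i ∉ C.P3 := by
        simp only [Fw.P2, Fw.P3, Finset.mem_insert, Finset.mem_singleton] at hi ⊢
        tauto
      simp [e, hp i this, hiw]
  have hnorm : hB n σ u' u' = hB n σ u u := hB_mat hu _ _ _
  have hone : hB n σ u u + z * σ z = 1 := by
    have e1 : hB n σ p p = 1 := by rw [hpdef, hB_mat hu, hB_cv_cv, if_pos rfl]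
    rw [hpuz] at e1
    simp only [map_add, map_smul, map_smulₛₗ, LinearMap.add_apply, LinearMap.smul_apply, smul_eq_mul,
      hB_cv, hB_cv_right, Pi.single_eq_same, map_one, hus _ C.w_notMem, map_zero, mul_zero, add_zero, zero_add,
      mul_one] at e1
    linear_combination e1
  by_cases hu0 : u = 0
  · have htw : mat (t : Su n F q) *ᵥ cv C.w = z • cv C.w := by rw [← hpdef, hpuz, hu0, zero_add]
    have hz : z ≠ 0 := by
      intro h0; simp [hu0, h0] at hone
    have hmem : (t : Su n F q)⁻¹ * k * t ∈ sub (T.erase C.w) := by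
      refine mem_sub_erase (mul_mem (mul_mem (inv_mem (P3_le ha hb hw t.2))
        (sub_mono (Finset.erase_subset _ _) k.2)) (P3_le ha hb hw t.2)) ?_
      rw [mat_mul_mulVec, mat_mul_mulVec, htw, Matrix.mulVec_smul, hkw, ← htw, mat_inv_mulVec]
    refine ⟨t, ⟨_, hmem⟩, ?_⟩
    rw [← h.tor t z htw ⟨_, hmem⟩ k (by show _ * ((t : Su n F q)⁻¹ * k * t) * _ = _; group)]
    group
  have hu0' : u' ≠ 0 := mat_mulVec_ne_zero _ hu0
  by_cases huu : hB n σ u u = 0
  · obtain ⟨c, hc, l, hcl⟩ := exists_su_move_iso hu hP C.e_supp C.f_supp hus hu0 huu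
    obtain ⟨b, hb2, l', hbl⟩ := exists_su_move_iso hu hP C.e_supp C.f_supp hus' hu0' (hnorm.trans huu)
    refine h.move_plane hu ha hb hw hb2 hc ?_
    set k1 : ↥(sub (q := q) (F := F) (T.erase C.w)) :=
      ⟨b, P2_le ha hb hw hb2⟩ * k * ⟨c, P2_le ha hb hw hc⟩⁻¹
    set t1 : ↥(sub (q := q) (F := F) C.P3) := ⟨c, sub_mono C.P2_sub hc⟩ * t
    have hl : l ≠ 0 := fun h0 => mat_mulVec_ne_zero c hu0 (by rw [hcl, h0, zero_smul])
    have hl' : l' ≠ 0 := fun h0 => mat_mulVec_ne_zero b hu0' (by rw [hbl, h0, zero_smul])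
    have ht1 : mat (t1 : Su n F q) *ᵥ cv C.w = l • C.e + z • cv C.w := by
      show mat (c * (t : Su n F q)) *ᵥ _ = _
      rw [mat_mul_mulVec, ← hpdef, hpuz, Matrix.mulVec_add, hcl, Matrix.mulVec_smul,
        hc C.w C.w_notMem]
    have hk1e : mat (k1 : Su n F q) *ᵥ C.e = (l' / l) • C.e := by
      have hk : mat (k1 : Su n F q) *ᵥ (l • C.e) = l' • C.e := by
        show mat (b * (k : Su n F q) * c⁻¹) *ᵥ _ = _
        rw [← hcl, mat_mul_mulVec, mat_inv_mulVec, mat_mul_mulVec, ← hu'def, hbl]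
      rw [Matrix.mulVec_smul] at hk
      calc mat (k1 : Su n F q) *ᵥ C.e = l⁻¹ • (l • (mat (k1 : Su n F q) *ᵥ C.e)) := by
            rw [smul_smul, inv_mul_cancel₀ hl, one_smul]
        _ = _ := by rw [hk, smul_smul, div_eq_inv_mul]
    set la := l' / l
    have hla : la ≠ 0 := div_ne_zero hl' hl
    have hsla : σ la ≠ 0 := (map_ne_zero σ).2 hla
    set f1 := σ la • (mat (k1 : Su n F q) *ᵥ C.f)
    have hf1 : hB n σ f1 f1 = 0 := by simp [f1, hB_mat hu, hP.ff]
    have hef1 : hB n σ C.e f1 = 1 := by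
      have h1 := hB_mat hu (k1 : Su n F q) C.e C.f
      rw [hk1e, hP.ef, map_smulₛₗ, LinearMap.smul_apply, smul_eq_mul] at h1
      simp only [f1, map_smul, smul_eq_mul]
      exact h1
    set x := proj σ C.e C.f f1
    have hxW : InW σ C.e C.f x := hP.proj_mem hu f1
    set d := hB n σ C.f f1
    have hf1x : f1 = C.f + x + d • C.e := by
      conv_lhs => rw [eq_proj (σ := σ) C.e C.f f1, hef1, one_smul]
      abel
    have hxw : x C.w = 0 := by
      simp [x, proj_apply, f1, sub_apply hu k1.2 C.f (Finset.notMem_erase C.w T), C.e_w, C.f_w]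
    have hxs : Supp (C.rest T) x := by
      intro i hi
      obtain ⟨hxa, hxb⟩ := (C.inW_iff hu x).1 hxW
      by_cases hia : i = C.a
      · rw [hia, hxa]
      by_cases hib : i = C.b
      · rw [hib, hxb]
      by_cases hiw : i = C.w
      · rw [hiw, hxw]
      have hiT : i ∉ T := fun h' => hi (Finset.mem_sdiff.2 ⟨h', by simp [Fw.P3, hia, hib, hiw]⟩)
      have hi2 : i ∉ C.P2 := by simp [Fw.P2, hia, hib]
      simp [x, proj_apply, f1, C.e_supp i hi2, C.f_supp i hi2,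
        sub_apply hu k1.2 C.f (fun h' => hiT (Finset.mem_of_mem_erase h'))]
    have htrd : d + σ d = -hB n σ x x := by
      have h1 := hf1
      rw [hf1x] at h1
      simp only [map_add, map_smul, map_smulₛₗ, LinearMap.add_apply, LinearMap.smul_apply, smul_eq_mul,
        hP.ee, hP.ff, hP.ef, hP.fe hu, hxW.1, hxW.2, InW.a_e hu hxW, InW.a_f hu hxW, mul_zero,
        mul_one, add_zero, zero_add] at h1
      linear_combination h1
    have hE : IsE σ C.e x d := hP.isE hu hxW htrd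
    have hrT : eS hu C.e x d ∈ sub (T.erase C.w) := by
      refine eS_mem_sub hu hE (fun i hi => C.e_supp i fun h' => hi ?_) (hxs.mono ?_)
      · simp only [Fw.P2, Finset.mem_insert, Finset.mem_singleton] at h'
        rcases h' with rfl | rfl
        exacts [Finset.mem_erase.2 ⟨C.haw, ha⟩, Finset.mem_erase.2 ⟨C.hbw, hb⟩]
      · intro i hi
        simp only [Fw.rest, Fw.P3, Finset.mem_sdiff, Finset.mem_insert, Finset.mem_singleton] at hi
        exact Finset.mem_erase.2 ⟨fun h' => hi.2 (Or.inr (Or.inr h')), hi.1⟩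
    set r : ↥(sub (q := q) (F := F) (T.erase C.w)) := ⟨eS hu C.e x d, hrT⟩
    set k' := r⁻¹ * k1
    have hk'e : mat (k' : Su n F q) *ᵥ C.e = la • C.e := by
      show mat ((eS hu C.e x d)⁻¹ * (k1 : Su n F q)) *ᵥ _ = _
      rw [mat_mul_mulVec, hk1e, Matrix.mulVec_smul]
      conv_lhs => arg 2; arg 2; rw [← eS_fix hu hE]
      rw [mat_inv_mulVec]
    have hk'f : mat (k' : Su n F q) *ᵥ C.f = (σ la)⁻¹ • C.f := by
      show mat ((eS hu C.e x d)⁻¹ * (k1 : Su n F q)) *ᵥ _ = _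
      have e1 : mat (k1 : Su n F q) *ᵥ C.f = (σ la)⁻¹ • f1 := by
        rw [smul_smul, inv_mul_cancel₀ hsla, one_smul]
      rw [mat_mul_mulVec, e1, Matrix.mulVec_smul]
      conv_lhs => arg 2; rw [hf1x, ← hP.eS_f hu hxW htrd]
      rw [mat_inv_mulVec]
    have ht'' : (k' : Su n F q) * t1 * (k' : Su n F q)⁻¹ ∈ sub C.P3 := by
      intro i hi
      have hi2 : i ∉ C.P2 := fun h' => hi (C.P2_sub h')
      have hiw : i ≠ C.w := fun h' => hi (h' ▸ C.w_mem3)
      set y := mat (k' : Su n F q)⁻¹ *ᵥ cv i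
      have hky : mat (k' : Su n F q) *ᵥ y = cv i := mat_mulVec_inv _ _
      have he : hB n σ C.e y = 0 := by
        have h1 := hB_mat hu (k' : Su n F q) C.e y
        rw [hky, hk'e, hB_cv_right] at h1
        rw [← h1]; simp [C.e_supp i hi2]
      have hf' : hB n σ C.f y = 0 := by
        have h1 := hB_mat hu (k' : Su n F q) C.f y
        rw [hky, hk'f, hB_cv_right] at h1
        rw [← h1]; simp [C.f_supp i hi2]
      obtain ⟨ya, yb⟩ := (C.inW_iff hu y).1 ⟨he, hf'⟩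
      have yw : y C.w = 0 := by
        show (mat (k' : Su n F q)⁻¹ *ᵥ cv i) C.w = 0
        rw [sub_apply hu (inv_mem k'.2) (cv i) (Finset.notMem_erase _ _)]
        exact Pi.single_eq_of_ne hiw.symm _
      rw [mat_mul_mulVec, mat_mul_mulVec, fix_of_supp t1.2 (x := y) ?_, hky]
      intro l hl
      simp only [Fw.P3, Finset.mem_insert, Finset.mem_singleton] at hl
      rcases hl with rfl | rfl | rfl <;> assumption
    set t'' : ↥(sub (q := q) (F := F) C.P3) := ⟨_, ht''⟩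
    have hzz : z * σ z = 1 := by linear_combination hone - huu
    have hz : z ≠ 0 := left_ne_zero_of_mul_eq_one hzz
    obtain ⟨D, hD, hDw⟩ := exists_su_move hu (S := {C.a, C.w}) (v := cv C.w) (v' := z • cv C.w)
      (supp_cv (by simp)) ((supp_cv (by simp)).smul z) (by simp [cv])
      (smul_ne_zero hz (by simp [cv])) (by rw [smul_self hH, hzz, one_mul])
      (Or.inr ⟨by rw [Finset.card_pair C.haw], by simp [hB_cv_cv]⟩)
    have hD3 : D ∈ sub C.P3 := sub_mono (fun i hi => by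
      simp only [Fw.P3, Finset.mem_insert, Finset.mem_singleton] at hi ⊢; tauto) hD
    set α := σ (-(l * la) / z)
    obtain ⟨β, hβ⟩ := exists_d hu (α • cv C.w : Vn n F)
    have hwW : InW σ C.e C.f (cv C.w) := (C.inW_iff hu _).2 ⟨Pi.single_eq_of_ne C.haw _, Pi.single_eq_of_ne C.hbw _⟩
    have hS : IsE σ C.e (α • cv C.w) β := hP.isE hu (hwW.smul α) hβ
    have hS3 : eS hu C.e (α • cv C.w) β ∈ sub C.P3 :=
      eS_mem_sub hu hS (C.e_supp.mono C.P2_sub) ((supp_cv C.w_mem3).smul α)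
    have htw : mat (t'' : Su n F q) *ᵥ cv C.w =
        mat ((⟨_, hS3⟩ * ⟨D, hD3⟩ : ↥(sub (q := q) (F := F) C.P3)) : Su n F q) *ᵥ cv C.w := by
      have hkw' : mat (k' : Su n F q) *ᵥ cv C.w = cv C.w := fix_of_mem_erase k'.2
      show mat ((k' : Su n F q) * (t1 : Su n F q) * (k' : Su n F q)⁻¹) *ᵥ _ = mat (_ * D) *ᵥ _
      rw [mat_mul_mulVec, mat_mul_mulVec, fix_of_mem_erase (inv_mem k'.2), ht1, mat_mul_mulVec, hDw,
        Matrix.mulVec_smul, eS_mulVec hu hS, Matrix.mulVec_add, Matrix.mulVec_smul, Matrix.mulVec_smul,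
        hk'e, hkw', hB_cv_right, C.e_w]
      simp [α, hu.invol, hB_cv_cv, smul_smul]
      field_simp
      module
    obtain ⟨g, hg⟩ := h.same hu ha hb hw htw
    have hrad : Commute (j r) (ψ ⟨_, hS3⟩) := h.rad _ _ x d α β hxs hE hS rfl rfl
    have hmem : D⁻¹ * (r : Su n F q) * D ∈ sub (T.erase C.w) := by
      refine mem_sub_erase (mul_mem (mul_mem (inv_mem (P3_le ha hb hw hD3))
        (sub_mono (Finset.erase_subset _ _) r.2)) (P3_le ha hb hw hD3)) ?_
      rw [mat_mul_mulVec, mat_mul_mulVec, hDw, Matrix.mulVec_smul, fix_of_mem_erase r.2, ← hDw,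
        mat_inv_mulVec]
    have hrd := h.tor ⟨D, hD3⟩ z hDw ⟨_, hmem⟩ r (by show D * (D⁻¹ * _ * D) * D⁻¹ = _; group)
    refine ⟨⟨_, hS3⟩ * ⟨D, hD3⟩, ⟨_, hmem⟩ * g * k', ?_⟩
    have hkk := h.twist k' la (σ la)⁻¹ hk'e hk'f t1 t'' rfl
    have hjk : j k1 = j r * j k' := by rw [← map_mul, mul_inv_cancel_left]
    rw [hjk]
    calc j r * j k' * ψ t1 = j r * (j k' * ψ t1 * (j k')⁻¹) * j k' := by group
      _ = (j r * ψ ⟨_, hS3⟩) * ψ ⟨D, hD3⟩ * j g * j k' := by rw [hkk, hg, map_mul]; group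
      _ = _ := by
        rw [hrad.eq, ← hrd, map_mul ψ ⟨_, hS3⟩ ⟨D, hD3⟩, map_mul j (⟨_, hmem⟩ * g) k',
          map_mul j ⟨_, hmem⟩ g]
        group
  · obtain ⟨β, hβ⟩ := exists_norm' hu (a := hB n σ u u) (fix_self hH u)
    have hβ0 : β ≠ 0 := fun h0 => huu (by rw [← hβ, h0, zero_mul])
    have hbe : hB n σ (β • cv C.a : Vn n F) (β • cv C.a) = hB n σ u u := by
      rw [smul_self hH, hB_cv_cv, if_pos rfl, mul_one, hβ]
    have h2 : 2 ≤ C.P2.card := by rw [Fw.P2, Finset.card_pair C.hab]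
    have hv0 : (β • cv C.a : Vn n F) ≠ 0 := smul_ne_zero hβ0 (by simp [cv])
    obtain ⟨c, hc, hcu⟩ := exists_su_move hu hus ((supp_cv C.a_mem).smul β) hu0 hv0 hbe.symm
      (Or.inr ⟨h2, huu⟩)
    obtain ⟨b, hb2, hbu⟩ := exists_su_move hu hus' ((supp_cv C.a_mem).smul β) hu0' hv0
      (hnorm.trans hbe.symm) (Or.inr ⟨h2, hnorm ▸ huu⟩)
    refine h.move_plane hu ha hb hw hb2 hc ?_
    set k1 : ↥(sub (q := q) (F := F) (T.erase C.w)) :=
      ⟨b, P2_le ha hb hw hb2⟩ * k * ⟨c, P2_le ha hb hw hc⟩⁻¹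
    set t1 : ↥(sub (q := q) (F := F) C.P3) := ⟨c, sub_mono C.P2_sub hc⟩ * t
    have hk1a : mat (k1 : Su n F q) *ᵥ cv C.a = cv C.a := by
      have hk : mat (k1 : Su n F q) *ᵥ (β • cv C.a) = β • cv C.a := by
        show mat (b * (k : Su n F q) * c⁻¹) *ᵥ _ = _
        conv_lhs => rw [← hcu]
        rw [mat_mul_mulVec, mat_inv_mulVec, mat_mul_mulVec, ← hu'def, hbu]
      rw [Matrix.mulVec_smul] at hk
      exact smul_right_injective _ hβ0 hk
    have ht1 : mat (t1 : Su n F q) *ᵥ cv C.w = β • cv C.a + z • cv C.w := by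
      show mat (c * (t : Su n F q)) *ᵥ _ = _
      rw [mat_mul_mulVec, ← hpdef, hpuz, Matrix.mulVec_add, hcu, Matrix.mulVec_smul,
        hc C.w C.w_notMem]
    obtain ⟨tt, htt, httw⟩ := exists_su_move hu (S := {C.a, C.w}) (v := cv C.w)
      (v' := β • cv C.a + z • cv C.w) (supp_cv (by simp))
      (((supp_cv (by simp)).smul β).add ((supp_cv (by simp)).smul z)) (by simp [cv])
      (fun h0 => hβ0 (by simpa [C.haw] using congrFun h0 C.a))
      (by
        simp only [map_add, map_smul, map_smulₛₗ, LinearMap.add_apply, LinearMap.smul_apply,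
          smul_eq_mul, hB_cv_cv, if_pos, if_neg C.haw, if_neg C.haw.symm, mul_zero, add_zero,
          zero_add, mul_one]
        linear_combination -hone - hβ)
      (Or.inr ⟨by rw [Finset.card_pair C.haw], by simp [hB_cv_cv]⟩)
    have htt3 : tt ∈ sub C.P3 := sub_mono (fun i hi => by
      simp only [Fw.P3, Finset.mem_insert, Finset.mem_singleton] at hi ⊢; tauto) htt
    obtain ⟨g, hg⟩ := h.same hu ha hb hw (t := t1) (t' := ⟨tt, htt3⟩) (ht1.trans httw.symm)
    have hk1 : (k1 : Su n F q) ∈ sub (T.erase C.a) :=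
      sub_mono (fun i hi => by
        simp only [Finset.mem_erase] at hi ⊢; exact ⟨hi.1, hi.2.2⟩) (mem_sub_erase k1.2 hk1a)
    have hcm : Commute (j k1) (ψ ⟨tt, htt3⟩) := h.anis k1 ⟨tt, htt3⟩ hk1 htt
    exact ⟨⟨tt, htt3⟩, k1 * g, by rw [hg, map_mul j k1 g, ← mul_assoc, hcm.eq, mul_assoc]⟩

/-- Two products with the same image of the third coordinate lie in the same coset. -/
theorem coset {a a' : ↥(sub (q := q) (F := F) (T.erase C.w))} {t t' : ↥(sub (q := q) (F := F) C.P3)}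
    (e : mat ((a : Su n F q) * (t : Su n F q)) *ᵥ cv C.w = mat ((a' : Su n F q) * (t' : Su n F q)) *ᵥ cv C.w) :
    ∃ g, j a * ψ t = j a' * ψ t' * j g := by
  have e' : mat ((a'⁻¹ * a : ↥(sub (q := q) (F := F) (T.erase C.w))) : Su n F q) *ᵥ
      (mat (t : Su n F q) *ᵥ cv C.w) = mat (t' : Su n F q) *ᵥ cv C.w := by
    rw [Subgroup.coe_mul, Subgroup.coe_inv, mat_mul_mulVec, ← mat_mul_mulVec (a : Su n F q), e,
      mat_mul_mulVec, mat_inv_mulVec]
  obtain ⟨s, g, hs⟩ := h.move hu ha hb hw (a'⁻¹ * a) t (e' ▸ sub_supp hu t'.2 (supp_cv C.w_mem3))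
  have hρ := congrArg ρ hs
  simp only [map_mul, h.hj, h.hψ, Subgroup.coe_inv] at hρ
  obtain ⟨g', hg'⟩ := h.same hu ha hb hw (t := s) (t' := t') (by
    rw [← e', ← mat_mul_mulVec, Subgroup.coe_mul, Subgroup.coe_inv, hρ, mat_mul_mulVec, fix_of_mem_erase g.2])
  refine ⟨g' * g, ?_⟩
  rw [hg', map_mul, map_inv, mul_assoc (j a')⁻¹, inv_mul_eq_iff_eq_mul] at hs
  rw [hs, map_mul]
  group

end Hyp

end Cfsg.Agent.SUShort
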