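import Cfsg.Agent.SUShort.Geom

/-!
# Coordinate subgroups are special unitary groups
-/

set_option autoImplicit false

namespace Cfsg.Agent.SUShort

open Matrix Classical.Herm Cfsg.Agent.AutPSU

variable {n q : ℕ} {F : Type*} [Field F] [Fintype F] {σ : F →+* F} (hu : UCtx σ q)
include hu

/-- The subgroup on `m` coordinates is `SU(m, q)`. -/
theorem exists_subEquiv {m : ℕ} (S : Finset (Fin n)) (hS : S.card = m) :
    Nonempty (Su m F q ≃* ↥(sub (q := q) (F := F) S)) := by
  classical
  have hH := hu.isHerm n
  let e : Fin m ≃ S := (S.equivFinOfCardEq hS).symm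
  let a : Fin m → Vn n F := fun k => cv (e k : Fin n)
  have ha : Classical.Herm.IsON (hB n σ) a := fun i k => by
    show hB n σ (cv (e i : Fin n)) (cv (e k : Fin n)) = _
    rw [hB_cv_cv]
    simp [Subtype.coe_inj]
  have hcrd : ∀ x : Vn n F, PSUMult.crd (hB n σ) a x = 0 ↔ ∀ i ∈ S, x i = 0 := by
    intro x
    constructor
    · intro h i hi
      have := congrFun h (e.symm ⟨i, hi⟩)
      simpa [PSUMult.crd_apply, a, hB_cv] using this
    · intro h
      funext k
      simpa [PSUMult.crd_apply, a, hB_cv] using h _ (e k).2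
  let E := Classical.suEquiv n hu.pow
  have hmap : ((PSUMult.extHom hH ha).range).map E.symm.toMonoidHom = sub S := by
    rw [PSUMult.extHom_range hH ha]
    ext g
    constructor
    · rintro ⟨x, hx, rfl⟩ i hi
      have h1 := hx (cv i) ((hcrd _).2 fun k hk => Pi.single_eq_of_ne (fun h : k = i => hi (h ▸ hk)) _)
      show mat (E.symm x) *ᵥ cv i = cv i
      rw [← Classical.suEquiv_apply hu.pow, MulEquiv.apply_symm_apply]
      exact h1
    · intro hg
      refine ⟨E g, fun x hx => ?_, E.symm_apply_apply g⟩
      rw [Classical.suEquiv_apply]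
      exact fix_of_supp hg ((hcrd x).1 hx)
  exact ⟨((Classical.suEquiv m hu.pow).trans
    (MonoidHom.ofInjective (PSUMult.extHom_injective hH ha))).trans
    ((E.symm.subgroupMap _).trans (MulEquiv.subgroupCongr hmap))⟩

end Cfsg.Agent.SUShort
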