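import Cfsg.Agent.SUShort.Slide

/-!
# Injectivity on five and on more coordinates
-/

set_option autoImplicit false

namespace Cfsg.Agent.SUShort

open Matrix Classical.Herm Cfsg.Agent.AutPSU

variable {n q : ℕ} {F : Type*} [Field F] [Fintype F] {σ : F →+* F} (hu : UCtx σ q)
variable {P : Type*} [Group P] {ρ : P →* Su n F q} (L : Loc ρ)

include hu

/-- The local unipotent elements of one coordinate. -/
def Loc.radGens (L : Loc ρ) (C : Fw n σ) (i : Fin n) : Set P :=
  {x | ∃ (c d : F) (hm : eS hu C.e (c • cv i) d ∈ sub ({C.a, C.b, i} : Finset (Fin n))),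
    IsE σ C.e (c • cv i) d ∧ x = L.κ {C.a, C.b, i} ⟨_, hm⟩}

/-- The local unipotent group on two coordinates and the third one. -/
def Loc.Nrad (L : Loc ρ) (C : Fw n σ) (c d : Fin n) : Subgroup P :=
  Subgroup.closure (L.radGens hu C c) ⊔ Subgroup.closure (L.radGens hu C d) ⊔
    Subgroup.closure (L.radGens hu C C.w)

/-- An element moving the third coordinate to `c + d + w` and normalising the unipotent group. -/
def Loc.Two (L : Loc ρ) (C : Fw n σ) (c d : Fin n) : Prop :=
  ∃ h : ↥(sub (q := q) (F := F) ({c, d, C.w} : Finset (Fin n))),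
    mat (h : Su n F q) *ᵥ cv C.w = cv c + cv d + cv C.w ∧
    ∀ m ∈ L.Nrad hu C c d, (L.κ {c, d, C.w} h)⁻¹ * m * L.κ {c, d, C.w} h ∈ L.Nrad hu C c d

theorem Loc.rad_commute {C : Fw n σ} {i k : Fin n} (hik : i ≠ k) {x y : P}
    (hx : x ∈ Subgroup.closure (L.radGens hu C i)) (hy : y ∈ Subgroup.closure (L.radGens hu C k)) :
    Commute x y := by
  have key : ∀ x ∈ L.radGens hu C i, ∀ y ∈ L.radGens hu C k, Commute x y := by
    rintro _ ⟨c, d, hm, hE, rfl⟩ _ ⟨c', d', hm', hE', rfl⟩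
    set U : Finset (Fin n) := {C.a, C.b, i, k}
    have s1 : ({C.a, C.b, i} : Finset (Fin n)) ⊆ U := fun l hl => by
      simp only [U, Finset.mem_insert, Finset.mem_singleton] at hl ⊢; tauto
    have s2 : ({C.a, C.b, k} : Finset (Fin n)) ⊆ U := fun l hl => by
      simp only [U, Finset.mem_insert, Finset.mem_singleton] at hl ⊢; tauto
    rw [← L.mono _ _ s1 Finset.card_le_four, ← L.mono _ _ s2 Finset.card_le_four]
    refine Commute.map (Subtype.ext ?_) _
    show eS hu C.e (c • cv i) d * eS hu C.e (c' • cv k) d' =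
      eS hu C.e (c' • cv k) d' * eS hu C.e (c • cv i) d
    rw [eS_mul hu hE hE', eS_mul hu hE' hE, add_comm (c • cv i)]
    congr 1
    simp [hB_cv_cv, hik, hik.symm]
    ring
  induction hx using Subgroup.closure_induction with
  | one => exact Commute.one_left _
  | mul a b _ _ ih ih' => exact ih.mul_left ih'
  | inv a _ ih => exact ih.inv_left
  | mem x hx =>
    induction hy using Subgroup.closure_induction with
    | one => exact Commute.one_right _
    | mul a b _ _ ih ih' => exact ih.mul_right ih'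
    | inv a _ ih => exact ih.inv_right
    | mem y hy => exact key x hx y hy

theorem Loc.mem_Nrad {C : Fw n σ} {c d : Fin n} (hcd : c ≠ d) (hcw : c ≠ C.w) (hdw : d ≠ C.w)
    {x : P} (hx : x ∈ L.Nrad hu C c d) :
    ∃ x1 ∈ Subgroup.closure (L.radGens hu C c), ∃ x2 ∈ Subgroup.closure (L.radGens hu C d),
      ∃ x3 ∈ Subgroup.closure (L.radGens hu C C.w), x = x1 * x2 * x3 := by
  let A := Subgroup.closure (L.radGens hu C c)
  let B := Subgroup.closure (L.radGens hu C d)
  let W := Subgroup.closure (L.radGens hu C C.w)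
  have hAB : ∀ {a b}, a ∈ A → b ∈ B → Commute a b := fun h h' => L.rad_commute hu hcd h h'
  have hAW : ∀ {a b}, a ∈ A → b ∈ W → Commute a b := fun h h' => L.rad_commute hu hcw h h'
  have hBW : ∀ {a b}, a ∈ B → b ∈ W → Commute a b := fun h h' => L.rad_commute hu hdw h h'
  let N' : Subgroup P :=
    { carrier := {x | ∃ x1 ∈ A, ∃ x2 ∈ B, ∃ x3 ∈ W, x = x1 * x2 * x3}
      one_mem' := ⟨1, one_mem _, 1, one_mem _, 1, one_mem _, by simp⟩
      mul_mem' := by
        rintro _ _ ⟨a, ha, b, hb, c', hc, rfl⟩ ⟨a', ha', b', hb', c'', hc', rfl⟩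
        refine ⟨a * a', mul_mem ha ha', b * b', mul_mem hb hb', c' * c'', mul_mem hc hc', ?_⟩
        have h1 := (hAW ha' hc).eq
        have h2 := (hBW hb' hc).eq
        have h3 := (hAB ha' hb).eq
        calc a * b * c' * (a' * b' * c'') = a * b * (c' * a') * b' * c'' := by group
          _ = a * b * a' * (c' * b') * c'' := by rw [← h1]; group
          _ = a * (b * a') * b' * c' * c'' := by rw [← h2]; group
          _ = _ := by rw [← h3]; group
      inv_mem' := by
        rintro _ ⟨a, ha, b, hb, c', hc, rfl⟩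
        refine ⟨a⁻¹, inv_mem ha, b⁻¹, inv_mem hb, c'⁻¹, inv_mem hc, ?_⟩
        rw [_root_.mul_inv_rev, _root_.mul_inv_rev, ← mul_assoc,
          ← (hBW (inv_mem hb) (inv_mem hc)).eq, mul_assoc,
          ← (hAW (inv_mem ha) (inv_mem hc)).eq, ← mul_assoc, ← (hAB (inv_mem ha) (inv_mem hb)).eq] }
  refine (show L.Nrad hu C c d ≤ N' from sup_le (sup_le ?_ ?_) ?_) hx
  · exact fun a ha => ⟨a, ha, 1, one_mem _, 1, one_mem _, by simp⟩
  · exact fun b hb => ⟨1, one_mem _, b, hb, 1, one_mem _, by simp⟩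
  · exact fun b hb => ⟨1, one_mem _, 1, one_mem _, b, hb, by simp⟩

theorem Loc.rad_le_range (C : Fw n σ) (i : Fin n) :
    Subgroup.closure (L.radGens hu C i) ≤ (L.κ {C.a, C.b, i}).range :=
  (Subgroup.closure_le _).2 fun _ ⟨_, _, _, _, e⟩ => ⟨_, e.symm⟩

section
variable {C : Fw n σ} {T : Finset (Fin n)} (ha : C.a ∈ T) (hb : C.b ∈ T) (hw : C.w ∈ T)
  (hI : L.Inj (T.erase C.w)) (h3 : 3 ≤ (T.erase C.w).card)
  {c d : Fin n} (hc : c ∈ C.rest T) (hd : d ∈ C.rest T) (hcd : c ≠ d)
include ha hb hc hd hcd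

theorem Loc.Nrad_fix {m : P} (hm : m ∈ L.Nrad hu C c d)
    (hfix : mat (ρ m) *ᵥ cv C.w = cv C.w) : m ∈ (L.sec hu h3 hI).range := by
  obtain ⟨-, -, -, hcw⟩ := Fw.rest_facts hc
  obtain ⟨-, -, -, hdw⟩ := Fw.rest_facts hd
  obtain ⟨x1, h1, x2, h2, x3, h3', rfl⟩ := L.mem_Nrad hu hcd hcw hdw hm
  obtain ⟨g1, rfl⟩ := L.rad_le_range hu C c h1
  obtain ⟨g2, rfl⟩ := L.rad_le_range hu C d h2
  obtain ⟨t, rfl⟩ : x3 ∈ (L.κ C.P3).range := L.rad_le_range hu C C.w h3'
  have c3 : ∀ {x y z : Fin n}, ({x, y, z} : Finset (Fin n)).card ≤ 4 :=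
    Finset.card_le_three.trans (by norm_num)
  have hP3c : C.P3.card ≤ 4 := by rw [card_three C]; norm_num
  have fix1 : mat (g1 : Su n F q) *ᵥ cv C.w = cv C.w :=
    fix_of_mem_erase (sub_mono (Fw.tri_sub ha hb hc) g1.2)
  have fix2 : mat (g2 : Su n F q) *ᵥ cv C.w = cv C.w :=
    fix_of_mem_erase (sub_mono (Fw.tri_sub ha hb hd) g2.2)
  have ht : mat (t : Su n F q) *ᵥ cv C.w = cv C.w := by
    rw [map_mul, map_mul, L.proj _ c3, L.proj _ c3, L.proj _ hP3c, mat_mul_mulVec,
      mat_mul_mulVec] at hfix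
    calc mat (t : Su n F q) *ᵥ cv C.w
        = mat (g2 : Su n F q)⁻¹ *ᵥ (mat (g1 : Su n F q)⁻¹ *ᵥ (mat (g1 : Su n F q) *ᵥ
            (mat (g2 : Su n F q) *ᵥ (mat (t : Su n F q) *ᵥ cv C.w)))) := by
          rw [mat_inv_mulVec, mat_inv_mulVec]
      _ = mat (g2 : Su n F q)⁻¹ *ᵥ (mat (g1 : Su n F q)⁻¹ *ᵥ (mat (g1 : Su n F q) *ᵥ
            (mat (g2 : Su n F q) *ᵥ cv C.w))) := by rw [hfix, fix2, fix1]
      _ = _ := by rw [mat_inv_mulVec, mat_inv_mulVec]
  have htp : (t : Su n F q) ∈ sub C.P2 := by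
    refine sub_mono (fun i hi => ?_) (mem_sub_erase t.2 ht)
    simp only [Fw.P3, Finset.mem_erase, Finset.mem_insert, Finset.mem_singleton] at hi
    simp only [Fw.P2, Finset.mem_insert, Finset.mem_singleton]
    tauto
  have hP2T : C.P2 ⊆ T.erase C.w := fun i hi => by
    simp only [Fw.P2, Finset.mem_insert, Finset.mem_singleton] at hi
    rcases hi with rfl | rfl
    exacts [Finset.mem_erase.2 ⟨C.haw, ha⟩, Finset.mem_erase.2 ⟨C.hbw, hb⟩]
  refine mul_mem (mul_mem ?_ ?_) ?_
  · exact ⟨_, L.sec_κ hu h3 hI (Fw.tri_sub ha hb hc) c3 ⟨_, sub_mono (Fw.tri_sub ha hb hc) g1.2⟩ g1.2⟩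
  · exact ⟨_, L.sec_κ hu h3 hI (Fw.tri_sub ha hb hd) c3 ⟨_, sub_mono (Fw.tri_sub ha hb hd) g2.2⟩ g2.2⟩
  · refine ⟨⟨_, sub_mono hP2T htp⟩, ?_⟩
    rw [L.sec_κ hu h3 hI hP2T (Finset.card_le_two.trans (by norm_num)) _ htp,
      ← L.mono _ _ C.P2_sub hP3c]
    rfl

omit ha hb hd in
/-- Elements of the coordinates `c` and `w` normalise the unipotent group. -/
theorem Loc.Nrad_conj (hd : d ∈ C.rest T)
    (k : ↥(sub (q := q) (F := F) ({c, C.w} : Finset (Fin n)))) {m : P}
    (hm : m ∈ L.Nrad hu C c d) :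
    (L.κ {c, C.w} k) * m * (L.κ {c, C.w} k)⁻¹ ∈ L.Nrad hu C c d := by
  obtain ⟨-, hca, hcb, hcw⟩ := Fw.rest_facts hc
  obtain ⟨-, hda, hdb, hdw⟩ := Fw.rest_facts hd
  set N := L.Nrad hu C c d
  refine (show N ≤ N.comap (MulAut.conj (L.κ {c, C.w} k)).toMonoidHom from ?_) hm
  set U : Finset (Fin n) := {C.a, C.b, c, C.w}
  have sk : ({c, C.w} : Finset (Fin n)) ⊆ U := fun l hl => by
    simp only [U, Finset.mem_insert, Finset.mem_singleton] at hl ⊢; tauto
  have near : ∀ i, i = c ∨ i = C.w → Subgroup.closure (L.radGens hu C i) ≤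
      N.comap (MulAut.conj (L.κ {c, C.w} k)).toMonoidHom := by
    intro i hi
    refine (Subgroup.closure_le _).2 ?_
    rintro _ ⟨r, s, hm', hE, rfl⟩
    have si : ({C.a, C.b, i} : Finset (Fin n)) ⊆ U := fun l hl => by
      simp only [U, Finset.mem_insert, Finset.mem_singleton] at hl ⊢
      rcases hi with rfl | rfl <;> tauto
    show MulAut.conj (L.κ {c, C.w} k) _ ∈ N
    rw [MulAut.conj_apply, ← L.mono _ _ sk Finset.card_le_four, ← L.mono _ _ si Finset.card_le_four,
      ← map_inv, ← map_mul, ← map_mul]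
    set y := mat (k : Su n F q) *ᵥ (r • cv i)
    have hys : Supp ({c, C.w} : Finset (Fin n)) y :=
      sub_supp hu k.2 ((supp_cv (by rcases hi with rfl | rfl <;> simp)).smul r)
    have hke : mat (k : Su n F q) *ᵥ C.e = C.e := by
      refine fix_of_supp k.2 fun l hl => C.e_supp l ?_
      simp only [Fw.P2, Finset.mem_insert, Finset.mem_singleton] at hl ⊢
      rcases hl with rfl | rfl
      · simp [hca, hcb]
      · simp [C.haw.symm, C.hbw.symm]
    have hEy : IsE σ C.e y s := by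
      have := hE.conjS hu (k : Su n F q)
      rwa [hke] at this
    set y2 : Vn n F := y C.w • cv C.w with hy2
    set y1 : Vn n F := y c • cv c with hy1
    have hyy : y = y1 + y2 := by
      funext l
      by_cases h1 : l = c
      · subst h1; simp [y1, y2, hcw]
      by_cases h2 : l = C.w
      · subst h2; simp [y1, y2, Ne.symm hcw]
      · simp [y1, y2, hys l (by simp [h1, h2]), h1, h2]
    have hP := C.hp hu
    have hW : ∀ l : Fin n, l ≠ C.a → l ≠ C.b → InW σ C.e C.f (cv l) := fun l h1 h2 =>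
      (C.inW_iff hu _).2 ⟨Pi.single_eq_of_ne (Ne.symm h1) _, Pi.single_eq_of_ne (Ne.symm h2) _⟩
    obtain ⟨d2, hd2⟩ := exists_d hu y2
    have hE2 : IsE σ C.e y2 d2 := hP.isE hu ((hW _ C.haw.symm C.hbw.symm).smul _) hd2
    have hB12 : hB n σ y1 y2 = 0 := by simp [y1, y2, hB_cv_cv, hcw]
    have hB21 : hB n σ y2 y1 = 0 := by simp [y1, y2, hB_cv_cv, Ne.symm hcw]
    have hE1 : IsE σ C.e y1 (s - d2) := hP.isE hu ((hW c hca hcb).smul _) (by
      have h1 := hEy.tr
      rw [hyy] at h1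
      simp only [map_add, LinearMap.add_apply, hB12, hB21, add_zero, zero_add] at h1
      rw [map_sub]
      linear_combination h1 - hd2)
    have m1 : eS hu C.e y1 (s - d2) ∈ sub ({C.a, C.b, c} : Finset (Fin n)) :=
      eS_mem_sub hu hE1 (C.e_supp.mono fun l hl => by
        simp only [Fw.P2, Finset.mem_insert, Finset.mem_singleton] at hl ⊢; tauto)
        ((supp_cv (by simp)).smul _)
    have m2 : eS hu C.e y2 d2 ∈ sub ({C.a, C.b, C.w} : Finset (Fin n)) :=
      eS_mem_sub hu hE2 (C.e_supp.mono fun l hl => by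
        simp only [Fw.P2, Finset.mem_insert, Finset.mem_singleton] at hl ⊢; tauto)
        ((supp_cv (by simp)).smul _)
    have s1 : ({C.a, C.b, c} : Finset (Fin n)) ⊆ U := fun l hl => by
      simp only [U, Finset.mem_insert, Finset.mem_singleton] at hl ⊢; tauto
    have s2 : ({C.a, C.b, C.w} : Finset (Fin n)) ⊆ U := fun l hl => by
      simp only [U, Finset.mem_insert, Finset.mem_singleton] at hl ⊢; tauto
    have e : (k : Su n F q) * eS hu C.e (r • cv i) s * (k : Su n F q)⁻¹ =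
        eS hu C.e y1 (s - d2) * eS hu C.e y2 d2 := by
      rw [suConj hu _ hE, hke, eS_mul hu hE1 hE2, ← hyy, hB12, sub_zero, sub_add_cancel]
    rw [show (Subgroup.inclusion (sub_mono sk) k * Subgroup.inclusion (sub_mono si) ⟨_, hm'⟩ *
        (Subgroup.inclusion (sub_mono sk) k)⁻¹) =
      Subgroup.inclusion (sub_mono s1) ⟨_, m1⟩ * Subgroup.inclusion (sub_mono s2) ⟨_, m2⟩
        from Subtype.ext e, map_mul, L.mono _ _ s1 Finset.card_le_four,
      L.mono _ _ s2 Finset.card_le_four]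
    exact mul_mem (Subgroup.mem_sup_left (Subgroup.mem_sup_left
      (Subgroup.subset_closure ⟨_, _, m1, hE1, rfl⟩)))
      (Subgroup.mem_sup_right (Subgroup.subset_closure ⟨_, _, m2, hE2, rfl⟩))
  refine sup_le (sup_le (near c (Or.inl rfl)) ?_) (near C.w (Or.inr rfl))
  refine (Subgroup.closure_le _).2 ?_
  rintro _ ⟨r, s, hm', hE, rfl⟩
  show MulAut.conj (L.κ {c, C.w} k) _ ∈ N
  have hcm : Commute (L.κ {c, C.w} k) (L.κ {C.a, C.b, d} ⟨_, hm'⟩) := by
    refine L.far _ _ ?_ (Finset.card_le_two.trans (by norm_num)) Finset.card_le_three _ _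
    rw [Finset.disjoint_left]
    intro l hl h'
    simp only [Finset.mem_insert, Finset.mem_singleton] at hl h'
    rcases hl with rfl | rfl
    · rcases h' with h' | h' | h'
      exacts [hca h', hcb h', hcd h']
    · rcases h' with h' | h' | h'
      exacts [C.haw h'.symm, C.hbw h'.symm, hdw h'.symm]
  rw [MulAut.conj_apply, hcm.eq, mul_inv_cancel_right]
  exact Subgroup.mem_sup_left (Subgroup.mem_sup_right (Subgroup.subset_closure ⟨_, _, hm', hE, rfl⟩))

end

/-- Injectivity on five coordinates. -/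
theorem Loc.inj_five {C : Fw n σ} {T : Finset (Fin n)} (ha : C.a ∈ T) (hb : C.b ∈ T) (hw : C.w ∈ T)
    (h5 : T.card = 5) {c d : Fin n} (hc : c ∈ C.rest T) (hd : d ∈ C.rest T) (hcd : c ≠ d)
    (hiso : (∃ t : F, σ t = t ∧ t ≠ 0 ∧ t ≠ 1) ∨ L.Two hu C c d) : L.Inj T := by
  have hH := hu.isHerm n
  have hP := C.hp hu
  have h3 : 3 ≤ (T.erase C.w).card := by rw [Finset.card_erase_of_mem hw]; omega
  have hI : L.Inj (T.erase C.w) := L.inj_small (by rw [Finset.card_erase_of_mem hw]; omega)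
  refine L.inj_step hu ha hb hw h5.ge hI h3 (L.slide_of_reps hu ha hb hI h3 h5.ge hw ?_)
  obtain ⟨hcT, hca, hcb, hcw⟩ := Fw.rest_facts hc
  obtain ⟨hdT, hda, hdb, hdw⟩ := Fw.rest_facts hd
  have hne : ∀ i : Fin n, (cv i : Vn n F) ≠ 0 := fun i => by simp [cv]
  intro x z hx hne' hnorm
  by_cases hxx : hB n σ x x = 0
  · have hzz : z * σ z = 1 := by linear_combination hnorm - hxx
    set N := L.Nrad hu C c d
    -- common end
    have fin : ∀ (x0 : Vn n F) (h : ↥(sub (q := q) (F := F) ({c, d, C.w} : Finset (Fin n)))),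
        Supp (C.rest T) x0 → x0 c ≠ 0 →
        mat (h : Su n F q) *ᵥ cv C.w = x0 + z • cv C.w →
        (∀ m ∈ N, (L.κ {c, d, C.w} h)⁻¹ * m * L.κ {c, d, C.w} h ∈ N) →
        L.SlideAt hu C T (L.sec hu h3 hI) x0 z := fun x0 h hx0 hx0c hhw hN =>
      L.slide_finish hu ha hb hI h3 hx0 N (fun m hm => L.Nrad_fix hu ha hb hI h3 hc hd hcd hm)
        (L.kappa_mem_D hu ha hb hw hI h3 hc hd hcd h) hN
        (by rw [L.proj _ (Finset.card_le_three.trans (by norm_num)), hhw]) hc hx0c
        (fun r s hE hm => Subgroup.mem_sup_left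
          (Subgroup.mem_sup_left (Subgroup.subset_closure ⟨r, s, hm, hE, rfl⟩)))
        (fun t α b hE ht => Subgroup.mem_sup_right (Subgroup.subset_closure
          ⟨α, b, ht ▸ t.2, hE, congrArg (L.κ C.P3) (Subtype.ext ht)⟩))
    have norm_cw : ∀ (k : ↥(sub (q := q) (F := F) ({c, C.w} : Finset (Fin n)))), ∀ m ∈ N,
        (L.κ {c, C.w} k)⁻¹ * m * L.κ {c, C.w} k ∈ N := fun k m hm => by
      simpa using L.Nrad_conj hu hc hcd hd k⁻¹ hm
    rcases hiso with ⟨t, ht, ht0, ht1⟩ | ⟨h, hhw, hN⟩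
    · obtain ⟨β, hβ⟩ := exists_norm' hu (a := t) ht
      obtain ⟨ζ, hζ⟩ := exists_norm' hu (a := 1 - t) (by rw [map_sub, map_one, ht])
      obtain ⟨δ, hδ⟩ := exists_norm' hu (a := -t) (by rw [map_neg, ht])
      have hβ0 : β ≠ 0 := fun h0 => ht0 (by rw [← hβ, h0, zero_mul])
      have hζ0 : ζ ≠ 0 := fun h0 => ht1 (by
        have : 1 - t = 0 := by rw [← hζ, h0, zero_mul]
        linear_combination -this)
      set x0 : Vn n F := β • cv c + δ • cv d
      have hx0 : Supp (C.rest T) x0 := ((supp_cv hc).smul _).add ((supp_cv hd).smul _)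
      have hx0c : x0 c ≠ 0 := by simp [x0, hcd, hβ0]
      have hx00 : x0 ≠ 0 := fun h0 => hx0c (by rw [h0]; rfl)
      have hnx : hB n σ x0 x0 = hB n σ x x := by
        rw [hxx]
        simp [x0, hB_cv_cv, hcd, hcd.symm]
        linear_combination hβ + hδ
      obtain ⟨k1, hk1, hk1w⟩ := exists_su_move hu (S := {c, C.w}) (v := cv C.w)
        (v' := β • cv c + ζ • cv C.w) (supp_cv (by simp))
        (((supp_cv (by simp)).smul _).add ((supp_cv (by simp)).smul _)) (hne _)
        (fun h0 => hβ0 (by simpa [hcw] using congrFun h0 c))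
        (by simp [hB_cv_cv, hcw, Ne.symm hcw]; linear_combination -hβ - hζ)
        (Or.inr ⟨by rw [Finset.card_pair hcw], by simp [hB_cv_cv]⟩)
      obtain ⟨k2, hk2, hk2w⟩ := exists_su_move hu (S := {d, C.w}) (v := ζ • cv C.w)
        (v' := δ • cv d + z • cv C.w) ((supp_cv (by simp)).smul _)
        (((supp_cv (by simp)).smul _).add ((supp_cv (by simp)).smul _)) (smul_ne_zero hζ0 (hne _))
        (fun h0 => by
          have hz : z = 0 := by simpa [hdw, Ne.symm hdw] using congrFun h0 C.w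
          rw [hz, zero_mul] at hzz; exact zero_ne_one hzz)
        (by simp [hB_cv_cv, hdw, Ne.symm hdw]; linear_combination hζ - hδ - hzz)
        (Or.inr ⟨by rw [Finset.card_pair hdw], by
          simp [hB_cv_cv, hζ0]⟩)
      have sc : ({c, C.w} : Finset (Fin n)) ⊆ {c, d, C.w} := fun l hl => by
        simp only [Finset.mem_insert, Finset.mem_singleton] at hl ⊢; tauto
      have sd : ({d, C.w} : Finset (Fin n)) ⊆ {c, d, C.w} := fun l hl => by
        simp only [Finset.mem_insert, Finset.mem_singleton] at hl ⊢; tauto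
      refine ⟨x0, hx0, hx00, hnx, fin x0
        (Subgroup.inclusion (sub_mono sd) ⟨k2, hk2⟩ * Subgroup.inclusion (sub_mono sc) ⟨k1, hk1⟩)
        hx0 hx0c ?_ ?_⟩
      · show mat (k2 * k1) *ᵥ cv C.w = _
        rw [mat_mul_mulVec, hk1w, Matrix.mulVec_add, Matrix.mulVec_smul, hk2 c (by simp [hcd, hcw]),
          hk2w]
        simp only [x0]
        abel
      · intro m hm
        rw [map_mul, L.mono _ _ sd (Finset.card_le_three.trans (by norm_num)),
          L.mono _ _ sc (Finset.card_le_three.trans (by norm_num))]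
        have hswap : L.Nrad hu C d c = N := by
          simp only [N, Loc.Nrad]
          rw [sup_comm (Subgroup.closure (L.radGens hu C d))]
        have h2 : (L.κ {d, C.w} ⟨k2, hk2⟩)⁻¹ * m * L.κ {d, C.w} ⟨k2, hk2⟩ ∈ N := by
          have := L.Nrad_conj hu hd hcd.symm hc ⟨k2, hk2⟩⁻¹ (m := m) (hswap ▸ hm)
          rw [hswap] at this
          simpa using this
        have h1 := norm_cw ⟨k1, hk1⟩ _ h2
        simpa [mul_assoc] using h1
    · set x0 : Vn n F := z • (cv c + cv d)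
      have hx0 : Supp (C.rest T) x0 := ((supp_cv hc).add (supp_cv hd)).smul _
      have hz0 : z ≠ 0 := left_ne_zero_of_mul_eq_one hzz
      have hx0c : x0 c ≠ 0 := by simp [x0, hcd, hz0]
      have hx00 : x0 ≠ 0 := fun h0 => hx0c (by rw [h0]; rfl)
      have htwo : (1 : F) + 1 = 0 := by
        have h1 := hB_mat hu (h : Su n F q) (cv C.w) (cv C.w)
        rw [hhw] at h1
        simp [hB_cv_cv, hcd, hcd.symm, hcw, Ne.symm hcw, hdw, Ne.symm hdw] at h1
        linear_combination h1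
      have hnx : hB n σ x0 x0 = hB n σ x x := by
        rw [hxx]
        simp [x0, hB_cv_cv, hcd, hcd.symm]
        linear_combination (z * σ z) * htwo
      obtain ⟨k, hk, hkw⟩ := exists_su_move hu (S := {c, C.w}) (v := cv C.w) (v' := z • cv C.w)
        (supp_cv (by simp)) ((supp_cv (by simp)).smul z) (hne _) (smul_ne_zero hz0 (hne _))
        (by simp [hB_cv_cv]; linear_combination -hzz)
        (Or.inr ⟨by rw [Finset.card_pair hcw], by simp [hB_cv_cv]⟩)
      have sc : ({c, C.w} : Finset (Fin n)) ⊆ {c, d, C.w} := fun l hl => by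
        simp only [Finset.mem_insert, Finset.mem_singleton] at hl ⊢; tauto
      refine ⟨x0, hx0, hx00, hnx, fin x0 (h * Subgroup.inclusion (sub_mono sc) ⟨k, hk⟩) hx0 hx0c
        ?_ ?_⟩
      · show mat ((h : Su n F q) * k) *ᵥ cv C.w = _
        rw [mat_mul_mulVec, hkw, Matrix.mulVec_smul, hhw]
        simp only [x0, smul_add]
      · intro m hm
        rw [map_mul, L.mono _ _ sc (Finset.card_le_three.trans (by norm_num))]
        have h1 := norm_cw ⟨k, hk⟩ _ (hN m hm)
        simpa [mul_assoc] using h1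
  · obtain ⟨β, hβ⟩ := exists_norm' hu (a := hB n σ x x) (fix_self hH x)
    have hβ0 : β ≠ 0 := fun h0 => hxx (by rw [← hβ, h0, zero_mul])
    set x0 : Vn n F := β • cv c
    have hx0 : Supp (C.rest T) x0 := (supp_cv hc).smul _
    have hnx : hB n σ x0 x0 = hB n σ x x := by
      rw [smul_self hH, hB_cv_cv, if_pos rfl, mul_one, hβ]
    obtain ⟨h, hh, hhw⟩ := exists_su_move hu (S := {c, C.w}) (v := cv C.w)
      (v' := x0 + z • cv C.w) (supp_cv (by simp))
      (((supp_cv (by simp)).smul _).add ((supp_cv (by simp)).smul _)) (hne _)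
      (fun h0 => hβ0 (by simpa [x0, hcw] using congrFun h0 c))
      (by simp [x0, hB_cv_cv, hcw, Ne.symm hcw]; linear_combination -hnorm - hβ)
      (Or.inr ⟨by rw [Finset.card_pair hcw], by simp [hB_cv_cv]⟩)
    set U : Finset (Fin n) := {C.a, C.b, c, C.w}
    have sc : ({c, C.w} : Finset (Fin n)) ⊆ {c, d, C.w} := fun l hl => by
      simp only [Finset.mem_insert, Finset.mem_singleton] at hl ⊢; tauto
    have hUT : U ⊆ T := fun l hl => by
      simp only [U, Finset.mem_insert, Finset.mem_singleton] at hl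
      rcases hl with rfl | rfl | rfl | rfl <;> assumption
    refine ⟨x0, hx0, smul_ne_zero hβ0 (hne _), hnx,
      L.slide_local hu ha hb hw hI h3 (L.inj_small Finset.card_le_four) hUT (fun l hl => ?_)
        (Finset.card_le_four.trans (by norm_num)) hx0 (i0 := c) (by simp [U]) hc (by simp [x0, hβ0])
        hc hd hcd (Subgroup.inclusion (sub_mono sc) ⟨h, hh⟩) ?_ hhw⟩
    · simp only [U, Fw.P3, Finset.mem_insert, Finset.mem_singleton] at hl ⊢; tauto
    · rw [L.mono _ _ sc (Finset.card_le_three.trans (by norm_num))]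
      refine L.mem_LT (fun l hl => ?_) (Finset.card_le_two.trans (by norm_num)) _
      simp only [U, Finset.mem_insert, Finset.mem_singleton] at hl ⊢; tauto

/-- Injectivity on all sets of coordinates from that on five. -/
theorem Loc.inj_all (five : ∀ U : Finset (Fin n), U.card = 5 → L.Inj U) (T : Finset (Fin n)) :
    L.Inj T := by
  induction T using Finset.strongInduction with
  | _ T ih =>
  rcases Nat.lt_trichotomy T.card 5 with h | h | h
  · exact L.inj_small (by omega)
  · exact five T h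
  obtain ⟨a, b, w, ha, hb, hw, hab, haw, hbw⟩ :=
    Finset.two_lt_card_iff.1 (show 2 < T.card by omega)
  obtain ⟨C, rfl, rfl, rfl⟩ := Fw.exists_mk hu hab haw hbw
  have hH := hu.isHerm n
  have h3 : 3 ≤ (T.erase C.w).card := by rw [Finset.card_erase_of_mem hw]; omega
  have hI : L.Inj (T.erase C.w) := ih _ (Finset.erase_ssubset hw)
  refine L.inj_step hu ha hb hw (by omega) hI h3 (L.slide_of_reps hu ha hb hI h3 (by omega) hw ?_)
  have hP3T : C.P3 ⊆ T := fun i hi => by
    simp only [Fw.P3, Finset.mem_insert, Finset.mem_singleton] at hi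
    rcases hi with rfl | rfl | rfl <;> assumption
  obtain ⟨c, d, hc, hd, hcd⟩ := Finset.one_lt_card_iff.1 (show 1 < (C.rest T).card by
    rw [Fw.rest, Finset.card_sdiff_of_subset hP3T, card_three C]; omega)
  obtain ⟨hcT, hca, hcb, hcw⟩ := Fw.rest_facts hc
  obtain ⟨hdT, hda, hdb, hdw⟩ := Fw.rest_facts hd
  set U : Finset (Fin n) := {C.a, C.b, C.w, c, d}
  have hU5 : U.card = 5 := by
    rw [Finset.card_insert_of_notMem (by simp [C.hab, C.haw, hca.symm, hda.symm]),
      Finset.card_insert_of_notMem (by simp [C.hbw, hcb.symm, hdb.symm]),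
      Finset.card_insert_of_notMem (by simp [Ne.symm hcw, Ne.symm hdw]), Finset.card_pair hcd]
  intro x z hx hne' hnorm
  obtain ⟨x0, hx0s, hx0c, hnx⟩ : ∃ x0 : Vn n F, Supp ({c, d} : Finset (Fin n)) x0 ∧ x0 c ≠ 0 ∧
      hB n σ x0 x0 = hB n σ x x := by
    by_cases hxx : hB n σ x x = 0
    · refine ⟨cv c + C.γ • cv d, (supp_cv (by simp)).add ((supp_cv (by simp)).smul _),
        by simp [hcd], ?_⟩
      rw [hxx]
      simp [hB_cv_cv, hcd, hcd.symm]
      linear_combination C.hγ
    · obtain ⟨β, hβ⟩ := exists_norm' hu (a := hB n σ x x) (fix_self hH x)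
      have hβ0 : β ≠ 0 := fun h0 => hxx (by rw [← hβ, h0, zero_mul])
      exact ⟨β • cv c, (supp_cv (by simp)).smul _, by simp [hβ0],
        by rw [smul_self hH, hB_cv_cv, if_pos rfl, mul_one, hβ]⟩
  have hx0 : Supp (C.rest T) x0 := hx0s.mono fun l hl => by
    simp only [Finset.mem_insert, Finset.mem_singleton] at hl
    rcases hl with rfl | rfl <;> assumption
  have hx00 : x0 ≠ 0 := fun h0 => hx0c (by rw [h0]; rfl)
  have hv : hB n σ (x0 + z • cv C.w) (x0 + z • cv C.w) = 1 := by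
    simp [hB_cv, hB_cv_right, (Fw.inW_rest hu hx0).2]
    linear_combination hnx + hnorm
  obtain ⟨h, hh, hhw⟩ := exists_su_move hu (S := {c, d, C.w}) (v := cv C.w)
    (v' := x0 + z • cv C.w) (supp_cv (by simp))
    ((hx0s.mono fun l hl => by
        simp only [Finset.mem_insert, Finset.mem_singleton] at hl ⊢; tauto).add
      ((supp_cv (by simp)).smul _)) (by simp [cv])
    (fun h0 => by rw [h0, map_zero] at hv; exact zero_ne_one hv)
    (by rw [hv, hB_cv_cv, if_pos rfl])
    (Or.inl (by rw [Finset.card_insert_of_notMem (by simp [hcd, hcw]), Finset.card_pair hdw]))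
  refine ⟨x0, hx0, hx00, hnx, L.slide_local hu ha hb hw hI h3 (five U hU5) (fun l hl => ?_)
    (fun l hl => ?_) hU5.le hx0 (i0 := c) (by simp [U]) hc hx0c hc hd hcd ⟨h, hh⟩
    (L.mem_LT (fun l hl => ?_) (Finset.card_le_three.trans (by norm_num)) _) hhw⟩
  · simp only [U, Finset.mem_insert, Finset.mem_singleton] at hl
    rcases hl with rfl | rfl | rfl | rfl | rfl <;> assumption
  · simp only [U, Fw.P3, Finset.mem_insert, Finset.mem_singleton] at hl ⊢; tauto
  · simp only [U, Finset.mem_insert, Finset.mem_singleton] at hl ⊢; tauto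

end Cfsg.Agent.SUShort
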