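import Cfsg.Agent.SUShort.FourSetup

/-!
# Injectivity for four coordinates
-/

set_option autoImplicit false

namespace Cfsg.Agent.SUShort

open Matrix Classical.Herm Cfsg.Agent.AutPSU

variable {q : ℕ} {F : Type*} [Field F] [Fintype F] {σ : F →+* F} {C : Fw 4 σ}
  {D : FourData (F := F) q C} {hu : UCtx σ q}
  {P : Type*} [Group P] {j : ↥(A4 q C) →* P} {p : P} {ρ : P →* Su 4 F q}
  {k0 : ↥(A4 q C)} {l0 : Fˣ} {t0 : ↥(sub (q := q) (F := F) C.P3)} {z0 ξ : F}
  {h1 h2 : ↥(sub (q := q) (F := F) ({D.c, C.w} : Finset (Fin 4)))}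

namespace FourData.Rel

variable (R : D.Rel hu j p ρ k0 l0 t0 z0 ξ h1 h2)
include R

theorem ρψ (t : ↥(sub (q := q) (F := F) C.P3)) : ρ (D.ψ hu j p t) = t := by
  rw [D.ψ_apply, map_mul, map_mul, map_inv, R.hp, R.hj]
  show D.π0 * (D.π0⁻¹ * (t : Su 4 F q) * D.π0) * D.π0⁻¹ = t
  group

theorem ρκ (h : ↥(sub (q := q) (F := F) ({D.c, C.w} : Finset (Fin 4)))) :
    ρ (D.κ hu j p h) = h := by
  rw [D.κ_apply, map_mul, map_mul, map_inv, R.ρψ, R.hj]
  show D.m0 * (D.m0⁻¹ * (h : Su 4 F q) * D.m0) * D.m0⁻¹ = h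
  group

/-- The plane commutes with the section on the other two coordinates. -/
theorem κ_plane (g : Su 4 F q) (hg : g ∈ sub C.P2)
    (h : ↥(sub (q := q) (F := F) ({D.c, C.w} : Finset (Fin 4)))) :
    Commute (j ⟨g, sub_mono (P2_le C) hg⟩) (D.κ hu j p h) := by
  set J := j ⟨D.m0, sub_mono D.ac_le D.hm0⟩
  set G : ↥(A4 q C) := ⟨D.m0, sub_mono D.ac_le D.hm0⟩⁻¹ * ⟨g, sub_mono (P2_le C) hg⟩ *
    ⟨D.m0, sub_mono D.ac_le D.hm0⟩
  have hG : (G : Su 4 F q) ∈ sub ({C.b, D.c} : Finset (Fin 4)) := by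
    intro i hi
    simp only [Finset.mem_insert, Finset.mem_singleton, not_or] at hi
    show mat (D.m0⁻¹ * g * D.m0) *ᵥ cv i = cv i
    rcases D.univ_cases i with rfl | rfl | rfl | rfl
    · rw [mat_mul_mulVec, mat_mul_mulVec, fix_of_supp hg (x := mat D.m0 *ᵥ cv C.a) ?_, mat_inv_mulVec]
      intro l hl
      simp only [Fw.P2, Finset.mem_insert, Finset.mem_singleton] at hl
      rcases hl with rfl | rfl
      · rw [← hB_cv (σ := σ) C.a (mat D.m0 *ᵥ cv C.a)]
        nth_rewrite 1 [← D.hm0c]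
        rw [hB_mat hu, hB_cv]
        exact Pi.single_eq_of_ne D.hca _
      · exact sub_supp hu D.hm0 (supp_cv (by simp)) _ (by simp [C.hab.symm, D.hcb.symm])
    · exact absurd rfl hi.1
    · have h1 : mat D.m0 *ᵥ cv C.w = cv C.w := D.hm0 C.w (by simp [C.haw.symm, D.hcw.symm])
      rw [mat_mul_mulVec, mat_mul_mulVec, h1, hg C.w C.w_notMem]
      nth_rewrite 1 [← h1]
      rw [mat_inv_mulVec]
    · exact absurd rfl hi.2
  have hc := R.anis G ⟨_, sub_mono (aw_le C) (D.cw_conj_mem hu h)⟩ hG (D.cw_conj_mem hu h)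
  rw [D.κ_apply]
  have e : j ⟨g, sub_mono (P2_le C) hg⟩ = J * j G * J⁻¹ := by
    show _ = j _ * j (_ * _ * _) * (j _)⁻¹
    rw [map_mul, map_mul, map_inv]
    group
  rw [e]
  exact hc.map (MulAut.conj J).toMonoidHom

theorem agree (a : ↥(A4 q C)) (t : ↥(sub (q := q) (F := F) C.P3)) (e : (a : Su 4 F q) = t) :
    j a = D.ψ hu j p t := by
  have hmem : (a : Su 4 F q) ∈ sub C.P2 :=
    sub_mono (fun i hi => by
      simp only [Fw.P3, Finset.mem_erase, Finset.mem_insert, Finset.mem_singleton] at hi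
      simp only [Fw.P2, Finset.mem_insert, Finset.mem_singleton]; tauto)
      (mem_sub_erase (T := C.P3) (i := C.w) (e ▸ t.2) (fix_of_mem_erase a.2))
  have hd : Disjoint C.P2 ({D.c, C.w} : Finset (Fin 4)) := by
    rw [Finset.disjoint_left]
    intro i hi h'
    simp only [Fw.P2, Finset.mem_insert, Finset.mem_singleton] at hi h'
    rcases hi with rfl | rfl <;> rcases h' with h' | h'
    exacts [D.hca h'.symm, C.haw h', D.hcb h'.symm, C.hbw h']
  have hc : Commute (j a) p := by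
    have := R.κ_plane a hmem ⟨D.π0, D.hπ⟩
    rw [← R.mon] at this
    exact this
  have ht : D.conjT hu t = a := by
    refine Subtype.ext ?_
    show D.π0⁻¹ * (t : Su 4 F q) * D.π0 = (a : Su 4 F q)
    rw [← e, mul_assoc, sub_commute hu hd hmem D.hπ, inv_mul_cancel_left]
  rw [D.ψ_apply, ht, ← hc.eq, mul_inv_cancel_right]

theorem gen_top : j.range ⊔ (D.ψ hu j p).range = ⊤ := by
  rw [eq_top_iff, ← R.gen]
  refine sup_le le_sup_left (Subgroup.zpowers_le.2 ?_)
  have h : D.κ hu j p ⟨D.π0, D.hπ⟩ ∈ j.range ⊔ (D.ψ hu j p).range := by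
    rw [D.κ_apply]
    exact mul_mem (mul_mem (Subgroup.mem_sup_left ⟨_, rfl⟩) (Subgroup.mem_sup_right ⟨_, rfl⟩))
      (inv_mem (Subgroup.mem_sup_left ⟨_, rfl⟩))
  rwa [← R.mon] at h

omit R in
theorem c_notMem (D : FourData (F := F) q C) : D.c ∉ C.P3 := by
  simp [Fw.P3, D.hca, D.hcb, D.hcw]

theorem twist_all (k : ↥(A4 q C)) (l μ : F) (he : mat (k : Su 4 F q) *ᵥ C.e = l • C.e)
    (hf : mat (k : Su 4 F q) *ᵥ C.f = μ • C.f) (t t' : ↥(sub (q := q) (F := F) C.P3))
    (e : (k : Su 4 F q) * t * (k : Su 4 F q)⁻¹ = t') :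
    j k * D.ψ hu j p t * (j k)⁻¹ = D.ψ hu j p t' := by
  have hP := C.hp hu
  have hl : l ≠ 0 := fun h0 => mat_mulVec_ne_zero (k : Su 4 F q) hP.e_ne (by rw [he, h0, zero_smul])
  have hμ : μ = (σ l)⁻¹ := by
    have h1 := hB_mat hu (k : Su 4 F q) C.e C.f
    simp only [he, hf, hP.ef, map_smulₛₗ, LinearMap.smul_apply, smul_eq_mul, RingHom.id_apply] at h1
    exact eq_inv_of_mul_eq_one_right (by linear_combination h1)
  obtain ⟨i, hi⟩ : ∃ i : ℕ, ((l0 : F)) ^ i = l := by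
    have := R.l0gen (Units.mk0 l hl)
    rw [← mem_powers_iff_mem_zpowers] at this
    obtain ⟨i, hi⟩ := this
    exact ⟨i, by simpa using congrArg (fun u : Fˣ => (u : F)) hi⟩
  have hpow : ∀ m : ℕ, mat ((k0 ^ m : ↥(A4 q C)) : Su 4 F q) *ᵥ C.e = (l0 : F) ^ m • C.e ∧
      mat ((k0 ^ m : ↥(A4 q C)) : Su 4 F q) *ᵥ C.f = (σ ((l0 : F) ^ m))⁻¹ • C.f := by
    intro m
    induction m with
    | zero => constructor <;> simp [mat_one_mulVec]
    | succ m ih =>
      constructor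
      · rw [pow_succ, Subgroup.coe_mul, mat_mul_mulVec, R.k0e, Matrix.mulVec_smul, ih.1, smul_smul,
          pow_succ, mul_comm]
      · rw [pow_succ, Subgroup.coe_mul, mat_mul_mulVec, R.k0f, Matrix.mulVec_smul, ih.2, smul_smul,
          pow_succ, map_mul, _root_.mul_inv_rev]
  have hk : k = k0 ^ i := by
    set k1 := (k0 ^ i)⁻¹ * k
    have e1 : mat (k1 : Su 4 F q) *ᵥ C.e = C.e := by
      show mat (((k0 ^ i : ↥(A4 q C)) : Su 4 F q)⁻¹ * (k : Su 4 F q)) *ᵥ _ = _
      rw [mat_mul_mulVec, he, ← hi, ← (hpow i).1, mat_inv_mulVec]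
    have e2 : mat (k1 : Su 4 F q) *ᵥ C.f = C.f := by
      show mat (((k0 ^ i : ↥(A4 q C)) : Su 4 F q)⁻¹ * (k : Su 4 F q)) *ᵥ _ = _
      rw [mat_mul_mulVec, hf, hμ, ← hi, ← (hpow i).2, mat_inv_mulVec]
    have h1 : (k1 : Su 4 F q) ∈ sub ({D.c} : Finset (Fin 4)) := by
      intro l' hl'
      simp only [Finset.mem_singleton] at hl'
      rcases D.univ_cases l' with rfl | rfl | rfl | rfl
      · exact fix_plane hu C e1 e2 (supp_cv C.a_mem)
      · exact fix_plane hu C e1 e2 (supp_cv C.b_mem)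
      · exact fix_of_mem_erase k1.2
      · exact absurd rfl hl'
    exact (inv_mul_eq_one.1 (Subtype.ext (sub_singleton hu h1) : k1 = 1)).symm
  have key : ∀ m : ℕ, ∀ t t' : ↥(sub (q := q) (F := F) C.P3),
      ((k0 ^ m : ↥(A4 q C)) : Su 4 F q) * t * ((k0 ^ m : ↥(A4 q C)) : Su 4 F q)⁻¹ = t' →
        j (k0 ^ m) * D.ψ hu j p t * (j (k0 ^ m))⁻¹ = D.ψ hu j p t' := by
    intro m
    induction m with
    | zero =>
      intro t t' e
      rw [pow_zero, map_one, one_mul, inv_one, mul_one]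
      exact congrArg _ (Subtype.ext (by simpa using e))
    | succ m ih =>
      intro t t' e
      have hk0c : mat (k0 : Su 4 F q)⁻¹ *ᵥ cv D.c ∈ Submodule.span F {(cv D.c : Vn 4 F)} := by
        set y := mat (k0 : Su 4 F q)⁻¹ *ᵥ cv D.c
        have hky : mat (k0 : Su 4 F q) *ᵥ y = cv D.c := mat_mulVec_inv _ _
        have hl0 : (l0 : F) ≠ 0 := l0.ne_zero
        have h1 : hB 4 σ C.e y = 0 := by
          have h := hB_mat hu (k0 : Su 4 F q) C.e y
          rw [hky, R.k0e, hB_cv_right] at h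
          rw [← h]; simp [C.e_supp D.c (fun h' => c_notMem D (C.P2_sub h'))]
        have h2 : hB 4 σ C.f y = 0 := by
          have h := hB_mat hu (k0 : Su 4 F q) C.f y
          rw [hky, R.k0f, hB_cv_right] at h
          rw [← h]; simp [C.f_supp D.c (fun h' => c_notMem D (C.P2_sub h'))]
        obtain ⟨ya, yb⟩ := (C.inW_iff hu y).1 ⟨h1, h2⟩
        have yw : y C.w = 0 := by
          show (mat (k0 : Su 4 F q)⁻¹ *ᵥ cv D.c) C.w = 0
          rw [sub_apply hu (inv_mem k0.2) (cv D.c) (Finset.notMem_erase _ _)]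
          exact Pi.single_eq_of_ne D.hcw.symm _
        refine Submodule.mem_span_singleton.2 ⟨y D.c, ?_⟩
        funext l'
        rcases D.univ_cases l' with rfl | rfl | rfl | rfl <;>
          simp [ya, yb, yw, D.hca.symm, D.hcb.symm, D.hcw.symm]
      obtain ⟨s, hs⟩ := Submodule.mem_span_singleton.1 hk0c
      have hmem : (k0 : Su 4 F q) * t * (k0 : Su 4 F q)⁻¹ ∈ sub C.P3 := by
        intro l' hl'
        obtain rfl : l' = D.c := by
          rcases D.univ_cases l' with rfl | rfl | rfl | rfl <;>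
            simp [C.a_mem3, C.b_mem3, C.w_mem3] at hl' ⊢
        rw [mat_mul_mulVec, mat_mul_mulVec, ← hs, Matrix.mulVec_smul, t.2 _ (c_notMem D), hs,
          mat_mulVec_inv]
      have h1 := R.twist t ⟨_, hmem⟩ rfl
      have h2 := ih ⟨_, hmem⟩ t' (by
        rw [← e, pow_succ, Subgroup.coe_mul]
        show _ * ((k0 : Su 4 F q) * t * (k0 : Su 4 F q)⁻¹) * _ = _
        group)
      rw [← h2, ← h1, pow_succ, map_mul]
      group
  exact hk ▸ key i t t' (hk ▸ e)

theorem tor_all (t : ↥(sub (q := q) (F := F) C.P3)) (z : F)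
    (hz : mat (t : Su 4 F q) *ᵥ cv C.w = z • cv C.w) (a a' : ↥(A4 q C))
    (e : (t : Su 4 F q) * a * (t : Su 4 F q)⁻¹ = a') :
    D.ψ hu j p t * j a * (D.ψ hu j p t)⁻¹ = j a' := by
  have hzz : z * σ z = 1 := by
    have h1 := hB_mat hu (t : Su 4 F q) (cv C.w) (cv C.w)
    rw [hz, smul_self (hu.isHerm 4), hB_cv_cv, if_pos rfl, mul_one] at h1
    exact h1
  obtain ⟨i, -, hi⟩ : ∃ i < q + 1, z0 ^ i = z := by
    have hp : IsPrimitiveRoot z0 (q + 1) := R.z0ord ▸ IsPrimitiveRoot.orderOf z0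
    refine hp.eq_pow_of_pow_eq_one ?_
    rw [pow_succ', ← hu.pow, hzz]
  have hpow : ∀ m : ℕ,
      mat ((t0 ^ m : ↥(sub (q := q) (F := F) C.P3)) : Su 4 F q) *ᵥ cv C.w = z0 ^ m • cv C.w := by
    intro m
    induction m with
    | zero => rw [pow_zero, pow_zero, Subgroup.coe_one, mat_one_mulVec, one_smul]
    | succ m ih =>
      rw [pow_succ, Subgroup.coe_mul, mat_mul_mulVec, R.t0w, Matrix.mulVec_smul, ih, smul_smul,
        pow_succ, mul_comm]
  set g := (t0 ^ i)⁻¹ * t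
  have hgw : mat (g : Su 4 F q) *ᵥ cv C.w = cv C.w := by
    show mat (((t0 ^ i : ↥(sub (q := q) (F := F) C.P3)) : Su 4 F q)⁻¹ * (t : Su 4 F q)) *ᵥ _ = _
    rw [mat_mul_mulVec, hz, ← hi, ← hpow i, mat_inv_mulVec]
  have hg2 : (g : Su 4 F q) ∈ sub C.P2 :=
    sub_mono (fun l hl => by
      simp only [Fw.P3, Finset.mem_erase, Finset.mem_insert, Finset.mem_singleton] at hl
      simp only [Fw.P2, Finset.mem_insert, Finset.mem_singleton]; tauto)
      (mem_sub_erase g.2 hgw)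
  set ga : ↥(A4 q C) := ⟨_, sub_mono (P2_le C) hg2⟩
  have key : ∀ m : ℕ, ∀ a a' : ↥(A4 q C),
      ((t0 ^ m : ↥(sub (q := q) (F := F) C.P3)) : Su 4 F q) * a *
        ((t0 ^ m : ↥(sub (q := q) (F := F) C.P3)) : Su 4 F q)⁻¹ = a' →
        D.ψ hu j p (t0 ^ m) * j a * (D.ψ hu j p (t0 ^ m))⁻¹ = j a' := by
    intro m
    induction m with
    | zero =>
      intro a a' e
      rw [pow_zero, map_one, one_mul, inv_one, mul_one]
      exact congrArg _ (Subtype.ext (by simpa using e))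
    | succ m ih =>
      intro a a' e
      have hz0 : z0 ≠ 0 := fun h0 => by
        have := R.t0w
        rw [h0, zero_smul] at this
        exact mat_mulVec_ne_zero (t0 : Su 4 F q) (by simp [cv]) this
      have hmem : (t0 : Su 4 F q) * a * (t0 : Su 4 F q)⁻¹ ∈ A4 q C := by
        intro l hl
        obtain rfl : l = C.w := by simpa using hl
        have hi' : mat (t0 : Su 4 F q)⁻¹ *ᵥ cv C.w = z0⁻¹ • cv C.w := by
          calc mat (t0 : Su 4 F q)⁻¹ *ᵥ cv C.w
              = z0⁻¹ • (mat (t0 : Su 4 F q)⁻¹ *ᵥ (mat (t0 : Su 4 F q) *ᵥ cv C.w)) := by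
                rw [R.t0w, Matrix.mulVec_smul, smul_smul, inv_mul_cancel₀ hz0, one_smul]
            _ = _ := by rw [mat_inv_mulVec]
        rw [mat_mul_mulVec, mat_mul_mulVec, hi', Matrix.mulVec_smul, fix_of_mem_erase a.2,
          Matrix.mulVec_smul, R.t0w, smul_smul, inv_mul_cancel₀ hz0, one_smul]
      have h1 := R.tor a ⟨_, hmem⟩ rfl
      have h2 := ih ⟨_, hmem⟩ a' (by
        rw [← e, pow_succ, Subgroup.coe_mul]
        show _ * ((t0 : Su 4 F q) * a * (t0 : Su 4 F q)⁻¹) * _ = _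
        group)
      rw [← h2, ← h1, pow_succ, map_mul]
      group
  have ht : t = t0 ^ i * g := (mul_inv_cancel_left _ _).symm
  have h2 := key i (ga * a * ga⁻¹) a' (by
    rw [← e, show (t : Su 4 F q) = ((t0 ^ i : ↥(sub (q := q) (F := F) C.P3)) : Su 4 F q) *
      (g : Su 4 F q) from congrArg Subtype.val ht]
    show _ * ((g : Su 4 F q) * (a : Su 4 F q) * (g : Su 4 F q)⁻¹) * _ = _
    group)
  rw [← h2, ht, map_mul, ← R.agree ga g rfl, map_mul, map_mul, map_inv]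
  group

/-- The commutation of the two unipotent parts. -/
theorem rad_all (x α : F) (d b : F) (hE : IsE σ C.e (x • cv D.c) d)
    (hS : IsE σ C.e (α • cv C.w) b) :
    Commute (j ⟨_, D.eSc_mem hu hE⟩) (D.ψ hu j p ⟨_, FourData.eSw_mem hu hS⟩) := by
  have hP := C.hp hu
  let Cm : F → F → Prop := fun x α => ∀ (d b : F) (hE : IsE σ C.e (x • cv D.c) d)
    (hS : IsE σ C.e (α • cv C.w) b),
      Commute (j ⟨_, D.eSc_mem hu hE⟩) (D.ψ hu j p ⟨_, FourData.eSw_mem hu hS⟩)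
  suffices h : ∀ x α, Cm x α from h x α d b hE hS
  have m0 : ∀ {δ : F}, IsE σ C.e 0 δ → eS hu C.e 0 δ ∈ sub C.P2 := fun hδ =>
    eS_mem_sub hu hδ C.e_supp fun _ _ => rfl
  have zero_l : ∀ α, Cm 0 α := by
    intro α d b hE hS
    have hE0 : IsE σ C.e (0 : Vn 4 F) d := by simpa using hE
    rw [R.agree ⟨_, D.eSc_mem hu hE⟩ ⟨_, sub_mono C.P2_sub (by simpa using m0 hE0)⟩ rfl]
    refine Commute.map (Subtype.ext ?_) _
    show eS hu C.e ((0 : F) • cv D.c) d * eS hu C.e (α • cv C.w) b =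
      eS hu C.e (α • cv C.w) b * eS hu C.e ((0 : F) • cv D.c) d
    rw [eS_mul hu hE hS, eS_mul hu hS hE, add_comm ((0 : F) • cv D.c)]
    congr 1
    simp
    ring
  have zero_r : ∀ x, Cm x 0 := by
    intro x d b hE hS
    have hS0 : IsE σ C.e (0 : Vn 4 F) b := by simpa using hS
    have hm : eS hu C.e ((0 : F) • cv C.w) b ∈ A4 q C :=
      sub_mono (P2_le C) (by simpa using m0 hS0)
    rw [← R.agree ⟨_, hm⟩ ⟨_, FourData.eSw_mem hu hS⟩ rfl]
    refine Commute.map (Subtype.ext ?_) _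
    show eS hu C.e (x • cv D.c) d * eS hu C.e ((0 : F) • cv C.w) b =
      eS hu C.e ((0 : F) • cv C.w) b * eS hu C.e (x • cv D.c) d
    rw [eS_mul hu hE hS, eS_mul hu hS hE, add_comm (x • cv D.c)]
    congr 1
    simp
    ring
  -- independence of the scalar
  have any : ∀ x α, (∃ (d b : F) (hE : IsE σ C.e (x • cv D.c) d) (hS : IsE σ C.e (α • cv C.w) b),
      Commute (j ⟨_, D.eSc_mem hu hE⟩) (D.ψ hu j p ⟨_, FourData.eSw_mem hu hS⟩)) → Cm x α := by
    rintro x α ⟨d, b, hE, hS, hc⟩ d' b' hE' hS'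
    have hδ : IsE σ C.e 0 (d' - d) := isE_zero hP.ee (by
      rw [map_sub]; linear_combination hE'.tr - hE.tr)
    have hδ' : IsE σ C.e 0 (b' - b) := isE_zero hP.ee (by
      rw [map_sub]; linear_combination hS'.tr - hS.tr)
    have hδc : IsE σ C.e ((0 : F) • cv D.c) (d' - d) := by simpa using hδ
    have hδw : IsE σ C.e ((0 : F) • cv C.w) (b' - b) := by simpa using hδ'
    have e1 : (⟨_, D.eSc_mem hu hE'⟩ : ↥(A4 q C)) = ⟨_, D.eSc_mem hu hE⟩ * ⟨_, D.eSc_mem hu hδc⟩ :=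
      Subtype.ext (by
        show eS hu C.e (x • cv D.c) d' = eS hu C.e (x • cv D.c) d * eS hu C.e ((0 : F) • cv D.c) (d' - d)
        rw [eS_mul hu hE hδc, zero_smul, add_zero, map_zero, sub_zero, add_sub_cancel])
    have e2 : (⟨_, FourData.eSw_mem hu hS'⟩ : ↥(sub (q := q) (F := F) C.P3)) =
        ⟨_, FourData.eSw_mem hu hS⟩ * ⟨_, FourData.eSw_mem hu hδw⟩ := Subtype.ext (by
        show eS hu C.e (α • cv C.w) b' = eS hu C.e (α • cv C.w) b * eS hu C.e ((0 : F) • cv C.w) (b' - b)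
        rw [eS_mul hu hS hδw, zero_smul, add_zero, map_zero, sub_zero, add_sub_cancel])
    rw [e1, e2, map_mul, map_mul]
    exact (hc.mul_right (zero_r x d (b' - b) hE hδw)).mul_left
      ((zero_l α (d' - d) b hδc hS).mul_right (zero_l 0 (d' - d) (b' - b) hδc hδw))
  -- scaling by the two tori
  have scale1 : ∀ x α l : F, l ≠ 0 → Cm x α → Cm (σ l * (σ l / l) * x) (σ l * α) := by
    intro x α l hl h
    obtain ⟨k, hk, hke, hkf, hkc⟩ := exists_K hu C D.hca D.hcb hl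
    set K : ↥(A4 q C) := ⟨k, sub_mono D.erase_eq.ge hk⟩
    have hkw : mat k *ᵥ cv C.w = cv C.w := hk C.w (by simp [C.haw.symm, C.hbw.symm, D.hcw.symm])
    obtain ⟨d, hE⟩ := exists_isE hu (C := C) D.hca D.hcb x
    obtain ⟨b, hS⟩ := exists_isE hu (C := C) C.haw.symm C.hbw.symm α
    have hE' := (hE.smul hu l)
    have hE2 : IsE σ C.e ((σ l * (σ l / l) * x) • cv D.c) (l * σ l * d) := by
      refine ⟨hE.ee, ?_, ?_⟩
      · rw [map_smulₛₗ, LinearMap.smul_apply, hB_cv, C.e_supp D.c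
          (fun h' => c_notMem D (C.P2_sub h')), smul_zero]
      · have h1 := hE'.tr
        have hl' := (map_ne_zero σ).2 hl
        simp only [smul_self (hu.isHerm 4), hB_cv_cv, if_pos, map_mul, map_div₀, hu.invol, mul_one]
          at h1 ⊢
        rw [h1]
        field_simp
    have hS2 : IsE σ C.e ((σ l * α) • cv C.w) (l * σ l * b) := by
      simpa only [smul_smul] using hS.smul hu l
    refine any _ _ ⟨_, _, hE2, hS2, ?_⟩
    have ec : (⟨_, D.eSc_mem hu hE2⟩ : ↥(A4 q C)) = K * ⟨_, D.eSc_mem hu hE⟩ * K⁻¹ := by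
      refine Subtype.ext ?_
      show _ = k * eS hu C.e (x • cv D.c) d * k⁻¹
      have hkE : IsE σ C.e (mat k *ᵥ (x • cv D.c)) d := by
        refine ⟨hE.ee, ?_, ?_⟩
        · rw [Matrix.mulVec_smul, hkc, map_smulₛₗ, LinearMap.smul_apply, map_smulₛₗ,
            LinearMap.smul_apply, hB_cv, C.e_supp D.c (fun h' => c_notMem D (C.P2_sub h'))]
          simp
        · rw [hB_mat hu]; exact hE.tr
      rw [suConj hu k hE, hke, eS_smul hu hkE, Matrix.mulVec_smul, hkc, smul_smul, smul_smul]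
      congr 2
      ring
    have hew : k * eS hu C.e (α • cv C.w) b * k⁻¹ = eS hu C.e ((σ l * α) • cv C.w) (l * σ l * b) := by
      rw [suConj hu k hS, hke, Matrix.mulVec_smul, hkw, eS_smul hu hS, smul_smul]
    rw [ec, map_mul, map_mul, map_inv,
      ← R.twist_all K l (σ l)⁻¹ hke hkf ⟨_, FourData.eSw_mem hu hS⟩ ⟨_, FourData.eSw_mem hu hS2⟩ hew]
    exact (h d b hE hS).map (MulAut.conj (j K)).toMonoidHom
  have scale2 : ∀ x α m : F, m ≠ 0 → Cm x α → Cm (σ m * x) (σ m * (σ m / m) * α) := by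
    intro x α l hl h
    obtain ⟨k, hk, hke, hkf, hkw⟩ := exists_K hu C (c := C.w) C.haw.symm C.hbw.symm hl
    have hkc : mat k *ᵥ cv D.c = cv D.c := hk D.c (c_notMem D)
    obtain ⟨d, hE⟩ := exists_isE hu (C := C) D.hca D.hcb x
    obtain ⟨b, hS⟩ := exists_isE hu (C := C) C.haw.symm C.hbw.symm α
    have hS2 : IsE σ C.e ((σ l * (σ l / l) * α) • cv C.w) (l * σ l * b) := by
      refine ⟨hS.ee, ?_, ?_⟩
      · rw [map_smulₛₗ, LinearMap.smul_apply, hB_cv, C.e_w, smul_zero]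
      · have h1 := (hS.smul hu l).tr
        have hl' := (map_ne_zero σ).2 hl
        simp only [smul_self (hu.isHerm 4), hB_cv_cv, if_pos, map_mul, map_div₀, hu.invol, mul_one]
          at h1 ⊢
        rw [h1]
        field_simp
    have hE2 : IsE σ C.e ((σ l * x) • cv D.c) (l * σ l * d) := by
      simpa only [smul_smul] using hE.smul hu l
    refine any _ _ ⟨_, _, hE2, hS2, ?_⟩
    set K : ↥(sub (q := q) (F := F) C.P3) := ⟨k, hk⟩
    have ew : (⟨_, FourData.eSw_mem hu hS2⟩ : ↥(sub (q := q) (F := F) C.P3)) =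
        K * ⟨_, FourData.eSw_mem hu hS⟩ * K⁻¹ := by
      refine Subtype.ext ?_
      show _ = k * eS hu C.e (α • cv C.w) b * k⁻¹
      have hkE : IsE σ C.e (mat k *ᵥ (α • cv C.w)) b := by
        refine ⟨hS.ee, ?_, ?_⟩
        · rw [Matrix.mulVec_smul, hkw, map_smulₛₗ, LinearMap.smul_apply, map_smulₛₗ,
            LinearMap.smul_apply, hB_cv, C.e_w]
          simp
        · rw [hB_mat hu]; exact hS.tr
      rw [suConj hu k hS, hke, eS_smul hu hkE, Matrix.mulVec_smul, hkw, smul_smul, smul_smul]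
      congr 2
      ring
    have hec : k * eS hu C.e (x • cv D.c) d * k⁻¹ = eS hu C.e ((σ l * x) • cv D.c) (l * σ l * d) := by
      rw [suConj hu k hE, hke, Matrix.mulVec_smul, hkc, eS_smul hu hE, smul_smul]
    rw [ew, map_mul, map_mul, map_inv,
      ← R.tor_all K _ hkw ⟨_, D.eSc_mem hu hE⟩ ⟨_, D.eSc_mem hu hE2⟩ hec]
    exact (h d b hE hS).map (MulAut.conj (D.ψ hu j p K)).toMonoidHom
  -- the seeds
  let S : AddSubgroup F :=
    { carrier := {α | Cm 1 α}
      zero_mem' := zero_r 1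
      add_mem' := by
        intro α α' hα hα'
        obtain ⟨d, hE⟩ := exists_isE hu (C := C) D.hca D.hcb 1
        obtain ⟨b, hb⟩ := exists_isE hu (C := C) C.haw.symm C.hbw.symm α
        obtain ⟨b', hb'⟩ := exists_isE hu (C := C) C.haw.symm C.hbw.symm α'
        have h12 : IsE σ C.e ((α + α') • cv C.w) (b + b' - hB 4 σ (α • cv C.w) (α' • cv C.w)) := by
          rw [add_smul]; exact hb.mul hu hb'
        refine any _ _ ⟨d, _, hE, h12, ?_⟩
        rw [show (⟨_, FourData.eSw_mem hu h12⟩ : ↥(sub (q := q) (F := F) C.P3)) =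
          ⟨_, FourData.eSw_mem hu hb⟩ * ⟨_, FourData.eSw_mem hu hb'⟩ from Subtype.ext (by
            show eS hu C.e ((α + α') • cv C.w) _ =
              eS hu C.e (α • cv C.w) b * eS hu C.e (α' • cv C.w) b'
            rw [eS_mul hu hb hb', ← add_smul]), map_mul]
        exact (hα d b hE hb).mul_right (hα' d b' hE hb')
      neg_mem' := by
        intro α hα
        obtain ⟨d, hE⟩ := exists_isE hu (C := C) D.hca D.hcb 1
        obtain ⟨b, hb⟩ := exists_isE hu (C := C) C.haw.symm C.hbw.symm α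
        obtain ⟨hi, hie⟩ := eS_inv' hu hb
        have hn : IsE σ C.e ((-α) • cv C.w) (σ b) := by rwa [neg_smul]
        refine any _ _ ⟨d, _, hE, hn, ?_⟩
        rw [show (⟨_, FourData.eSw_mem hu hn⟩ : ↥(sub (q := q) (F := F) C.P3)) =
          (⟨_, FourData.eSw_mem hu hb⟩)⁻¹ from Subtype.ext (by
            show eS hu C.e ((-α) • cv C.w) (σ b) = (eS hu C.e (α • cv C.w) b)⁻¹
            rw [hie, neg_smul]), map_inv]
        exact (hα d b hE hb).inv_right }
  have hseed : ∀ α, α = 1 ∨ α = ξ → α ∈ S := fun α hα => by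
    obtain ⟨d, b, _, _, hE, hS, hc⟩ := R.rad α hα
    exact any _ _ ⟨d, b, hE, hS, hc⟩
  have hq : 3 ≤ q → ∀ α, α ∈ S := fun hq3 => span_fourth hu hq3 R.hξ (hseed 1 (Or.inl rfl))
    (hseed ξ (Or.inr rfl)) (by
      intro u hu1 α hα
      have hu1' : u⁻¹ * σ u⁻¹ = 1 := by rw [map_inv₀, ← mul_inv, hu1, inv_one]
      obtain ⟨L, hL0, hL⟩ := exists_ratio hu hu1'
      have hsL : σ L ≠ 0 := (map_ne_zero σ).2 hL0
      have hu0 : u ≠ 0 := left_ne_zero_of_mul_eq_one hu1
      have hM0 : L / σ L ^ 2 ≠ 0 := div_ne_zero hL0 (pow_ne_zero _ hsL)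
      have h := scale2 _ _ (L / σ L ^ 2) hM0 (scale1 1 α (σ L) hsL hα)
      rw [map_div₀, map_pow, hu.invol] at h
      have e1 : σ L / L ^ 2 * (L * (L / σ L) * 1) = 1 := by field_simp
      have e2 : σ L / L ^ 2 * (σ L / L ^ 2 / (L / σ L ^ 2)) * (L * α) = u ^ 4 * α := by
        have : σ L / L = u := by
          rw [← _root_.inv_inj, ← hL, inv_div, div_eq_mul_inv]
        rw [← this]
        field_simp
      rw [e1, e2] at h
      exact h)
  intro x α
  rcases eq_or_ne x 0 with rfl | hx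
  · exact zero_l α
  have hm : σ x ≠ 0 := (map_ne_zero σ).2 hx
  have h := scale2 1 (α * σ x / x ^ 2) (σ x) hm (hq R.three _)
  rw [hu.invol, mul_one] at h
  have e : x * (x / σ x) * (α * σ x / x ^ 2) = α := by field_simp
  rwa [e] at h

end FourData.Rel

end Cfsg.Agent.SUShort
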