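import Cfsg.Agent.SUShort.FourAux

/-!
# Four coordinates: the two sections
-/

set_option autoImplicit false

namespace Cfsg.Agent.SUShort

open Matrix Classical.Herm Cfsg.Agent.AutPSU

variable {q : ℕ} {F : Type*} [Field F] [Fintype F] {σ : F →+* F}

/-- The stabiliser of the third coordinate among four. -/
abbrev A4 (q : ℕ) (C : Fw 4 σ) : Subgroup (Su 4 F q) :=
  sub ((Finset.univ : Finset (Fin 4)).erase C.w)

/-- A fourth coordinate and the elements moving it to the other ones. -/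
structure FourData (q : ℕ) (C : Fw 4 σ) where
  /-- the fourth coordinate -/
  c : Fin 4
  hca : c ≠ C.a
  hcb : c ≠ C.b
  hcw : c ≠ C.w
  /-- moves the fourth coordinate to the first -/
  m0 : Su 4 F q
  hm0 : m0 ∈ sub ({C.a, c} : Finset (Fin 4))
  hm0c : mat m0 *ᵥ cv c = cv C.a
  /-- moves the fourth coordinate to the third -/
  π0 : Su 4 F q
  hπ : π0 ∈ sub ({c, C.w} : Finset (Fin 4))
  hπc : mat π0 *ᵥ cv c = cv C.w

namespace FourData

variable {C : Fw 4 σ} (D : FourData (F := F) q C)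

theorem exists_mk (hu : UCtx σ q) : Nonempty (FourData (F := F) q C) := by
  obtain ⟨c, hc⟩ : ∃ c : Fin 4, c ∉ C.P3 := by
    by_contra h
    push Not at h
    have := Finset.card_le_card (fun i (_ : i ∈ (Finset.univ : Finset (Fin 4))) => h i)
    rw [Fw.P3, Finset.card_insert_of_notMem (by simp [C.hab, C.haw]), Finset.card_pair C.hbw,
      Finset.card_univ, Fintype.card_fin] at this
    omega
  simp only [Fw.P3, Finset.mem_insert, Finset.mem_singleton, not_or] at hc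
  obtain ⟨hca, hcb, hcw⟩ := hc
  have hne : ∀ i : Fin 4, (cv i : Vn 4 F) ≠ 0 := fun i => by simp [cv]
  obtain ⟨m0, hm0, hm0c⟩ := exists_su_move hu (S := {C.a, c}) (v := cv c) (v' := cv C.a)
    (supp_cv (by simp)) (supp_cv (by simp)) (hne _) (hne _) (by simp [hB_cv_cv])
    (Or.inr ⟨by rw [Finset.card_pair (Ne.symm hca)], by simp [hB_cv_cv]⟩)
  obtain ⟨π0, hπ, hπc⟩ := exists_su_move hu (S := {c, C.w}) (v := cv c) (v' := cv C.w)
    (supp_cv (by simp)) (supp_cv (by simp)) (hne _) (hne _) (by simp [hB_cv_cv])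
    (Or.inr ⟨by rw [Finset.card_pair hcw], by simp [hB_cv_cv]⟩)
  exact ⟨⟨c, hca, hcb, hcw, m0, hm0, hm0c, π0, hπ, hπc⟩⟩

theorem univ_cases (i : Fin 4) : i = C.a ∨ i = C.b ∨ i = C.w ∨ i = D.c := by
  by_contra h
  push Not at h
  obtain ⟨h1, h2, h3, h4⟩ := h
  have := Finset.card_le_univ ({C.a, C.b, C.w, D.c, i} : Finset (Fin 4))
  rw [Finset.card_insert_of_notMem (by simp [C.hab, C.haw, D.hca.symm, h1.symm]),
    Finset.card_insert_of_notMem (by simp [C.hbw, D.hcb.symm, h2.symm]),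
    Finset.card_insert_of_notMem (by simp [D.hcw.symm, h3.symm]), Finset.card_pair h4.symm,
    Fintype.card_fin] at this
  omega

theorem rest_eq : C.rest (Finset.univ : Finset (Fin 4)) = {D.c} := by
  ext i
  rcases D.univ_cases i with rfl | rfl | rfl | rfl <;>
    simp [Fw.rest, Fw.P3, D.hca, D.hcb, D.hcw, Ne.symm D.hca, Ne.symm D.hcb, Ne.symm D.hcw]

/-- The three coordinates of the stabiliser. -/
theorem erase_eq : (Finset.univ : Finset (Fin 4)).erase C.w = {C.a, C.b, D.c} := by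
  ext i
  rcases D.univ_cases i with rfl | rfl | rfl | rfl <;>
    simp [C.haw, C.hbw, D.hcw, C.haw.symm, C.hbw.symm, Ne.symm D.hcw]

omit D in
theorem P2_le (C : Fw 4 σ) : C.P2 ⊆ (Finset.univ : Finset (Fin 4)).erase C.w := fun i hi =>
  Finset.mem_erase.2 ⟨fun h => C.w_notMem (h ▸ hi), Finset.mem_univ i⟩

theorem ac_le : ({C.a, D.c} : Finset (Fin 4)) ⊆ (Finset.univ : Finset (Fin 4)).erase C.w := fun i hi => by
  rw [D.erase_eq]
  simp only [Finset.mem_insert, Finset.mem_singleton] at hi ⊢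
  tauto

theorem bc_le : ({C.b, D.c} : Finset (Fin 4)) ⊆ (Finset.univ : Finset (Fin 4)).erase C.w := fun i hi => by
  rw [D.erase_eq]
  simp only [Finset.mem_insert, Finset.mem_singleton] at hi ⊢
  tauto

omit D in
theorem aw_le (C : Fw 4 σ) : ({C.a, C.w} : Finset (Fin 4)) ⊆ C.P3 := fun i hi => by
  simp only [Fw.P3, Finset.mem_insert, Finset.mem_singleton] at hi ⊢
  tauto

variable (hu : UCtx σ q)
include hu

theorem conjT_mem (t : ↥(sub (q := q) (F := F) C.P3)) :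
    D.π0⁻¹ * (t : Su 4 F q) * D.π0 ∈ A4 q C := by
  intro i hi
  obtain rfl : i = C.w := by
    rcases D.univ_cases i with rfl | rfl | rfl | rfl <;>
      simp [C.haw, C.hbw, D.hcw] at hi ⊢
  rw [mat_mul_mulVec, mat_mul_mulVec, fix_of_supp t.2 (x := mat D.π0 *ᵥ cv C.w) ?_, mat_inv_mulVec]
  intro l hl
  by_cases hlw : l = C.w
  · subst hlw
    rw [← hB_cv (σ := σ) C.w (mat D.π0 *ᵥ cv C.w)]
    nth_rewrite 1 [← D.hπc]
    rw [hB_mat hu, hB_cv]; exact Pi.single_eq_of_ne D.hcw _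
  · refine sub_supp hu D.hπ (supp_cv (by simp)) l ?_
    simp only [Fw.P3, Finset.mem_insert, Finset.mem_singleton] at hl
    rcases hl with rfl | rfl | rfl <;> simp_all [Ne.symm D.hca, Ne.symm D.hcb, C.haw, C.hbw]

/-- Conjugation of the local part into the stabiliser. -/
def conjT : ↥(sub (q := q) (F := F) C.P3) →* ↥(A4 q C) :=
  MonoidHom.mk' (fun t => ⟨D.π0⁻¹ * (t : Su 4 F q) * D.π0, D.conjT_mem hu t⟩) fun t t' =>
    Subtype.ext (by simp [mul_assoc])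

theorem cw_conj_mem (h : ↥(sub (q := q) (F := F) ({D.c, C.w} : Finset (Fin 4)))) :
    D.m0⁻¹ * (h : Su 4 F q) * D.m0 ∈ sub ({C.a, C.w} : Finset (Fin 4)) := by
  intro i hi
  simp only [Finset.mem_insert, Finset.mem_singleton, not_or] at hi
  rcases D.univ_cases i with rfl | rfl | rfl | rfl
  · exact absurd rfl hi.1
  · rw [mat_mul_mulVec, mat_mul_mulVec, D.hm0 C.b (by simp [C.hab.symm, D.hcb.symm]),
      h.2 C.b (by simp [C.hbw, D.hcb.symm]),
      inv_mem D.hm0 C.b (by simp [C.hab.symm, D.hcb.symm])]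
  · exact absurd rfl hi.2
  · rw [mat_mul_mulVec, mat_mul_mulVec, D.hm0c, h.2 C.a (by simp [D.hca.symm, C.haw]), ← D.hm0c,
      mat_inv_mulVec]

variable {P : Type*} [Group P] (j : ↥(A4 q C) →* P) (p : P)

/-- The local section. -/
def ψ : ↥(sub (q := q) (F := F) C.P3) →* P :=
  (MulAut.conj p).toMonoidHom.comp (j.comp (D.conjT hu))

theorem ψ_apply (t : ↥(sub (q := q) (F := F) C.P3)) :
    D.ψ hu j p t = p * j (D.conjT hu t) * p⁻¹ := rfl

/-- The section of the fourth and third coordinates. -/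
def κ : ↥(sub (q := q) (F := F) ({D.c, C.w} : Finset (Fin 4))) →* P :=
  (MulAut.conj (j ⟨D.m0, sub_mono D.ac_le D.hm0⟩)).toMonoidHom.comp ((D.ψ hu j p).comp
    (MonoidHom.mk' (fun h => (⟨D.m0⁻¹ * (h : Su 4 F q) * D.m0,
      sub_mono (aw_le C) (D.cw_conj_mem hu h)⟩ : ↥(sub (q := q) (F := F) C.P3)))
      fun h h' => Subtype.ext (by simp [mul_assoc])))

theorem κ_apply (h : ↥(sub (q := q) (F := F) ({D.c, C.w} : Finset (Fin 4)))) :
    D.κ hu j p h = j ⟨D.m0, sub_mono D.ac_le D.hm0⟩ *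
      D.ψ hu j p ⟨_, sub_mono (aw_le C) (D.cw_conj_mem hu h)⟩ *
      (j ⟨D.m0, sub_mono D.ac_le D.hm0⟩)⁻¹ := rfl

/-- The unipotent elements of the stabiliser part. -/
def genC : Set P :=
  {x | ∃ (r d : F) (hm : eS hu C.e (r • cv D.c) d ∈ A4 q C),
    IsE σ C.e (r • cv D.c) d ∧ x = j ⟨_, hm⟩}

/-- The unipotent elements of the local part. -/
def genW : Set P :=
  {x | ∃ (r d : F) (hm : eS hu C.e (r • cv C.w) d ∈ sub C.P3),
    IsE σ C.e (r • cv C.w) d ∧ x = D.ψ hu j p ⟨_, hm⟩}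

/-- The unipotent group on the fourth and third coordinates. -/
def N : Subgroup P := Subgroup.closure (D.genC hu j) ⊔ Subgroup.closure (D.genW hu j p)

omit j p in
theorem inW_cv {i : Fin 4} (ha : i ≠ C.a) (hb : i ≠ C.b) : InW σ C.e C.f (cv i) :=
  (C.inW_iff hu _).2 ⟨Pi.single_eq_of_ne (Ne.symm ha) _, Pi.single_eq_of_ne (Ne.symm hb) _⟩

omit j p in
theorem eSc_mem {r d : F} (hE : IsE σ C.e (r • cv D.c) d) :
    eS hu C.e (r • cv D.c) d ∈ A4 q C :=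
  eS_mem_sub hu hE (C.e_supp.mono (P2_le C))
    ((supp_cv (by simp [D.hcw])).smul r)

omit j p in
theorem eSw_mem {r d : F} (hE : IsE σ C.e (r • cv C.w) d) :
    eS hu C.e (r • cv C.w) d ∈ sub C.P3 :=
  eS_mem_sub hu hE (C.e_supp.mono C.P2_sub) ((supp_cv C.w_mem3).smul r)

omit j p in
theorem exists_isE {i : Fin 4} (ha : i ≠ C.a) (hb : i ≠ C.b) (r : F) :
    ∃ d, IsE σ C.e (r • cv i) d := by
  obtain ⟨d, hd⟩ := exists_d hu (r • cv i : Vn 4 F)
  exact ⟨d, (C.hp hu).isE hu ((inW_cv hu ha hb).smul r) hd⟩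

/-- The finitely checked conditions. -/
structure Rel (ρ : P →* Su 4 F q) (k0 : ↥(A4 q C)) (l0 : Fˣ)
    (t0 : ↥(sub (q := q) (F := F) C.P3)) (z0 ξ : F)
    (h1 h2 : ↥(sub (q := q) (F := F) ({D.c, C.w} : Finset (Fin 4)))) : Prop where
  three : 3 ≤ q
  hj : ∀ a, ρ (j a) = a
  hp : ρ p = D.π0
  gen : j.range ⊔ Subgroup.zpowers p = ⊤
  mon : p = D.κ hu j p ⟨D.π0, D.hπ⟩
  anis : ∀ (a : ↥(A4 q C)) (t : ↥(sub (q := q) (F := F) C.P3)),
    (a : Su 4 F q) ∈ sub ({C.b, D.c} : Finset (Fin 4)) →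
    (t : Su 4 F q) ∈ sub ({C.a, C.w} : Finset (Fin 4)) → Commute (j a) (D.ψ hu j p t)
  k0e : mat (k0 : Su 4 F q) *ᵥ C.e = (l0 : F) • C.e
  k0f : mat (k0 : Su 4 F q) *ᵥ C.f = (σ (l0 : F))⁻¹ • C.f
  l0gen : ∀ l : Fˣ, l ∈ Subgroup.zpowers l0
  twist : ∀ t t' : ↥(sub (q := q) (F := F) C.P3),
    (k0 : Su 4 F q) * t * (k0 : Su 4 F q)⁻¹ = t' → j k0 * D.ψ hu j p t * (j k0)⁻¹ = D.ψ hu j p t'
  t0w : mat (t0 : Su 4 F q) *ᵥ cv C.w = z0 • cv C.w
  z0ord : orderOf z0 = q + 1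
  tor : ∀ a a' : ↥(A4 q C), (t0 : Su 4 F q) * a * (t0 : Su 4 F q)⁻¹ = a' →
    D.ψ hu j p t0 * j a * (D.ψ hu j p t0)⁻¹ = j a'
  hξ : σ ξ ≠ ξ
  rad : ∀ α : F, α = 1 ∨ α = ξ → ∃ (d b : F) (ha : eS hu C.e ((1 : F) • cv D.c) d ∈ A4 q C)
    (ht : eS hu C.e (α • cv C.w) b ∈ sub C.P3),
      IsE σ C.e ((1 : F) • cv D.c) d ∧ IsE σ C.e (α • cv C.w) b ∧
        Commute (j ⟨_, ha⟩) (D.ψ hu j p ⟨_, ht⟩)
  hgen : Subgroup.closure ({h1, h2} : Set ↥(sub (q := q) (F := F) ({D.c, C.w} : Finset (Fin 4)))) = ⊤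
  norm : ∀ h, h = h1 ∨ h = h2 → ∀ r : F, r = 1 ∨ r = ξ →
    (∃ (d : F) (ha : eS hu C.e (r • cv D.c) d ∈ A4 q C), IsE σ C.e (r • cv D.c) d ∧
      D.κ hu j p h * j ⟨_, ha⟩ * (D.κ hu j p h)⁻¹ ∈ D.N hu j p) ∧
    (∃ (d : F) (ht : eS hu C.e (r • cv C.w) d ∈ sub C.P3), IsE σ C.e (r • cv C.w) d ∧
      D.κ hu j p h * D.ψ hu j p ⟨_, ht⟩ * (D.κ hu j p h)⁻¹ ∈ D.N hu j p)

end FourData

end Cfsg.Agent.SUShort
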