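import Cfsg.Agent.SUShort.Geom

/-!
# A hyperbolic pair on two coordinates, with a third coordinate
-/

set_option autoImplicit false

namespace Cfsg.Agent.SUShort

open Matrix Classical.Herm Cfsg.Agent.AutPSU

variable {n q : ℕ} {F : Type*} [Field F] {σ : F →+* F}

/-- Three coordinates and a hyperbolic pair on the first two. -/
structure Fw (n : ℕ) (σ : F →+* F) where
  /-- first coordinate of the plane -/
  a : Fin n
  /-- second coordinate of the plane -/
  b : Fin n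
  /-- the third coordinate -/
  w : Fin n
  hab : a ≠ b
  haw : a ≠ w
  hbw : b ≠ w
  /-- a scalar of norm minus one -/
  γ : F
  /-- a scalar of trace one -/
  τ : F
  hγ : γ * σ γ = -1
  hτ : τ + σ τ = 1

namespace Fw

variable (C : Fw n σ)

/-- The first vector of the pair. -/
def e : Vn n F := cv C.a + C.γ • cv C.b
/-- The second vector of the pair. -/
def f : Vn n F := C.τ • cv C.a + ((C.τ - 1) * C.γ) • cv C.b
/-- The plane. -/
def P2 : Finset (Fin n) := {C.a, C.b}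
/-- The three coordinates. -/
def P3 : Finset (Fin n) := {C.a, C.b, C.w}

theorem P2_sub : C.P2 ⊆ C.P3 := by
  intro i hi
  simp only [P2, P3, Finset.mem_insert, Finset.mem_singleton] at hi ⊢
  tauto

theorem a_mem : C.a ∈ C.P2 := by simp [P2]
theorem b_mem : C.b ∈ C.P2 := by simp [P2]
theorem a_mem3 : C.a ∈ C.P3 := C.P2_sub C.a_mem
theorem b_mem3 : C.b ∈ C.P3 := C.P2_sub C.b_mem
theorem w_mem3 : C.w ∈ C.P3 := by simp [P3]
theorem w_notMem : C.w ∉ C.P2 := by simp [P2, C.haw.symm, C.hbw.symm]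

theorem e_supp : Supp C.P2 C.e := (supp_cv C.a_mem).add ((supp_cv C.b_mem).smul _)
theorem f_supp : Supp C.P2 C.f :=
  ((supp_cv C.a_mem).smul _).add ((supp_cv C.b_mem).smul _)

theorem e_w : C.e C.w = 0 := C.e_supp _ C.w_notMem
theorem f_w : C.f C.w = 0 := C.f_supp _ C.w_notMem

theorem e_a : C.e C.a = 1 := by simp [e, C.hab]
theorem e_b : C.e C.b = C.γ := by simp [e, C.hab.symm]
theorem f_a : C.f C.a = C.τ := by simp [f, C.hab]
theorem f_b : C.f C.b = (C.τ - 1) * C.γ := by simp [f, C.hab.symm]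

theorem hB_e (x : Vn n F) : hB n σ C.e x = x C.a + σ C.γ * x C.b := by
  simp [e, hB_cv]

theorem hB_f (x : Vn n F) :
    hB n σ C.f x = σ C.τ * x C.a + σ ((C.τ - 1) * C.γ) * x C.b := by
  simp [f, hB_cv]

variable [Fintype F] (hu : UCtx σ q)
include hu

theorem hp : HP σ C.e C.f := by
  refine ⟨?_, ?_, ?_⟩
  · rw [hB_e, e_a, e_b]; linear_combination C.hγ
  · rw [hB_f, f_a, f_b, map_mul, map_sub, map_one]
    linear_combination (σ C.τ - 1) * (C.τ - 1) * C.hγ + C.hτ
  · rw [hB_e, f_a, f_b]; linear_combination (C.τ - 1) * C.hγ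

theorem inW_iff (x : Vn n F) : InW σ C.e C.f x ↔ x C.a = 0 ∧ x C.b = 0 := by
  show hB n σ C.e x = 0 ∧ hB n σ C.f x = 0 ↔ _
  rw [hB_e, hB_f]
  constructor
  · rintro ⟨h1, h2⟩
    have hγ0 : C.γ ≠ 0 := fun h => by simpa [h] using C.hγ
    have hb : x C.b = 0 := by
      have h3 : σ C.γ * x C.b = 0 := by
        rw [map_mul, map_sub, map_one] at h2
        linear_combination σ C.τ * h1 - h2
      exact (mul_eq_zero.1 h3).resolve_left ((map_ne_zero σ).2 hγ0)
    exact ⟨by simpa [hb] using h1, hb⟩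
  · rintro ⟨h1, h2⟩
    simp [h1, h2]

omit hu in
theorem exists_mk (hu : UCtx σ q) {a b w : Fin n} (hab : a ≠ b) (haw : a ≠ w) (hbw : b ≠ w) :
    ∃ C : Fw n σ, C.a = a ∧ C.b = b ∧ C.w = w := by
  obtain ⟨γ, hγ⟩ := exists_norm' hu (a := (-1 : F)) (by rw [map_neg, map_one])
  obtain ⟨τ, hτ⟩ := exists_trace hu.toIsInvol (a := (1 : F)) (map_one σ)
  exact ⟨⟨a, b, w, hab, haw, hbw, γ, τ, hγ, hτ⟩, rfl, rfl, rfl⟩

end Fw

end Cfsg.Agent.SUShort
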