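import Cfsg.Agent.AutPSU.Frame
import Cfsg.Agent.PSUMult.Fix

/-!
# Coordinate subgroups of `SU(n, q)` and their transitivity
-/

set_option autoImplicit false

namespace Cfsg.Agent.SUShort

open Matrix Classical.Herm Cfsg.Agent.AutPSU

variable {n q : ℕ} {F : Type*} [Field F] {σ : F →+* F}

/-- A coordinate vector. -/
abbrev cv (i : Fin n) : Vn n F := Pi.single i 1

/-- Vanishing outside a set of coordinates. -/
def Supp (S : Finset (Fin n)) (x : Vn n F) : Prop := ∀ i, i ∉ S → x i = 0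

theorem Supp.mono {S T : Finset (Fin n)} (h : S ⊆ T) {x : Vn n F} (hx : Supp S x) : Supp T x :=
  fun i hi => hx i fun h' => hi (h h')

theorem supp_cv {S : Finset (Fin n)} {i : Fin n} (hi : i ∈ S) : Supp S (cv i : Vn n F) :=
  fun j hj => Pi.single_eq_of_ne (fun h => hj (by rw [h]; exact hi)) _

theorem Supp.add {S : Finset (Fin n)} {x y : Vn n F} (hx : Supp S x) (hy : Supp S y) :
    Supp S (x + y) := fun i hi => by simp [hx i hi, hy i hi]

theorem Supp.smul {S : Finset (Fin n)} (c : F) {x : Vn n F} (hx : Supp S x) : Supp S (c • x) :=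
  fun i hi => by simp [hx i hi]

theorem Supp.sub {S : Finset (Fin n)} {x y : Vn n F} (hx : Supp S x) (hy : Supp S y) :
    Supp S (x - y) := fun i hi => by simp [hx i hi, hy i hi]

theorem supp_sum (x : Vn n F) : ∑ i, x i • (cv i : Vn n F) = x := by
  funext j
  simp [Finset.sum_apply, Pi.single_apply, Finset.sum_ite_eq]

theorem Supp.eq_sum {S : Finset (Fin n)} {x : Vn n F} (hx : Supp S x) :
    x = ∑ i ∈ S, x i • (cv i : Vn n F) := by
  conv_lhs => rw [← supp_sum x]
  exact (Finset.sum_subset (Finset.subset_univ S) fun i _ hi => by rw [hx i hi, zero_smul]).symm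

theorem hB_cv (i : Fin n) (x : Vn n F) : hB n σ (cv i) x = x i := by
  simp [Classical.hermB_apply, Pi.single_apply, apply_ite σ]

theorem hB_cv_right (x : Vn n F) (i : Fin n) : hB n σ x (cv i) = σ (x i) := by
  simp [Classical.hermB_apply, Pi.single_apply]

theorem hB_cv_cv (i j : Fin n) : hB n σ (cv i : Vn n F) (cv j) = if i = j then 1 else 0 := by
  rw [hB_cv]; exact Pi.single_apply j 1 i

theorem hB_disjoint {S T : Finset (Fin n)} (h : Disjoint S T) {x y : Vn n F} (hx : Supp S x)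
    (hy : Supp T y) : hB n σ x y = 0 := by
  rw [Classical.hermB_apply]
  refine Finset.sum_eq_zero fun i _ => ?_
  by_cases hi : i ∈ S
  · rw [hy i (Finset.disjoint_left.1 h hi), mul_zero]
  · rw [hx i hi, map_zero, zero_mul]

/-- The elements fixing the coordinate vectors outside a set. -/
def sub (S : Finset (Fin n)) : Subgroup (Su n F q) where
  carrier := {g | ∀ i, i ∉ S → mat g *ᵥ cv i = cv i}
  one_mem' i _ := mat_one_mulVec _
  mul_mem' {g h} hg hh i hi := by rw [mat_mul_mulVec, hh i hi, hg i hi]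
  inv_mem' {g} hg i hi := by
    conv_lhs => rw [← hg i hi]
    exact mat_inv_mulVec g _

theorem mem_sub {S : Finset (Fin n)} {g : Su n F q} :
    g ∈ sub S ↔ ∀ i, i ∉ S → mat g *ᵥ cv i = cv i := Iff.rfl

theorem sub_mono {S T : Finset (Fin n)} (h : S ⊆ T) : (sub S : Subgroup (Su n F q)) ≤ sub T :=
  fun _ hg i hi => hg i fun h' => hi (h h')

theorem sub_univ : (sub (Finset.univ : Finset (Fin n)) : Subgroup (Su n F q)) = ⊤ :=
  eq_top_iff.2 fun _ _ i hi => absurd (Finset.mem_univ i) hi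

theorem fix_of_supp {S : Finset (Fin n)} {g : Su n F q} (hg : g ∈ sub S) {x : Vn n F}
    (hx : ∀ i ∈ S, x i = 0) : mat g *ᵥ x = x := by
  conv_rhs => rw [← supp_sum x]
  conv_lhs => rw [← supp_sum x]
  rw [Matrix.mulVec_sum]
  refine Finset.sum_congr rfl fun i _ => ?_
  by_cases hi : i ∈ S
  · rw [hx i hi, zero_smul, Matrix.mulVec_zero]
  · rw [Matrix.mulVec_smul, hg i hi]

theorem mem_sub_erase {T : Finset (Fin n)} {i : Fin n} {g : Su n F q} (hg : g ∈ sub T)
    (hi : mat g *ᵥ cv i = cv i) : g ∈ sub (T.erase i) := fun j hj => by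
  by_cases h : j = i
  · rw [h, hi]
  · exact hg j fun h' => hj (Finset.mem_erase.2 ⟨h, h'⟩)

theorem fix_of_mem_erase {T : Finset (Fin n)} {i : Fin n} {g : Su n F q}
    (hg : g ∈ sub (T.erase i)) : mat g *ᵥ cv i = cv i := hg i (Finset.notMem_erase i T)

variable [Fintype F] (hu : UCtx σ q)
include hu

theorem sub_apply {S : Finset (Fin n)} {g : Su n F q} (hg : g ∈ sub S) (x : Vn n F) {i : Fin n}
    (hi : i ∉ S) : (mat g *ᵥ x) i = x i := by
  rw [← hB_cv (σ := σ) i (mat g *ᵥ x), ← hg i hi, hB_mat hu, hB_cv]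

theorem sub_supp {S : Finset (Fin n)} {g : Su n F q} (hg : g ∈ sub S) {x : Vn n F} (hx : Supp S x) :
    Supp S (mat g *ᵥ x) := fun i hi => by rw [sub_apply hu hg x hi, hx i hi]

theorem eS_mem_sub {S : Finset (Fin n)} {e a : Vn n F} {d : F} (h : IsE σ e a d) (he : Supp S e)
    (ha : Supp S a) : eS hu e a d ∈ sub S := fun i hi => by
  rw [eS_mulVec hu h, hB_cv_right, hB_cv_right, he i hi, ha i hi]
  simp

omit [Fintype F] in
theorem exists_norm' {a : F} (ha : σ a = a) [Finite F] : ∃ c : F, c * σ c = a :=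
  exists_norm hu.toIsInvol ha

/-- Elements of norm one are quotients `l / σ l`. -/
theorem exists_ratio {z : F} (hz : z * σ z = 1) : ∃ l : F, l ≠ 0 ∧ l * (σ l)⁻¹ = z := by
  have hz0 : z ≠ 0 := left_ne_zero_of_mul_eq_one hz
  obtain ⟨t, ht⟩ : ∃ t : F, t + z * σ t ≠ 0 := by
    by_contra hc
    push Not at hc
    obtain ⟨k, hk0, hk⟩ := exists_skew hu.toIsInvol
    have h1 := hc 1
    have h2 := hc k
    rw [map_one, mul_one] at h1
    rw [hk] at h2
    have hz1 : z = -1 := by linear_combination h1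
    rw [hz1] at h2
    have h22 : (2 : F) * k = 0 := by linear_combination h2
    rcases mul_eq_zero.1 h22 with h | h
    · refine hu.ne_id (RingHom.ext fun x => ?_)
      have h3 := hc x
      rw [hz1] at h3
      show σ x = x
      linear_combination -h3
    · exact hk0 h
  refine ⟨t + z * σ t, ht, ?_⟩
  rw [← div_eq_mul_inv, div_eq_iff ((map_ne_zero σ).2 ht), map_add, map_mul, hu.invol]
  linear_combination -t * hz

/-- A unit vector of the support orthogonal to a given one. -/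
theorem exists_unit_perp {S : Finset (Fin n)} {v : Vn n F} (hv : Supp S v)
    (hcase : 3 ≤ S.card ∨ (2 ≤ S.card ∧ hB n σ v v ≠ 0)) :
    ∃ b : Vn n F, Supp S b ∧ hB n σ b v = 0 ∧ hB n σ b b = 1 := by
  have hH := hu.isHerm n
  suffices h : ∃ b, Supp S b ∧ hB n σ b v = 0 ∧ hB n σ b b ≠ 0 by
    obtain ⟨b, h1, h2, h3⟩ := h
    obtain ⟨c, hc⟩ := exists_unit_of_ne_zero hH h3
    exact ⟨c • b, h1.smul c, by rw [map_smulₛₗ, LinearMap.smul_apply, h2, smul_zero], hc⟩
  by_cases h0 : ∃ i ∈ S, v i = 0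
  · obtain ⟨i, hi, h⟩ := h0
    exact ⟨cv i, supp_cv hi, by rw [hB_cv, h], by rw [hB_cv_cv, if_pos rfl]; exact one_ne_zero⟩
  push Not at h0
  let u : Fin n → Fin n → Vn n F := fun i j => σ (v j) • cv i - σ (v i) • cv j
  have hu1 : ∀ {i j}, i ∈ S → j ∈ S → Supp S (u i j) := fun hi hj =>
    ((supp_cv hi).smul _).sub ((supp_cv hj).smul _)
  have hu2 : ∀ i j, hB n σ (u i j) v = 0 := fun i j => by
    simp only [u, map_sub, map_smulₛₗ, LinearMap.sub_apply, LinearMap.smul_apply, hu.invol,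
      smul_eq_mul, hB_cv]
    ring
  rcases Nat.lt_or_ge 2 S.card with h3 | h2'
  · obtain ⟨i, j, k, hi, hj, hk, hij, hik, hjk⟩ := Finset.two_lt_card_iff.1 h3
    let P : Submodule F (Vn n F) :=
      { carrier := {b | Supp S b ∧ hB n σ v b = 0}
        add_mem' := fun hx hy => ⟨hx.1.add hy.1, by rw [map_add, hx.2, hy.2, add_zero]⟩
        zero_mem' := ⟨fun _ _ => rfl, map_zero _⟩
        smul_mem' := fun c x hx => ⟨hx.1.smul c, by rw [map_smul, hx.2, smul_zero]⟩ }
    have hne : hB n σ (u i j) (u i k) = v j * σ (v k) := by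
      simp only [u, map_sub, map_smulₛₗ, LinearMap.sub_apply, LinearMap.smul_apply, hu.invol,
        smul_eq_mul, hB_cv_cv, if_neg hik, if_neg hij.symm, if_neg hjk, RingHom.id_apply, if_true,
        mul_zero, sub_zero, mul_one]
      ring
    obtain ⟨b, hb, hbb⟩ := exists_anisotropic hH P ⟨u i j,
      ⟨hu1 hi hj, (eq_zero_comm hH).1 (hu2 i j)⟩, u i k, ⟨hu1 hi hk, (eq_zero_comm hH).1 (hu2 i k)⟩,
      by rw [hne]; exact mul_ne_zero (h0 j hj) ((map_ne_zero σ).2 (h0 k hk))⟩
    exact ⟨b, hb.1, (eq_zero_comm hH).1 hb.2, hbb⟩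
  · obtain ⟨hS, hne⟩ : S.card = 2 ∧ hB n σ v v ≠ 0 := by
      rcases hcase with h | ⟨h, h'⟩
      · omega
      · exact ⟨by omega, h'⟩
    obtain ⟨i, j, hij, rfl⟩ := Finset.card_eq_two.1 hS
    refine ⟨u i j, hu1 (by simp) (by simp), hu2 i j, ?_⟩
    rw [hv.eq_sum, Finset.sum_pair hij] at hne
    simp only [u, map_sub, map_add, map_smulₛₗ, LinearMap.sub_apply, LinearMap.add_apply,
      LinearMap.smul_apply, hu.invol, smul_eq_mul, hB_cv_cv, if_neg hij, if_neg hij.symm,
      RingHom.id_apply, if_true] at hne ⊢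
    intro h
    apply hne
    linear_combination h

/-- An isometry moving one vector to another and fixing the coordinates outside a set. -/
theorem exists_gu_move {S : Finset (Fin n)} {v v' : Vn n F} (hv : Supp S v) (hv' : Supp S v')
    (hv0 : v ≠ 0) (hv0' : v' ≠ 0) (hn : hB n σ v v = hB n σ v' v') :
    ∃ g : Cfsg.GU n F q, gmat g.1 *ᵥ v = v' ∧ ∀ i, i ∉ S → gmat g.1 *ᵥ cv i = cv i := by
  classical
  have hH := hu.isHerm n
  let T := Finset.univ \ S
  let c : Fin T.card → Fin n := fun k => (T.equivFin.symm k : Fin n)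
  have hc : ∀ k, c k ∉ S := fun k => (Finset.mem_sdiff.1 (T.equivFin.symm k).2).2
  have hli : ∀ {x : Vn n F}, Supp S x → x ≠ 0 →
      LinearIndependent F (Fin.cons x fun k => cv (c k) : Fin (T.card + 1) → Vn n F) := by
    intro x hx hx0
    rw [linearIndependent_finCons]
    refine ⟨?_, fun hmem => hx0 ?_⟩
    · have h1 := (Pi.basisFun F (Fin n)).linearIndependent.comp c
        (Subtype.val_injective.comp T.equivFin.symm.injective)
      simpa [Function.comp_def] using h1
    · rw [hx.eq_sum]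
      refine Finset.sum_eq_zero fun i hi => ?_
      have h0 : x i = 0 := by
        have hle : Submodule.span F (Set.range fun k => (cv (c k) : Vn n F)) ≤
            LinearMap.ker (LinearMap.proj i : Vn n F →ₗ[F] F) := by
          refine Submodule.span_le.2 ?_
          rintro _ ⟨k, rfl⟩
          exact Pi.single_eq_of_ne (fun h : i = c k => hc k (h ▸ hi)) 1
        exact hle hmem
      rw [h0, zero_smul]
  have hG : ∀ i j, hB n σ ((Fin.cons v fun k => cv (c k) : Fin (T.card + 1) → Vn n F) i)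
      ((Fin.cons v fun k => cv (c k) : Fin (T.card + 1) → Vn n F) j) =
      hB n σ ((Fin.cons v' fun k => cv (c k) : Fin (T.card + 1) → Vn n F) i)
      ((Fin.cons v' fun k => cv (c k) : Fin (T.card + 1) → Vn n F) j) := by
    intro i j
    induction i using Fin.cases with
    | zero =>
      induction j using Fin.cases with
      | zero => simpa using hn
      | succ j => simp [hB_cv_right, hv _ (hc j), hv' _ (hc j)]
    | succ i =>
      induction j using Fin.cases with
      | zero => simp [hB_cv, hv _ (hc i), hv' _ (hc i)]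
      | succ j => simp
  obtain ⟨L, hL, hLa⟩ := witt_family hH _ _ _ rfl (hli hv hv0) (hli hv' hv0') hG
  obtain ⟨g, hg⟩ := exists_gu hu (L : Vn n F →ₗ[F] Vn n F) hL
  refine ⟨g, by simpa [hg] using hLa 0, fun i hi => ?_⟩
  have hk := hLa (T.equivFin ⟨i, Finset.mem_sdiff.2 ⟨Finset.mem_univ _, hi⟩⟩).succ
  rw [hg]
  simpa [c] using hk

/-- Transitivity of the coordinate subgroups on vectors of equal norm. -/
theorem exists_su_move {S : Finset (Fin n)} {v v' : Vn n F} (hv : Supp S v) (hv' : Supp S v')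
    (hv0 : v ≠ 0) (hv0' : v' ≠ 0) (hn : hB n σ v v = hB n σ v' v')
    (hcase : 3 ≤ S.card ∨ (2 ≤ S.card ∧ hB n σ v v ≠ 0)) :
    ∃ g ∈ (sub S : Subgroup (Su n F q)), mat g *ᵥ v = v' := by
  classical
  have hH := hu.isHerm n
  obtain ⟨g0, hg0v, hg0S⟩ := exists_gu_move hu hv hv' hv0 hv0' hn
  obtain ⟨b, hb, hbv, hbb⟩ := exists_unit_perp hu hv' (hn ▸ hcase)
  have hz : (gmat g0.1).det⁻¹ * σ (gmat g0.1).det⁻¹ = 1 := by
    rw [map_inv₀, ← mul_inv, Classical.det_norm_GU hu.pow g0.2, inv_one]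
  obtain ⟨r, hrb, hrperp, hrdet⟩ := exists_refl hu hbb hz
  have hd0 : (gmat g0.1).det ≠ 0 := left_ne_zero_of_mul_eq_one (Classical.det_norm_GU hu.pow g0.2)
  obtain ⟨s, hs⟩ := exists_su_of_gu hu (r * g0) (by
    show (gmat r.1 * gmat g0.1).det = 1
    rw [Matrix.det_mul, hrdet, inv_mul_cancel₀ hd0])
  have hse : ∀ x, mat s *ᵥ x = gmat r.1 *ᵥ (gmat g0.1 *ᵥ x) := fun x => by
    rw [hs, Matrix.mulVec_mulVec]; rfl
  refine ⟨s, fun i hi => ?_, ?_⟩
  · rw [hse, hg0S i hi, hrperp _ (by rw [hB_cv_right, hb i hi, map_zero])]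
  · rw [hse, hg0v, hrperp _ hbv]

/-- The special version for an isotropic vector of a hyperbolic pair: equal up to a scalar. -/
theorem exists_su_move_iso {S : Finset (Fin n)} {e f : Vn n F} (H : HP σ e f) (he : Supp S e)
    (hf : Supp S f) {v : Vn n F} (hv : Supp S v) (hv0 : v ≠ 0) (hvv : hB n σ v v = 0) :
    ∃ g ∈ (sub S : Subgroup (Su n F q)), ∃ l : F, mat g *ᵥ v = l • e := by
  obtain ⟨g0, hg0v, hg0S⟩ := exists_gu_move hu hv he hv0 H.e_ne (hvv.trans H.ee.symm)
  have hz : (gmat g0.1).det⁻¹ * σ (gmat g0.1).det⁻¹ = 1 := by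
    rw [map_inv₀, ← mul_inv, Classical.det_norm_GU hu.pow g0.2, inv_one]
  obtain ⟨l, hl, hlz⟩ := exists_ratio hu hz
  obtain ⟨r, hre, -, hrperp, hrdet⟩ := H.exists_dil hu hl
  have hd0 : (gmat g0.1).det ≠ 0 := left_ne_zero_of_mul_eq_one (Classical.det_norm_GU hu.pow g0.2)
  obtain ⟨s, hs⟩ := exists_su_of_gu hu (r * g0) (by
    show (gmat r.1 * gmat g0.1).det = 1
    rw [Matrix.det_mul, hrdet, hlz, inv_mul_cancel₀ hd0])
  have hse : ∀ x, mat s *ᵥ x = gmat r.1 *ᵥ (gmat g0.1 *ᵥ x) := fun x => by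
    rw [hs, Matrix.mulVec_mulVec]; rfl
  refine ⟨s, fun i hi => ?_, l, ?_⟩
  · rw [hse, hg0S i hi, hrperp _ ⟨by rw [hB_cv_right, he i hi, map_zero],
      by rw [hB_cv_right, hf i hi, map_zero]⟩]
  · rw [hse, hg0v, hre]

end Cfsg.Agent.SUShort
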