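import Cfsg.Agent.SUShort.Core

/-!
# The glued group maps injectively
-/

set_option autoImplicit false

namespace Cfsg.Agent.SUShort

open Matrix Classical.Herm Cfsg.Agent.AutPSU

variable {n q : ℕ} {F : Type*} [Field F] [Fintype F] {σ : F →+* F} (hu : UCtx σ q)
  {C : Fw n σ} {T : Finset (Fin n)} {P : Type*} [Group P] {ρ : P →* Su n F q}
  {j : ↥(sub (q := q) (F := F) (T.erase C.w)) →* P} {ψ : ↥(sub (q := q) (F := F) C.P3) →* P}

include hu

theorem eS_inv' {e a : Vn n F} {d : F} (h : IsE σ e a d) :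
    IsE σ e (-a) (σ d) ∧ (eS hu e a d)⁻¹ = eS hu e (-a) (σ d) := by
  have h' : IsE σ e (-a) (σ d) := ⟨h.ee, by simp [h.ae], by
    simp [hu.invol]; linear_combination h.tr⟩
  refine ⟨h', inv_eq_of_mul_eq_one_right ?_⟩
  rw [eS_mul hu h h', add_neg_cancel, map_neg, sub_neg_eq_add,
    show d + σ d + hB n σ a a = 0 by linear_combination h.tr]
  exact eS_zero hu h.ee

namespace Fw

/-- The plane elements and the elements `eS e (α • w) b`. -/
def lgens (C : Fw n σ) : Set (Su n F q) :=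
  {g | g ∈ sub C.P2 ∨ ∃ α b : F, IsE σ C.e (α • cv C.w) b ∧ g = eS hu C.e (α • cv C.w) b}

theorem lgens_gen (C : Fw n σ) :
    (sub C.P3 : Subgroup (Su n F q)) ≤ Subgroup.closure (C.lgens hu) := by
  have hH := hu.isHerm n
  have hP := C.hp hu
  set H := Subgroup.closure (C.lgens hu)
  have hpl : ∀ {g : Su n F q}, g ∈ sub C.P2 → g ∈ H := fun hg => Subgroup.subset_closure (Or.inl hg)
  have hS : ∀ {α b : F}, IsE σ C.e (α • cv C.w) b → eS hu C.e (α • cv C.w) b ∈ H := fun hb =>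
    Subgroup.subset_closure (Or.inr ⟨_, _, hb, rfl⟩)
  have hwW : InW σ C.e C.f (cv C.w) :=
    (C.inW_iff hu _).2 ⟨Pi.single_eq_of_ne C.haw _, Pi.single_eq_of_ne C.hbw _⟩
  have hSe : ∀ α : F, ∃ b, IsE σ C.e (α • cv C.w) b := fun α => by
    obtain ⟨b, hb⟩ := exists_d hu (α • cv C.w : Vn n F)
    exact ⟨b, hP.isE hu (hwW.smul α) hb⟩
  -- vectors with a nonzero product with `e`
  have step1 : ∀ v : Vn n F, Supp C.P3 v → hB n σ v v = 1 → hB n σ C.e v ≠ 0 →
      ∃ h ∈ H, mat h *ᵥ v = cv C.a := by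
    intro v hv h1 hb
    set α := -(v C.w) / hB n σ C.e v
    obtain ⟨b, hbE⟩ := hSe α
    set v1 := mat (eS hu C.e (α • cv C.w) b) *ᵥ v
    have hv1 : Supp C.P3 v1 :=
      sub_supp hu (eS_mem_sub hu hbE (C.e_supp.mono C.P2_sub) ((supp_cv C.w_mem3).smul α)) hv
    have hv12 : Supp C.P2 v1 := fun i hi => by
      by_cases hiw : i = C.w
      · subst hiw
        simp [v1, eS_mulVec hu hbE, C.e_w, α]
        field_simp
        ring
      · exact hv1 i (by
          simp only [Fw.P2, Fw.P3, Finset.mem_insert, Finset.mem_singleton] at hi ⊢; tauto)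
    have hn : hB n σ v1 v1 = 1 := by rw [hB_mat hu, h1]
    obtain ⟨g, hg, hgv⟩ := exists_su_move hu hv12 (supp_cv C.a_mem)
      (fun h0 => by simp [h0] at hn) (by simp [cv]) (by rw [hn, hB_cv_cv, if_pos rfl])
      (Or.inr ⟨by rw [Fw.P2, Finset.card_pair C.hab], by rw [hn]; exact one_ne_zero⟩)
    exact ⟨g * eS hu C.e (α • cv C.w) b, mul_mem (hpl hg) (hS hbE), by rw [mat_mul_mulVec, hgv]⟩
  -- all unit vectors
  have step2 : ∀ v : Vn n F, Supp C.P3 v → hB n σ v v = 1 → hB n σ C.e v = 0 →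
      hB n σ C.f v ≠ 0 → ∃ h ∈ H, mat h *ᵥ v = cv C.a := by
    intro v hv h1 hb hc
    obtain ⟨g, hg, l, hgl⟩ := exists_su_move_iso hu (S := C.P2) (e := C.f) (f := C.e)
      ⟨hP.ff, hP.ee, hP.fe hu⟩ C.f_supp C.e_supp C.e_supp hP.e_ne hP.ee
    have hl : l ≠ 0 := fun h0 => mat_mulVec_ne_zero g hP.e_ne (by rw [hgl, h0, zero_smul])
    have hb' : hB n σ C.e (mat g *ᵥ v) ≠ 0 := by
      intro h0
      -- `g v` has the coefficient of `f` equal to that of `e` in `v`, scaled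
      have e1 : v = hB n σ C.f v • C.e + proj σ C.e C.f v := by
        conv_lhs => rw [eq_proj (σ := σ) C.e C.f v, hb, zero_smul, add_zero]
      have e2 : mat g *ᵥ proj σ C.e C.f v = proj σ C.e C.f v := by
        refine fix_of_supp hg fun i hi => ?_
        obtain ⟨p1, p2⟩ := (C.inW_iff hu _).1 (hP.proj_mem hu v)
        simp only [Fw.P2, Finset.mem_insert, Finset.mem_singleton] at hi
        rcases hi with rfl | rfl <;> assumption
      rw [e1, Matrix.mulVec_add, Matrix.mulVec_smul, hgl, e2, map_add, map_smul, map_smul, hP.ef,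
        (hP.proj_mem hu v).1] at h0
      simp [hc, hl] at h0
    obtain ⟨h, hh, hhv⟩ := step1 _ (sub_supp hu (sub_mono C.P2_sub hg) hv) (by rw [hB_mat hu, h1]) hb'
    exact ⟨h * g, mul_mem hh (hpl hg), by rw [mat_mul_mulVec, hhv]⟩
  have key : ∀ v : Vn n F, Supp C.P3 v → hB n σ v v = 1 → ∃ h ∈ H, mat h *ᵥ v = cv C.a := by
    intro v hv h1
    by_cases hb : hB n σ C.e v = 0
    · by_cases hc : hB n σ C.f v = 0
      · obtain ⟨b, hbE⟩ := hSe 1
        set s := eS hu C.e ((1 : F) • cv C.w) b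
        have hs3 : s ∈ sub C.P3 :=
          eS_mem_sub hu hbE (C.e_supp.mono C.P2_sub) ((supp_cv C.w_mem3).smul 1)
        obtain ⟨va, vb⟩ := (C.inW_iff hu v).1 ⟨hb, hc⟩
        have hvw : v = v C.w • cv C.w := by
          funext i
          by_cases hiw : i = C.w
          · subst hiw; simp
          · have : v i = 0 := by
              by_cases hi : i ∈ C.P3
              · simp only [Fw.P3, Finset.mem_insert, Finset.mem_singleton] at hi
                rcases hi with rfl | rfl | rfl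
                exacts [va, vb, absurd rfl hiw]
              · exact hv i hi
            simp [this, hiw]
        have hne : v C.w ≠ 0 := fun h0 => by
          rw [hvw, h0, zero_smul, map_zero] at h1; exact zero_ne_one h1
        obtain ⟨h, hh, hhv⟩ := step2 (mat s *ᵥ v) (sub_supp hu hs3 hv) (by rw [hB_mat hu, h1])
          (by simp only [s, eS_mulVec hu hbE]; simp [hb, hP.ee, hB_cv_right, C.e_w])
          (by simp only [s, eS_mulVec hu hbE]; simp [hb, hc, hB_cv, hB_cv_right, C.f_w, hP.fe hu, hne])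
        exact ⟨h * s, mul_mem hh (hS hbE), by rw [mat_mul_mulVec, hhv]⟩
      · exact step2 v hv h1 hb hc
    · exact step1 v hv h1 hb
  intro t ht
  obtain ⟨h1, hh1, e1⟩ := key _ (sub_supp hu ht (supp_cv C.w_mem3))
    (by rw [hB_mat hu, hB_cv_cv, if_pos rfl])
  obtain ⟨h2, hh2, e2⟩ := key _ (supp_cv C.w_mem3) (by rw [hB_cv_cv, if_pos rfl])
  set h := h1⁻¹ * h2
  have hfix : mat (h⁻¹ * t) *ᵥ cv C.w = cv C.w := by
    rw [mat_mul_mulVec]
    simp only [h, _root_.mul_inv_rev, inv_inv, mat_mul_mulVec]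
    rw [e1, ← e2, mat_inv_mulVec]
  have hH3 : H ≤ sub C.P3 := by
    refine (Subgroup.closure_le _).2 ?_
    rintro g (hg | ⟨α, b, hb, rfl⟩)
    · exact sub_mono C.P2_sub hg
    · exact eS_mem_sub hu hb (C.e_supp.mono C.P2_sub) ((supp_cv C.w_mem3).smul α)
  have hh : h ∈ H := mul_mem (inv_mem hh1) hh2
  have hpl2 : h⁻¹ * t ∈ sub C.P2 := by
    refine sub_mono (fun i hi => ?_) (mem_sub_erase (mul_mem (inv_mem (hH3 hh)) ht) hfix)
    simp only [Fw.P3, Finset.mem_erase, Finset.mem_insert, Finset.mem_singleton] at hi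
    simp only [Fw.P2, Finset.mem_insert, Finset.mem_singleton]
    tauto
  simpa using mul_mem hh (hpl hpl2)

end Fw

namespace Hyp

variable (h : Hyp hu C T ρ j ψ) (ha : C.a ∈ T) (hb : C.b ∈ T) (hw : C.w ∈ T)
include h ha hb hw

theorem unipotent_mul_D {α β : F} (hS : IsE σ C.e (α • cv C.w) β)
    (t : ↥(sub (q := q) (F := F) C.P3)) (ht : (t : Su n F q) = eS hu C.e (α • cv C.w) β)
    {x : P} (hx : x ∈ Dset C T j ψ) : ψ t * x ∈ Dset C T j ψ := by
  have hH := hu.isHerm n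
  have hP := C.hp hu
  obtain ⟨a, s, a', rfl⟩ := hx
  rw [← mul_assoc]
  refine h.mul_mem_D hu ha hb hw ?_ a'
  have reduce : ∀ (a1 : ↥(sub (q := q) (F := F) (T.erase C.w))) (s1 : ↥(sub (q := q) (F := F) C.P3)),
      mat ((a1 : Su n F q) * (s1 : Su n F q)) *ᵥ cv C.w =
        mat ((a : Su n F q) * (s : Su n F q)) *ᵥ cv C.w →
      ψ t * (j a1 * ψ s1) ∈ Dset C T j ψ → ψ t * (j a * ψ s) ∈ Dset C T j ψ := by
    intro a1 s1 e1 hm
    obtain ⟨g, hg⟩ := h.coset hu ha hb hw e1.symm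
    rw [hg, ← mul_assoc (ψ t)]
    exact h.mul_mem_D hu ha hb hw hm g
  set v := mat ((a : Su n F q) * (s : Su n F q)) *ᵥ cv C.w with hvdef
  have hvs : Supp T v := sub_supp hu
    (mul_mem (sub_mono (Finset.erase_subset _ _) a.2) (P3_le ha hb hw s.2)) (supp_cv hw)
  have hv1 : hB n σ v v = 1 := by rw [hvdef, hB_mat hu, hB_cv_cv, if_pos rfl]
  set b := hB n σ C.e v
  set c := hB n σ C.f v
  set z := v C.w
  set v' := proj σ C.e C.f v - z • cv C.w
  have hv : v = c • C.e + b • C.f + (v' + z • cv C.w) := by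
    simp only [v', sub_add_cancel]; exact eq_proj (σ := σ) C.e C.f v
  have hv'W : InW σ C.e C.f v' := by
    obtain ⟨p1, p2⟩ := (C.inW_iff hu _).1 (hP.proj_mem hu v)
    refine (C.inW_iff hu _).2 ⟨?_, ?_⟩ <;>
      simp [v', p1, p2, C.haw, C.hbw]
  have hv's : Supp (C.rest T) v' := by
    intro i hi
    obtain ⟨p1, p2⟩ := (C.inW_iff hu _).1 hv'W
    by_cases hia : i = C.a
    · rw [hia, p1]
    by_cases hib : i = C.b
    · rw [hib, p2]
    by_cases hiw : i = C.w
    · subst hiw; simp [v', proj_apply, C.e_w, C.f_w, z]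
    have hiT : i ∉ T := fun h' => hi (Finset.mem_sdiff.2 ⟨h', by simp [Fw.P3, hia, hib, hiw]⟩)
    have hi2 : i ∉ C.P2 := by simp [Fw.P2, hia, hib]
    simp [v', proj_apply, C.e_supp i hi2, C.f_supp i hi2, hvs i hiT, hiw]
  have hrestw : ∀ y : Vn n F, Supp (C.rest T) y → y C.w = 0 ∧ InW σ C.e C.f y ∧
      Supp (T.erase C.w) y := by
    intro y hy
    have hne : ∀ k ∈ C.P3, y k = 0 := fun k hk => hy k fun h' => (Finset.mem_sdiff.1 h').2 hk
    refine ⟨hne _ C.w_mem3, (C.inW_iff hu y).2 ⟨hne _ C.a_mem3, hne _ C.b_mem3⟩, hy.mono fun k hk => ?_⟩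
    obtain ⟨h1, h2⟩ := Finset.mem_sdiff.1 hk
    exact Finset.mem_erase.2 ⟨fun h' => h2 (h' ▸ C.w_mem3), h1⟩
  have hr : ∀ y : Vn n F, Supp (C.rest T) y → ∃ d, ∃ r : ↥(sub (q := q) (F := F) (T.erase C.w)),
      IsE σ C.e y d ∧ (r : Su n F q) = eS hu C.e y d ∧ Commute (j r) (ψ t) := by
    intro y hy
    obtain ⟨d, hd⟩ := exists_d hu y
    obtain ⟨-, hyW, hyT⟩ := hrestw y hy
    have hE := hP.isE hu hyW hd
    have he : Supp (T.erase C.w) C.e := C.e_supp.mono fun k hk => by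
      simp only [Fw.P2, Finset.mem_insert, Finset.mem_singleton] at hk
      rcases hk with rfl | rfl
      exacts [Finset.mem_erase.2 ⟨C.haw, ha⟩, Finset.mem_erase.2 ⟨C.hbw, hb⟩]
    exact ⟨d, ⟨_, eS_mem_sub hu hE he hyT⟩, hE, rfl, h.rad _ t y d α β hy hE hS rfl ht⟩
  have hw0 : (cv C.w : Vn n F) ≠ 0 := by simp [cv]
  have h3 : 3 ≤ C.P3.card := by
    rw [Fw.P3, Finset.card_insert_of_notMem (by simp [C.hab, C.haw]), Finset.card_pair C.hbw]
  have hlocal : ∀ v3 : Vn n F, Supp C.P3 v3 → hB n σ v3 v3 = 1 →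
      ∃ s3 : ↥(sub (q := q) (F := F) C.P3), mat (s3 : Su n F q) *ᵥ cv C.w = v3 := by
    intro v3 h1 h2
    obtain ⟨g, hg, hgv⟩ := exists_su_move hu (supp_cv C.w_mem3) h1 hw0
      (fun h0 => by simp [h0] at h2) (by rw [h2, hB_cv_cv, if_pos rfl]) (Or.inl h3)
    exact ⟨⟨g, hg⟩, hgv⟩
  have hP3 : ∀ c' b' : F, Supp C.P3 (c' • C.e + b' • C.f + z • cv C.w) := fun c' b' =>
    (((C.e_supp.mono C.P2_sub).smul c').add ((C.f_supp.mono C.P2_sub).smul b')).add
      ((supp_cv C.w_mem3).smul z)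
  by_cases hv'0 : v' = 0
  · obtain ⟨s3, hs3⟩ := hlocal v (by rw [hv, hv'0, zero_add]; exact hP3 c b) hv1
    refine reduce 1 s3 (by rw [Subgroup.coe_one, one_mul, hs3]) ?_
    exact ⟨1, t * s3, 1, by simp⟩
  by_cases hb0 : b = 0
  · obtain ⟨i0, hi0⟩ : ∃ i, v' i ≠ 0 := Function.ne_iff.1 hv'0
    set y : Vn n F := σ (-c / v' i0) • cv i0
    have hys : Supp (C.rest T) y := (supp_cv (by
      by_contra h'; exact hi0 (hv's i0 h'))).smul _
    obtain ⟨d, r, hE, hre, hcm⟩ := hr y hys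
    have hnorm : hB n σ v' v' + z * σ z = 1 := by
      have e1 := hv1
      rw [hv, hb0, zero_smul, add_zero] at e1
      simp only [map_add, map_smul, map_smulₛₗ, LinearMap.add_apply, LinearMap.smul_apply, smul_eq_mul,
        hP.ee, hv'W.1, InW.a_e hu hv'W, hB_cv, hB_cv_right, C.e_w, (hrestw v' hv's).1,
        Pi.single_eq_same, map_zero, map_one, mul_zero, mul_one, add_zero, zero_add] at e1
      linear_combination e1
    obtain ⟨a1, s1, e1, hm⟩ := h.slide v' z hv's hv'0 hnorm t α β hS ht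
    refine reduce (r * a1) s1 ?_ ?_
    · rw [Subgroup.coe_mul, mul_assoc, mat_mul_mulVec, e1, hre, eS_mulVec hu hE]
      conv_rhs => rw [hv, hb0, zero_smul, add_zero]
      have hy1 : hB n σ C.e (v' + z • cv C.w) = 0 := by
        rw [map_add, map_smul, hv'W.1, hB_cv_right, C.e_w, map_zero, smul_zero, add_zero]
      have hy2 : hB n σ y (v' + z • cv C.w) = -c := by
        simp only [y, map_add, map_smul, map_smulₛₗ, LinearMap.smul_apply, smul_eq_mul, hB_cv,
          hu.invol]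
        have : (cv C.w : Vn n F) i0 = 0 := Pi.single_eq_of_ne
          (fun h' => hi0 (by rw [h']; exact (hrestw v' hv's).1)) _
        rw [this]
        field_simp
        ring
      rw [hy1, hy2]
      module
    · rw [map_mul, mul_assoc (j r), ← mul_assoc (ψ t), ← hcm.eq, mul_assoc (j r)]
      exact h.j_mul_D hu ha hb hw hm r
  · set y := b⁻¹ • v'
    obtain ⟨d, r, hE, hre, hcm⟩ := hr y (hv's.smul _)
    set v3 := (c - d * b) • C.e + b • C.f + z • cv C.w
    have hrv : mat (r : Su n F q) *ᵥ v3 = v := by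
      rw [hre, eS_mulVec hu hE, hv]
      have hy1 : hB n σ C.e v3 = b := by
        simp [v3, hP.ee, hP.ef, hB_cv_right, C.e_w]
      have hy2 : hB n σ y v3 = 0 := by
        obtain ⟨w0, hW, -⟩ := hrestw y (hv's.smul _)
        simp [v3, InW.a_e hu hW, InW.a_f hu hW, hB_cv_right, w0]
      rw [hy1, hy2]
      simp only [v3, y, smul_smul, mul_inv_cancel₀ hb0, one_smul]
      module
    obtain ⟨s3, hs3⟩ := hlocal v3 (hP3 _ _) (by rw [← hB_mat hu (r : Su n F q), hrv, hv1])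
    refine reduce r s3 (by rw [mat_mul_mulVec, hs3, hrv]) ?_
    rw [← mul_assoc, ← hcm.eq, mul_assoc, ← map_mul]
    exact ⟨r, t * s3, 1, by simp⟩

/-- The gluing is injective. -/
theorem injective : Function.Injective ρ := by
  let E1 : Subgroup P :=
    { carrier := {g | (∀ x ∈ Dset C T j ψ, g * x ∈ Dset C T j ψ) ∧
        ∀ x ∈ Dset C T j ψ, g⁻¹ * x ∈ Dset C T j ψ}
      one_mem' := ⟨fun x hx => by rwa [one_mul], fun x hx => by rwa [inv_one, one_mul]⟩
      mul_mem' := fun {g g'} hg hg' =>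
        ⟨fun x hx => by rw [mul_assoc]; exact hg.1 _ (hg'.1 x hx),
          fun x hx => by rw [_root_.mul_inv_rev, mul_assoc]; exact hg'.2 _ (hg.2 x hx)⟩
      inv_mem' := fun {g} hg => ⟨hg.2, fun x hx => by rw [inv_inv]; exact hg.1 x hx⟩ }
  have hj : j.range ≤ E1 := by
    rintro _ ⟨a, rfl⟩
    exact ⟨fun x hx => h.j_mul_D hu ha hb hw hx a,
      fun x hx => by rw [← map_inv]; exact h.j_mul_D hu ha hb hw hx a⁻¹⟩
  have hψ : ψ.range ≤ E1 := by
    have hle := C.lgens_gen hu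
    have : ∀ g, g ∈ Subgroup.closure (C.lgens hu) →
        ∀ hg : g ∈ sub C.P3, ψ ⟨g, hg⟩ ∈ E1 := by
      have hH3 : Subgroup.closure (C.lgens hu) ≤ sub C.P3 := by
        refine (Subgroup.closure_le _).2 ?_
        rintro g (hg | ⟨α, b, hb', rfl⟩)
        · exact sub_mono C.P2_sub hg
        · exact eS_mem_sub hu hb' (C.e_supp.mono C.P2_sub) ((supp_cv C.w_mem3).smul α)
      intro g hg
      induction hg using Subgroup.closure_induction with
      | one =>
        intro hg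
        exact (show (⟨1, hg⟩ : ↥(sub (q := q) (F := F) C.P3)) = 1 from rfl) ▸ (map_one ψ).symm ▸ E1.one_mem
      | mem g hg =>
        intro hg3
        rcases hg with hg | ⟨α, b, hb', rfl⟩
        · rw [← h.plane hu ha hb hw hg]
          exact hj ⟨_, rfl⟩
        · refine ⟨fun x hx => h.unipotent_mul_D hu ha hb hw hb' ⟨_, hg3⟩ rfl hx, fun x hx => ?_⟩
          obtain ⟨hi, hie⟩ := eS_inv' hu hb'
          rw [← map_inv]
          refine h.unipotent_mul_D hu ha hb hw (α := -α) (β := σ b) (by rwa [neg_smul]) _ ?_ hx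
          rw [neg_smul]; exact hie
      | mul g g' hg hg' ih ih' =>
        intro hgg
        have : (⟨g * g', hgg⟩ : ↥(sub (q := q) (F := F) C.P3)) = ⟨g, hH3 hg⟩ * ⟨g', hH3 hg'⟩ := rfl
        rw [this, map_mul]
        exact mul_mem (ih _) (ih' _)
      | inv g hg ih =>
        intro hgi
        have : (⟨g⁻¹, hgi⟩ : ↥(sub (q := q) (F := F) C.P3)) = ⟨g, hH3 hg⟩⁻¹ := rfl
        rw [this, map_inv]
        exact inv_mem (ih _)
    rintro _ ⟨g, rfl⟩
    exact this g (hle g.2) g.2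
  have htop : E1 = ⊤ := eq_top_iff.2 (h.gen ▸ sup_le hj hψ)
  refine (injective_iff_map_eq_one ρ).2 fun x hx => ?_
  have hxE : x ∈ E1 := htop ▸ Subgroup.mem_top x
  have hx' : x ∈ Dset C T j ψ := by simpa using hxE.1 1 ⟨1, 1, 1, by simp⟩
  obtain ⟨a, s, a', rfl⟩ := hx'
  rw [map_mul, map_mul, h.hj, h.hψ, h.hj, mul_assoc] at hx
  have hsw : mat (s : Su n F q) *ᵥ cv C.w = cv C.w := by
    rw [show (s : Su n F q) = (a : Su n F q)⁻¹ * (a' : Su n F q)⁻¹ from
      eq_inv_mul_of_mul_eq (eq_inv_of_mul_eq_one_left (by rw [mul_assoc]; exact hx)), mat_mul_mulVec,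
      fix_of_mem_erase (inv_mem a'.2), fix_of_mem_erase (inv_mem a.2)]
  obtain ⟨g, hg⟩ := h.same hu ha hb hw (t := s) (t' := 1) (by
    rw [hsw]; exact (mat_one_mulVec _).symm)
  rw [map_one, one_mul] at hg
  rw [hg, ← map_mul, ← map_mul]
  have e : a * g * a' = 1 := by
    apply Subtype.ext
    have hg' := congrArg ρ hg
    rw [h.hψ, h.hj] at hg'
    rw [Subgroup.coe_mul, Subgroup.coe_mul, ← hg', Subgroup.coe_one, mul_assoc]
    exact hx
  rw [e, map_one]

end Hyp

end Cfsg.Agent.SUShort
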