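import Cfsg.Agent.SUShort.Step

/-!
# The slide condition

It holds as soon as one element of the glued set moves the third coordinate to the wanted vector
and normalises a group containing the wanted unipotent elements.
-/

set_option autoImplicit false

namespace Cfsg.Agent.SUShort

open Matrix Classical.Herm Cfsg.Agent.AutPSU

variable {n q : ℕ} {F : Type*} [Field F] [Fintype F] {σ : F →+* F} (hu : UCtx σ q)
variable {P : Type*} [Group P] {ρ : P →* Su n F q} (L : Loc ρ)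

include hu

/-- The slide condition at one vector. -/
def Loc.SlideAt (L : Loc ρ) (C : Fw n σ) (T : Finset (Fin n))
    (j : ↥(sub (q := q) (F := F) (T.erase C.w)) →* P) (x : Vn n F) (z : F) : Prop :=
  ∀ (t : ↥(sub (q := q) (F := F) C.P3)) (α b : F), IsE σ C.e (α • cv C.w) b →
    (t : Su n F q) = eS hu C.e (α • cv C.w) b →
    ∃ (a : ↥(sub (q := q) (F := F) (T.erase C.w))) (s : ↥(sub (q := q) (F := F) C.P3)),
      mat ((a : Su n F q) * (s : Su n F q)) *ᵥ cv C.w = x + z • cv C.w ∧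
      L.κ C.P3 t * (j a * L.κ C.P3 s) ∈ Dset C T j (L.κ C.P3)

omit hu in
theorem Fw.rest_facts {C : Fw n σ} {T : Finset (Fin n)} {i : Fin n} (hi : i ∈ C.rest T) :
    i ∈ T ∧ i ≠ C.a ∧ i ≠ C.b ∧ i ≠ C.w := by
  obtain ⟨h, h3⟩ := Finset.mem_sdiff.1 hi
  simp only [Fw.P3, Finset.mem_insert, Finset.mem_singleton, not_or] at h3
  exact ⟨h, h3⟩

theorem Fw.inW_rest {C : Fw n σ} {T : Finset (Fin n)} {y : Vn n F} (hy : Supp (C.rest T) y) :
    InW σ C.e C.f y ∧ y C.w = 0 :=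
  have h : ∀ k ∈ C.P3, y k = 0 := fun k hk => hy k fun h' => (Finset.mem_sdiff.1 h').2 hk
  ⟨(C.inW_iff hu y).2 ⟨h _ C.a_mem3, h _ C.b_mem3⟩, h _ C.w_mem3⟩

section
variable {C : Fw n σ} {T : Finset (Fin n)} (ha : C.a ∈ T) (hb : C.b ∈ T) (hw : C.w ∈ T)
include ha hb

omit hu in
theorem Fw.tri_sub {i : Fin n} (hi : i ∈ C.rest T) :
    ({C.a, C.b, i} : Finset (Fin n)) ⊆ T.erase C.w := by
  obtain ⟨hiT, -, -, hiw⟩ := Fw.rest_facts hi
  intro l hl
  simp only [Finset.mem_insert, Finset.mem_singleton] at hl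
  rcases hl with rfl | rfl | rfl
  exacts [Finset.mem_erase.2 ⟨C.haw, ha⟩, Finset.mem_erase.2 ⟨C.hbw, hb⟩,
    Finset.mem_erase.2 ⟨hiw, hiT⟩]

variable (hI : L.Inj (T.erase C.w)) (h3 : 3 ≤ (T.erase C.w).card)

/-- An element normalising a good subgroup and moving the third coordinate gives the slide. -/
theorem Loc.slide_finish {x : Vn n F} {z : F} (hx : Supp (C.rest T) x) (M : Subgroup P)
    (hfix : ∀ m ∈ M, mat (ρ m) *ᵥ cv C.w = cv C.w → m ∈ (L.sec hu h3 hI).range)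
    {g : P} (hgD : g ∈ Dset C T (L.sec hu h3 hI) (L.κ C.P3))
    (hgM : ∀ m ∈ M, g⁻¹ * m * g ∈ M) (hgw : mat (ρ g) *ᵥ cv C.w = x + z • cv C.w)
    {i0 : Fin n} (hi0 : i0 ∈ C.rest T) (hx0 : x i0 ≠ 0)
    (hjM : ∀ c d : F, IsE σ C.e (c • cv i0) d →
      ∀ hm : eS hu C.e (c • cv i0) d ∈ sub ({C.a, C.b, i0} : Finset (Fin n)),
        L.κ {C.a, C.b, i0} ⟨_, hm⟩ ∈ M)
    (hψM : ∀ (t : ↥(sub (q := q) (F := F) C.P3)) (α b : F), IsE σ C.e (α • cv C.w) b →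
      (t : Su n F q) = eS hu C.e (α • cv C.w) b → L.κ C.P3 t ∈ M) :
    L.SlideAt hu C T (L.sec hu h3 hI) x z := by
  intro t α b hS hte
  set j := L.sec hu h3 hI
  set ψ := L.κ C.P3
  have hc3 : C.P3.card ≤ 4 := by rw [card_three C]; norm_num
  have hρj : ∀ a, ρ (j a) = a := fun a => (L.sec_spec hu h3 hI a).2
  have hρψ : ∀ t, ρ (ψ t) = t := fun t => L.proj _ hc3 t
  have hP := C.hp hu
  obtain ⟨hxW, hxw⟩ := Fw.inW_rest hu hx
  obtain ⟨-, hi0a, hi0b, hi0w⟩ := Fw.rest_facts hi0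
  set κ' := σ (σ α * z / x i0)
  set y : Vn n F := κ' • cv i0
  obtain ⟨d, hd⟩ := exists_d hu y
  have hyW : InW σ C.e C.f y := ((C.inW_iff hu _).2
    ⟨Pi.single_eq_of_ne (Ne.symm hi0a) _, Pi.single_eq_of_ne (Ne.symm hi0b) _⟩).smul κ'
  have hE := hP.isE hu hyW hd
  have hm3 : eS hu C.e y d ∈ sub ({C.a, C.b, i0} : Finset (Fin n)) :=
    eS_mem_sub hu hE (C.e_supp.mono fun l hl => by
      simp only [Fw.P2, Finset.mem_insert, Finset.mem_singleton] at hl ⊢; tauto)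
      ((supp_cv (by simp)).smul κ')
  set r : ↥(sub (q := q) (F := F) (T.erase C.w)) := ⟨_, sub_mono (Fw.tri_sub ha hb hi0) hm3⟩
  have hjr : j r ∈ M := by
    have e := L.sec_κ hu h3 hI (Fw.tri_sub ha hb hi0) (Finset.card_le_three.trans (by norm_num)) r hm3
    rw [show j r = L.κ {C.a, C.b, i0} ⟨_, hm3⟩ from e]
    exact hjM κ' d hE hm3
  set v0 := x + z • cv C.w
  have hv0 : mat (t : Su n F q) *ᵥ v0 = mat (r : Su n F q) *ᵥ v0 := by
    show _ = mat (eS hu C.e y d) *ᵥ v0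
    rw [hte, eS_mulVec hu hS, eS_mulVec hu hE]
    have e1 : hB n σ C.e v0 = 0 := by
      simp [v0, hxW.1, hB_cv_right, C.e_w]
    have e2 : hB n σ (α • cv C.w) v0 = σ α * z := by
      simp [v0, hB_cv, hxw]
    have e3 : hB n σ y v0 = σ α * z := by
      simp [v0, y, κ', hB_cv, hu.invol, hi0w]
      field_simp
    rw [e1, e2, e3]
    simp
  set m := (j r)⁻¹ * ψ t
  have hm : m ∈ M := mul_mem (inv_mem hjr) (hψM t α b hS hte)
  have hm' : mat (ρ (g⁻¹ * m * g)) *ᵥ cv C.w = cv C.w := by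
    rw [map_mul, map_mul, mat_mul_mulVec, mat_mul_mulVec, hgw, map_inv, map_mul ρ (j r)⁻¹, map_inv,
      hρj, hρψ, mat_mul_mulVec, hv0, mat_inv_mulVec, ← hgw, mat_inv_mulVec]
  obtain ⟨a0, ha0⟩ := hfix _ (hgM m hm) hm'
  obtain ⟨a1, s, a2, rfl⟩ := hgD
  refine ⟨a1, s, ?_, r * a1, s, a2 * a0 * a2⁻¹, ?_⟩
  · rw [← hgw, map_mul, map_mul, hρj, hρψ, hρj, mat_mul_mulVec ((a1 : Su n F q) * (s : Su n F q)),
      fix_of_mem_erase a2.2]
  · rw [map_mul j r, map_mul j (a2 * a0), map_mul j a2, map_inv j a2, ha0]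
    simp only [m]
    group

/-- The slide moves along the stabiliser of the two lines. -/
theorem Loc.slide_transfer (h5 : 5 ≤ T.card) (hw : C.w ∈ T) {x0 : Vn n F} {z : F}
    (h : L.SlideAt hu C T (L.sec hu h3 hI) x0 z)
    (k : ↥(sub (q := q) (F := F) (T.erase C.w))) {l μ : F}
    (he : mat (k : Su n F q) *ᵥ C.e = l • C.e) (hf : mat (k : Su n F q) *ᵥ C.f = μ • C.f) :
    L.SlideAt hu C T (L.sec hu h3 hI) (mat (k : Su n F q) *ᵥ x0) z := by
  intro t α b hS hte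
  set j := L.sec hu h3 hI
  set ψ := L.κ C.P3
  have hkw : mat (k : Su n F q) *ᵥ cv C.w = cv C.w := fix_of_mem_erase k.2
  have hl : l ≠ 0 := fun h0 =>
    mat_mulVec_ne_zero (k : Su n F q) (C.hp hu).e_ne (by rw [he, h0, zero_smul])
  have he' : mat (k : Su n F q)⁻¹ *ᵥ C.e = l⁻¹ • C.e := by
    conv_lhs => rw [show C.e = l⁻¹ • (mat (k : Su n F q) *ᵥ C.e) by
      rw [he, smul_smul, inv_mul_cancel₀ hl, one_smul]]
    rw [Matrix.mulVec_smul, mat_inv_mulVec]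
  have hw' : mat (k : Su n F q)⁻¹ *ᵥ cv C.w = cv C.w := fix_of_mem_erase (inv_mem k.2)
  set α' := σ l⁻¹ * α
  set b' := l⁻¹ * σ l⁻¹ * b
  have hS' : IsE σ C.e (α' • cv C.w) b' := by
    simpa only [smul_smul, α', b'] using hS.smul hu l⁻¹
  have hc : (k : Su n F q)⁻¹ * t * (k : Su n F q) = eS hu C.e (α' • cv C.w) b' := by
    conv_lhs => rw [hte]
    have := suConj hu (k : Su n F q)⁻¹ hS
    rw [inv_inv, Matrix.mulVec_smul, he', hw', eS_smul hu hS, smul_smul] at this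
    exact this
  have hm : eS hu C.e (α' • cv C.w) b' ∈ sub C.P3 :=
    eS_mem_sub hu hS' (C.e_supp.mono C.P2_sub) ((supp_cv C.w_mem3).smul α')
  obtain ⟨a, s, e1, e2⟩ := h ⟨_, hm⟩ α' b' hS' rfl
  refine ⟨k * a, s, ?_, ?_⟩
  · rw [Subgroup.coe_mul, mul_assoc, mat_mul_mulVec, e1, Matrix.mulVec_add, Matrix.mulVec_smul, hkw]
  · have ht : (k : Su n F q) * (⟨_, hm⟩ : ↥(sub (q := q) (F := F) C.P3)) * (k : Su n F q)⁻¹ = t := by
      show (k : Su n F q) * eS hu C.e (α' • cv C.w) b' * (k : Su n F q)⁻¹ = t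
      rw [← hc]
      group
    have ht2 := L.twist_sec hu ha hb hw h5 hI h3 k l μ he hf ⟨_, hm⟩ t ht
    obtain ⟨a1, s1, a2, e3⟩ := e2
    refine ⟨k * a1, s1, a2, ?_⟩
    calc ψ t * (j (k * a) * ψ s) = j k * (ψ ⟨_, hm⟩ * (j a * ψ s)) := by
          rw [← ht2, map_mul j k a]; simp only [j, ψ]; group
      _ = j k * (j a1 * ψ s1 * j a2) := by rw [e3]
      _ = _ := by rw [map_mul j k a1]; group

omit hI h3 in
/-- The stabiliser of the two lines is transitive on vectors of equal norm of the other coordinates. -/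
theorem exists_line_move {x x0 : Vn n F} (hx : Supp (C.rest T) x) (hx0 : Supp (C.rest T) x0)
    (hne : x ≠ 0) (hne0 : x0 ≠ 0) (hn : hB n σ x0 x0 = hB n σ x x) :
    ∃ k : ↥(sub (q := q) (F := F) (T.erase C.w)), ∃ l μ : F,
      mat (k : Su n F q) *ᵥ C.e = l • C.e ∧ mat (k : Su n F q) *ᵥ C.f = μ • C.f ∧
      mat (k : Su n F q) *ᵥ x0 = x := by
  have hP := C.hp hu
  obtain ⟨g0, hg0v, hg0S⟩ := exists_gu_move hu hx0 hx hne0 hne hn
  have hz : (gmat g0.1).det⁻¹ * σ (gmat g0.1).det⁻¹ = 1 := by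
    rw [map_inv₀, ← mul_inv, Classical.det_norm_GU hu.pow g0.2, inv_one]
  obtain ⟨l, hl, hlz⟩ := exists_ratio hu hz
  obtain ⟨r, hre, hrf, hrperp, hrdet⟩ := hP.exists_dil hu hl
  have hd0 : (gmat g0.1).det ≠ 0 := left_ne_zero_of_mul_eq_one (Classical.det_norm_GU hu.pow g0.2)
  obtain ⟨s, hs⟩ := exists_su_of_gu hu (r * g0) (by
    show (gmat r.1 * gmat g0.1).det = 1
    rw [Matrix.det_mul, hrdet, hlz, inv_mul_cancel₀ hd0])
  have hse : ∀ v, mat s *ᵥ v = gmat r.1 *ᵥ (gmat g0.1 *ᵥ v) := fun v => by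
    rw [hs, Matrix.mulVec_mulVec]; rfl
  have hfix : ∀ v : Vn n F, Supp C.P2 v → gmat g0.1 *ᵥ v = v := by
    intro v hv
    conv_rhs => rw [hv.eq_sum]
    conv_lhs => rw [hv.eq_sum]
    rw [Matrix.mulVec_sum]
    refine Finset.sum_congr rfl fun i hi => ?_
    rw [Matrix.mulVec_smul, hg0S i fun h' => (Finset.mem_sdiff.1 h').2 (C.P2_sub hi)]
  refine ⟨⟨s, fun i hi => ?_⟩, l, (σ l)⁻¹, ?_, ?_, ?_⟩
  · have hia : i ≠ C.a := fun h => hi (h ▸ Finset.mem_erase.2 ⟨C.haw, ha⟩)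
    have hib : i ≠ C.b := fun h => hi (h ▸ Finset.mem_erase.2 ⟨C.hbw, hb⟩)
    have hir : i ∉ C.rest T := fun h' => by
      obtain ⟨hiT, -, -, hiw⟩ := Fw.rest_facts h'
      exact hi (Finset.mem_erase.2 ⟨hiw, hiT⟩)
    rw [hse, hg0S i hir, hrperp _ ((C.inW_iff hu _).2
      ⟨Pi.single_eq_of_ne (Ne.symm hia) _, Pi.single_eq_of_ne (Ne.symm hib) _⟩)]
  · show mat s *ᵥ C.e = _
    rw [hse, hfix _ C.e_supp, hre]
  · show mat s *ᵥ C.f = _
    rw [hse, hfix _ C.f_supp, hrf]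
  · show mat s *ᵥ x0 = _
    rw [hse, hg0v, hrperp _ (Fw.inW_rest hu hx).1]

/-- It suffices to slide to one vector of each norm. -/
theorem Loc.slide_of_reps (h5 : 5 ≤ T.card) (hw : C.w ∈ T)
    (hrep : ∀ (x : Vn n F) (z : F), Supp (C.rest T) x → x ≠ 0 → hB n σ x x + z * σ z = 1 →
      ∃ x0 : Vn n F, Supp (C.rest T) x0 ∧ x0 ≠ 0 ∧ hB n σ x0 x0 = hB n σ x x ∧
        L.SlideAt hu C T (L.sec hu h3 hI) x0 z) :
    L.Slide hu C T (L.sec hu h3 hI) := by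
  intro x z hx hne hnorm
  obtain ⟨x0, hx0, hne0, hn, h⟩ := hrep x z hx hne hnorm
  obtain ⟨k, l, μ, he, hf, hk⟩ := exists_line_move hu ha hb hx hx0 hne hne0 hn
  have := L.slide_transfer hu ha hb hI h3 h5 hw h k he hf
  rwa [hk] at this

/-- On a set of injectivity elements fixing the third coordinate lie in the stabiliser part. -/
theorem Loc.mem_range_of_fix {U : Finset (Fin n)} (hU : L.Inj U) (hUT : U ⊆ T) (hwU : C.w ∈ U)
    (h5 : U.card ≤ 5) {m : P} (hm : m ∈ L.LT U) (hfix : mat (ρ m) *ᵥ cv C.w = cv C.w) :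
    m ∈ (L.sec hu h3 hI).range := by
  have hsub : U.erase C.w ⊆ T.erase C.w := Finset.erase_subset_erase _ hUT
  have h4 : (U.erase C.w).card ≤ 4 := by rw [Finset.card_erase_of_mem hwU]; omega
  have hmem : ρ m ∈ sub (U.erase C.w) := mem_sub_erase (L.ρ_LT hm) hfix
  refine ⟨⟨_, sub_mono hsub hmem⟩, ?_⟩
  rw [L.sec_κ hu h3 hI hsub h4 _ hmem]
  exact hU.ext (L.mem_LT (Finset.erase_subset _ _) h4 _) hm (L.proj _ h4 _)

include hw in
/-- Local elements away from the plane lie in the glued set. -/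
theorem Loc.kappa_mem_D {c d : Fin n} (hc : c ∈ C.rest T) (hd : d ∈ C.rest T) (hcd : c ≠ d)
    (h : ↥(sub (q := q) (F := F) ({c, d, C.w} : Finset (Fin n)))) :
    L.κ {c, d, C.w} h ∈ Dset C T (L.sec hu h3 hI) (L.κ C.P3) := by
  obtain ⟨hcT, hca, hcb, hcw⟩ := Fw.rest_facts hc
  obtain ⟨hdT, hda, hdb, hdw⟩ := Fw.rest_facts hd
  have hne : ∀ i : Fin n, (cv i : Vn n F) ≠ 0 := fun i => by simp [cv]
  obtain ⟨n1, hn1, hn1c⟩ := exists_su_move hu (S := {C.a, c}) (v := cv c) (v' := cv C.a)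
    (supp_cv (by simp)) (supp_cv (by simp)) (hne _) (hne _) (by simp [hB_cv_cv])
    (Or.inr ⟨by rw [Finset.card_pair hca.symm], by simp [hB_cv_cv]⟩)
  obtain ⟨n2, hn2, hn2d⟩ := exists_su_move hu (S := {C.b, d}) (v := cv d) (v' := cv C.b)
    (supp_cv (by simp)) (supp_cv (by simp)) (hne _) (hne _) (by simp [hB_cv_cv])
    (Or.inr ⟨by rw [Finset.card_pair hdb.symm], by simp [hB_cv_cv]⟩)
  -- first move `c` to `a`
  set h1 := n1⁻¹ * (h : Su n F q) * n1 with hh1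
  set U1 : Finset (Fin n) := {C.a, c, d, C.w}
  have s1 : ({C.a, c} : Finset (Fin n)) ⊆ U1 := fun l hl => by
    simp only [U1, Finset.mem_insert, Finset.mem_singleton] at hl ⊢; tauto
  have s1' : ({c, d, C.w} : Finset (Fin n)) ⊆ U1 := fun l hl => by
    simp only [U1, Finset.mem_insert, Finset.mem_singleton] at hl ⊢; tauto
  have hm1 : h1 ∈ sub ({C.a, d, C.w} : Finset (Fin n)) := by
    refine sub_mono ?_ (mem_sub_erase (i := c) (mul_mem (mul_mem (inv_mem (sub_mono s1 hn1))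
      (sub_mono s1' h.2)) (sub_mono s1 hn1)) ?_)
    · intro l hl
      simp only [U1, Finset.mem_erase, Finset.mem_insert, Finset.mem_singleton] at hl ⊢
      tauto
    · rw [mat_mul_mulVec, mat_mul_mulVec, hn1c, h.2 C.a (by simp [hca.symm, hda.symm, C.haw]),
        ← hn1c, mat_inv_mulVec]
  have s1'' : ({C.a, d, C.w} : Finset (Fin n)) ⊆ U1 := fun l hl => by
    simp only [U1, Finset.mem_insert, Finset.mem_singleton] at hl ⊢; tauto
  have e1 : L.κ {c, d, C.w} h =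
      L.κ {C.a, c} ⟨n1, hn1⟩ * L.κ {C.a, d, C.w} ⟨h1, hm1⟩ * (L.κ {C.a, c} ⟨n1, hn1⟩)⁻¹ := by
    rw [← L.mono _ _ s1 Finset.card_le_four, ← L.mono _ _ s1' Finset.card_le_four,
      ← L.mono _ _ s1'' Finset.card_le_four, ← map_inv, ← map_mul, ← map_mul]
    congr 1
    refine Subtype.ext ?_
    show (h : Su n F q) = n1 * h1 * n1⁻¹
    rw [hh1]; group
  -- then `d` to `b`
  set h2 := n2⁻¹ * h1 * n2 with hh2
  set U2 : Finset (Fin n) := {C.b, d, C.a, C.w}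
  have s2 : ({C.b, d} : Finset (Fin n)) ⊆ U2 := fun l hl => by
    simp only [U2, Finset.mem_insert, Finset.mem_singleton] at hl ⊢; tauto
  have s2' : ({C.a, d, C.w} : Finset (Fin n)) ⊆ U2 := fun l hl => by
    simp only [U2, Finset.mem_insert, Finset.mem_singleton] at hl ⊢; tauto
  have hm2 : h2 ∈ sub C.P3 := by
    refine sub_mono ?_ (mem_sub_erase (i := d) (mul_mem (mul_mem (inv_mem (sub_mono s2 hn2))
      (sub_mono s2' hm1)) (sub_mono s2 hn2)) ?_)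
    · intro l hl
      simp only [U2, Fw.P3, Finset.mem_erase, Finset.mem_insert, Finset.mem_singleton] at hl ⊢
      tauto
    · rw [mat_mul_mulVec, mat_mul_mulVec, hn2d, hm1 C.b (by simp [C.hab.symm, hdb.symm, C.hbw]),
        ← hn2d, mat_inv_mulVec]
  have s2'' : C.P3 ⊆ U2 := fun l hl => by
    simp only [U2, Fw.P3, Finset.mem_insert, Finset.mem_singleton] at hl ⊢; tauto
  have e2 : L.κ {C.a, d, C.w} ⟨h1, hm1⟩ =
      L.κ {C.b, d} ⟨n2, hn2⟩ * L.κ C.P3 ⟨h2, hm2⟩ * (L.κ {C.b, d} ⟨n2, hn2⟩)⁻¹ := by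
    rw [← L.mono _ _ s2 Finset.card_le_four, ← L.mono _ _ s2' Finset.card_le_four,
      ← L.mono _ _ s2'' Finset.card_le_four, ← map_inv, ← map_mul, ← map_mul]
    congr 1
    refine Subtype.ext ?_
    show h1 = n2 * h2 * n2⁻¹
    rw [hh2]; group
  have a1 : ({C.a, c} : Finset (Fin n)) ⊆ T.erase C.w := fun l hl => by
    simp only [Finset.mem_insert, Finset.mem_singleton] at hl
    rcases hl with rfl | rfl
    exacts [Finset.mem_erase.2 ⟨C.haw, ha⟩, Finset.mem_erase.2 ⟨hcw, hcT⟩]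
  have a2 : ({C.b, d} : Finset (Fin n)) ⊆ T.erase C.w := fun l hl => by
    simp only [Finset.mem_insert, Finset.mem_singleton] at hl
    rcases hl with rfl | rfl
    exacts [Finset.mem_erase.2 ⟨C.hbw, hb⟩, Finset.mem_erase.2 ⟨hdw, hdT⟩]
  set k1 : ↥(sub (q := q) (F := F) (T.erase C.w)) := ⟨n1, sub_mono a1 hn1⟩
  set k2 : ↥(sub (q := q) (F := F) (T.erase C.w)) := ⟨n2, sub_mono a2 hn2⟩
  have j1 : L.sec hu h3 hI k1 = L.κ {C.a, c} ⟨n1, hn1⟩ :=
    L.sec_κ hu h3 hI a1 (Finset.card_le_two.trans (by norm_num)) k1 hn1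
  have j2 : L.sec hu h3 hI k2 = L.κ {C.b, d} ⟨n2, hn2⟩ :=
    L.sec_κ hu h3 hI a2 (Finset.card_le_two.trans (by norm_num)) k2 hn2
  refine ⟨k1 * k2, ⟨h2, hm2⟩, (k1 * k2)⁻¹, ?_⟩
  rw [map_inv, map_mul, j1, j2, e1, e2]
  group

include hw in
/-- The slide inside a set of injectivity. -/
theorem Loc.slide_local {U : Finset (Fin n)} (hU : L.Inj U) (hUT : U ⊆ T) (hP3 : C.P3 ⊆ U)
    (h5 : U.card ≤ 5) {x : Vn n F} {z : F} (hx : Supp (C.rest T) x) {i0 : Fin n} (hi0 : i0 ∈ U)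
    (hi0r : i0 ∈ C.rest T) (hx0 : x i0 ≠ 0) {c d : Fin n} (hc : c ∈ C.rest T) (hd : d ∈ C.rest T)
    (hcd : c ≠ d) (h : ↥(sub (q := q) (F := F) ({c, d, C.w} : Finset (Fin n))))
    (hg : L.κ {c, d, C.w} h ∈ L.LT U) (hhw : mat (h : Su n F q) *ᵥ cv C.w = x + z • cv C.w) :
    L.SlideAt hu C T (L.sec hu h3 hI) x z := by
  have hwU : C.w ∈ U := hP3 C.w_mem3
  refine L.slide_finish hu ha hb hI h3 hx (L.LT U)
    (fun m hm => L.mem_range_of_fix hu ha hb hI h3 hU hUT hwU h5 hm)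
    (L.kappa_mem_D hu ha hb hw hI h3 hc hd hcd h) (fun m hm => mul_mem (mul_mem (inv_mem hg) hm) hg)
    (by rw [L.proj _ (Finset.card_le_three.trans (by norm_num)), hhw]) hi0r hx0
    (fun _ _ _ hm => L.mem_LT ?_ (Finset.card_le_three.trans (by norm_num)) _)
    (fun t _ _ _ _ => L.mem_LT hP3 (by rw [card_three C]; norm_num) t)
  intro l hl
  simp only [Finset.mem_insert, Finset.mem_singleton] at hl
  rcases hl with rfl | rfl | rfl
  exacts [hP3 C.a_mem3, hP3 C.b_mem3, hi0]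

end

end Cfsg.Agent.SUShort
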