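import Cfsg.Agent.SUShort.Local

/-!
# One more coordinate
-/

set_option autoImplicit false

namespace Cfsg.Agent.SUShort

open Matrix Classical.Herm Cfsg.Agent.AutPSU

variable {n q : ℕ} {F : Type*} [Field F] [Fintype F] {σ : F →+* F} (hu : UCtx σ q)
variable {P : Type*} [Group P] {ρ : P →* Su n F q} (L : Loc ρ)

theorem card_three (C : Fw n σ) : C.P3.card = 3 := by
  rw [Fw.P3, Finset.card_insert_of_notMem (by simp [C.hab, C.haw]), Finset.card_pair C.hbw]

include hu

/-- The slide condition for one more coordinate. -/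
def Loc.Slide (L : Loc ρ) (C : Fw n σ) (T : Finset (Fin n))
    (j : ↥(sub (q := q) (F := F) (T.erase C.w)) →* P) : Prop :=
  ∀ (x : Vn n F) (z : F), Supp (C.rest T) x → x ≠ 0 → hB n σ x x + z * σ z = 1 →
    ∀ (t : ↥(sub (q := q) (F := F) C.P3)) (α b : F), IsE σ C.e (α • cv C.w) b →
      (t : Su n F q) = eS hu C.e (α • cv C.w) b →
      ∃ (a : ↥(sub (q := q) (F := F) (T.erase C.w))) (s : ↥(sub (q := q) (F := F) C.P3)),
        mat ((a : Su n F q) * (s : Su n F q)) *ᵥ cv C.w = x + z • cv C.w ∧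
        L.κ C.P3 t * (j a * L.κ C.P3 s) ∈ Dset C T j (L.κ C.P3)

/-- Every local section lies in the group of the stabiliser part and the local part. -/
theorem Loc.range_le_of_plane {C : Fw n σ} {T : Finset (Fin n)} (ha : C.a ∈ T) (hb : C.b ∈ T)
    (hw : C.w ∈ T) (h3 : 3 ≤ (T.erase C.w).card) (hI : L.Inj (T.erase C.w)) {S : Finset (Fin n)}
    (hS : S ⊆ T) (h4 : S.card ≤ 4) (g : ↥(sub (q := q) (F := F) S)) :
    L.κ S g ∈ (L.sec hu h3 hI).range ⊔ (L.κ C.P3).range := by
  set Q := (L.sec hu h3 hI).range ⊔ (L.κ C.P3).range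
  have hA : ∀ V : Finset (Fin n), V ⊆ T.erase C.w → V.card ≤ 4 → ∀ g, L.κ V g ∈ Q := by
    intro V hV hV4 g
    refine Subgroup.mem_sup_left ⟨Subgroup.inclusion (sub_mono hV) g, ?_⟩
    exact L.sec_κ hu h3 hI hV hV4 _ g.2
  have down : ∀ U V : Finset (Fin n), V ⊆ U → U.card ≤ 4 → (∀ g, L.κ U g ∈ Q) → ∀ g, L.κ V g ∈ Q :=
    fun U V h hU hQ g => L.mono V U h hU g ▸ hQ _
  have hP : ∀ V : Finset (Fin n), V ⊆ C.P3 → ∀ g, L.κ V g ∈ Q := fun V h =>
    down C.P3 V h (by rw [card_three C]; norm_num) fun g => Subgroup.mem_sup_right ⟨g, rfl⟩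
  have step : ∀ (U : Finset (Fin n)) (p r : Fin n), p ∈ U → r ∈ U → p ≠ r → 3 ≤ U.card → U.card ≤ 4 →
      (∀ l ∈ U, l ≠ p → l ≠ r → ∀ g, L.κ {p, r, l} g ∈ Q) → ∀ g, L.κ U g ∈ Q := by
    intro U p r hp hr hpr hU3 hU4 htri g
    obtain ⟨g0, hg0, e⟩ := sub_le_of_triples hu hpr U hp hr hU3
      ((Q.comap (L.κ U)).map (sub (q := q) (F := F) U).subtype)
      (fun l hl hlp hlr g' hg' => by
        have hsub : ({p, r, l} : Finset (Fin n)) ⊆ U := by
          intro k hk
          simp only [Finset.mem_insert, Finset.mem_singleton] at hk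
          rcases hk with rfl | rfl | rfl <;> assumption
        refine ⟨Subgroup.inclusion (sub_mono hsub) ⟨g', hg'⟩, ?_, rfl⟩
        rw [SetLike.mem_coe, Subgroup.mem_comap, L.mono _ _ hsub hU4]
        exact htri l hl hlp hlr _) g.2
    rw [show g = g0 from Subtype.ext e.symm]
    exact hg0
  have st1 : ∀ i ∈ T, i ∉ C.P3 → ∀ g, L.κ {C.a, C.b, i, C.w} g ∈ Q := by
    intro i hiT hi
    simp only [Fw.P3, Finset.mem_insert, Finset.mem_singleton, not_or] at hi
    refine step _ C.a C.b (by simp) (by simp) C.hab ?_ Finset.card_le_four ?_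
    · rw [← card_three C]
      refine Finset.card_le_card fun l hl => ?_
      simp only [Fw.P3, Finset.mem_insert, Finset.mem_singleton] at hl ⊢
      tauto
    intro l hl hla hlb
    simp only [Finset.mem_insert, Finset.mem_singleton] at hl
    rcases hl with rfl | rfl | rfl | rfl
    · exact absurd rfl hla
    · exact absurd rfl hlb
    · refine hA _ (fun k hk => ?_) (Finset.card_le_three.trans (by norm_num))
      simp only [Finset.mem_insert, Finset.mem_singleton] at hk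
      rcases hk with rfl | rfl | rfl
      exacts [Finset.mem_erase.2 ⟨C.haw, ha⟩, Finset.mem_erase.2 ⟨C.hbw, hb⟩,
        Finset.mem_erase.2 ⟨hi.2.2, hiT⟩]
    · exact hP _ subset_rfl
  have st2 : ∀ i ∈ T, ∀ k ∈ T, i ≠ C.b → i ≠ C.w → k ≠ C.b → k ≠ C.w →
      ∀ g, L.κ {C.b, C.w, i, k} g ∈ Q := by
    intro i hi k hk hib hiw hkb hkw
    refine step _ C.b C.w (by simp) (by simp) C.hbw ?_ Finset.card_le_four ?_
    · refine le_trans ?_ (Finset.card_le_card (s := {C.b, C.w, i}) fun l hl => ?_)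
      · rw [Finset.card_insert_of_notMem (by simp [C.hbw, hib.symm]), Finset.card_pair hiw.symm]
      · simp only [Finset.mem_insert, Finset.mem_singleton] at hl ⊢
        tauto
    intro l hl hlb hlw
    have hlT : l ∈ T := by
      simp only [Finset.mem_insert, Finset.mem_singleton] at hl
      rcases hl with rfl | rfl | rfl | rfl <;> assumption
    by_cases hla : l = C.a
    · refine hP _ fun m hm => ?_
      subst hla
      simp only [Fw.P3, Finset.mem_insert, Finset.mem_singleton] at hm ⊢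
      tauto
    · refine down _ _ (fun m hm => ?_) Finset.card_le_four
        (st1 l hlT (by simp [Fw.P3, hla, hlb, hlw]))
      simp only [Finset.mem_insert, Finset.mem_singleton] at hm ⊢
      tauto
  have small : ∀ V : Finset (Fin n), V ⊆ T → C.w ∈ V → V.card ≤ 3 → ∀ g, L.κ V g ∈ Q := by
    intro V hV hwV hV3
    obtain ⟨i, hi, k, hk, hVs⟩ : ∃ i ∈ (T.erase C.w).erase C.b, ∃ k ∈ (T.erase C.w).erase C.b,
        V ⊆ {C.b, C.w, i, k} := by
      have hX : ∀ l ∈ (V.erase C.w).erase C.b, l ∈ (T.erase C.w).erase C.b := fun l hl => by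
        simp only [Finset.mem_erase] at hl ⊢
        exact ⟨hl.1, hl.2.1, hV hl.2.2⟩
      have hX2 : ((V.erase C.w).erase C.b).card ≤ 2 := by
        have h1 := Finset.card_erase_of_mem hwV
        have h2 := Finset.card_le_card (Finset.erase_subset C.b (V.erase C.w))
        omega
      have hA' : C.a ∈ (T.erase C.w).erase C.b :=
        Finset.mem_erase.2 ⟨C.hab, Finset.mem_erase.2 ⟨C.haw, ha⟩⟩
      have cover : ∀ i k : Fin n, (V.erase C.w).erase C.b ⊆ {i, k} → V ⊆ {C.b, C.w, i, k} :=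
        fun i k h l hl => by
          have := @h l
          simp only [Finset.mem_erase, Finset.mem_insert, Finset.mem_singleton] at this ⊢
          tauto
      interval_cases hc : ((V.erase C.w).erase C.b).card
      · exact ⟨_, hA', _, hA', cover _ _ (by rw [Finset.card_eq_zero.1 hc]; simp)⟩
      · obtain ⟨i, hi⟩ := Finset.card_eq_one.1 hc
        exact ⟨i, hX i (by simp [hi]), _, hA', cover _ _ (by rw [hi]; simp)⟩
      · obtain ⟨i, k, -, hik⟩ := Finset.card_eq_two.1 hc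
        exact ⟨i, hX i (by simp [hik]), k, hX k (by simp [hik]), cover _ _ hik.le⟩
    simp only [Finset.mem_erase] at hi hk
    exact down _ _ hVs Finset.card_le_four (st2 i hi.2.2 k hk.2.2 hi.1 hi.2.1 hk.1 hk.2.1)
  by_cases hwS : C.w ∈ S
  · by_cases hS3 : S.card ≤ 3
    · exact small S hS hwS hS3 g
    · obtain ⟨i, hi⟩ : (S.erase C.w).Nonempty := by
        rw [← Finset.card_pos, Finset.card_erase_of_mem hwS]; omega
      obtain ⟨hiw, hiS⟩ := Finset.mem_erase.1 hi
      refine step S C.w i hwS hiS hiw.symm (by omega) h4 (fun l hl _ _ => ?_) g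
      refine small _ (fun m hm => hS ?_) (by simp) Finset.card_le_three
      simp only [Finset.mem_insert, Finset.mem_singleton] at hm
      rcases hm with rfl | rfl | rfl <;> assumption
  · exact hA S (fun l hl => Finset.mem_erase.2 ⟨fun h => hwS (h ▸ hl), hS hl⟩) h4 g

/-- An element fixing the lines of the pair acts on the local section as by conjugation. -/
theorem Loc.twist_sec {C : Fw n σ} {T : Finset (Fin n)} (ha : C.a ∈ T) (hb : C.b ∈ T) (hw : C.w ∈ T)
    (h5 : 5 ≤ T.card) (hI : L.Inj (T.erase C.w)) (h3 : 3 ≤ (T.erase C.w).card) :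
    ∀ (k : ↥(sub (q := q) (F := F) (T.erase C.w))) (l μ : F),
      mat (k : Su n F q) *ᵥ C.e = l • C.e → mat (k : Su n F q) *ᵥ C.f = μ • C.f →
      ∀ (t t' : ↥(sub (q := q) (F := F) C.P3)),
        (k : Su n F q) * t * (k : Su n F q)⁻¹ = t' →
          L.sec hu h3 hI k * L.κ C.P3 t * (L.sec hu h3 hI k)⁻¹ = L.κ C.P3 t' := by
  have hP := C.hp hu
  have hc3 : C.P3.card ≤ 4 := by rw [card_three C]; norm_num
  have hP3T : C.P3 ⊆ T := fun i hi => by
    simp only [Fw.P3, Finset.mem_insert, Finset.mem_singleton] at hi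
    rcases hi with rfl | rfl | rfl <;> assumption
  have hP2T : C.P2 ⊆ T.erase C.w := fun i hi => by
    simp only [Fw.P2, Finset.mem_insert, Finset.mem_singleton] at hi
    rcases hi with rfl | rfl
    exacts [Finset.mem_erase.2 ⟨C.haw, ha⟩, Finset.mem_erase.2 ⟨C.hbw, hb⟩]
  have hc2 : C.P2.card ≤ 4 := by rw [Fw.P2, Finset.card_pair C.hab]; norm_num
  set j := L.sec hu h3 hI with hj
  set ψ := L.κ C.P3 with hψ
  have hρj : ∀ a, ρ (j a) = a := fun a => (L.sec_spec hu h3 hI a).2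
  have hρψ : ∀ t, ρ (ψ t) = t := fun t => L.proj _ hc3 t
  -- the four coordinates through the plane and one more
  have hfour : ∀ i ∈ C.rest T, ∃ S : Finset (Fin n), S = {C.a, C.b, i, C.w} ∧ S.card ≤ 4 ∧ S ⊆ T ∧
      C.P3 ⊆ S ∧ ({C.a, C.b, i} : Finset (Fin n)) ⊆ T.erase C.w := by
    intro i hi
    obtain ⟨hiT, hi3⟩ := Finset.mem_sdiff.1 hi
    refine ⟨_, rfl, Finset.card_le_four, ?_, ?_, ?_⟩
    · intro l hl
      simp only [Finset.mem_insert, Finset.mem_singleton] at hl
      rcases hl with rfl | rfl | rfl | rfl <;> assumption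
    · intro l hl
      simp only [Fw.P3, Finset.mem_insert, Finset.mem_singleton] at hl ⊢
      tauto
    · intro l hl
      simp only [Finset.mem_insert, Finset.mem_singleton] at hl
      simp only [Fw.P3, Finset.mem_insert, Finset.mem_singleton, not_or] at hi3
      rcases hl with rfl | rfl | rfl
      exacts [Finset.mem_erase.2 ⟨C.haw, ha⟩, Finset.mem_erase.2 ⟨C.hbw, hb⟩,
        Finset.mem_erase.2 ⟨hi3.2.2, hiT⟩]
  have hκψ : ∀ (S : Finset (Fin n)) (h : C.P3 ⊆ S), S.card ≤ 4 → ∀ t,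
      L.κ S (Subgroup.inclusion (sub_mono h) t) = ψ t := fun S h h4 t => L.mono _ S h h4 t
  have hκj : ∀ (S : Finset (Fin n)), S.card ≤ 4 → ∀ (a : ↥(sub (q := q) (F := F) (T.erase C.w)))
      (U : Finset (Fin n)), U ⊆ S → U ⊆ T.erase C.w → ∀ (hU : (a : Su n F q) ∈ sub U)
      (hS : (a : Su n F q) ∈ sub S), L.κ S ⟨a, hS⟩ = j a := fun S h4 a U hUS hUT hU hS =>
    ((L.sec_κ hu h3 hI hUT ((Finset.card_le_card hUS).trans h4) a hU).trans
      (L.mono U S hUS h4 ⟨a, hU⟩).symm).symm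
  intro k l μ he hf t t' htt
  obtain ⟨c, hc⟩ : (C.rest T).Nonempty := by
    rw [← Finset.card_pos, Fw.rest, Finset.card_sdiff_of_subset hP3T, card_three C]; omega
  obtain ⟨S, rfl, hS4, hST, hS3, hSA⟩ := hfour c hc
  obtain ⟨hcT, hc3'⟩ := Finset.mem_sdiff.1 hc
  simp only [Fw.P3, Finset.mem_insert, Finset.mem_singleton, not_or] at hc3'
  have hl : l ≠ 0 := fun h0 => mat_mulVec_ne_zero (k : Su n F q) hP.e_ne (by rw [he, h0, zero_smul])
  have hμ : μ = (σ l)⁻¹ := by
    have h1 := hB_mat hu (k : Su n F q) C.e C.f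
    simp only [he, hf, hP.ef, map_smulₛₗ, LinearMap.smul_apply, smul_eq_mul, RingHom.id_apply] at h1
    exact eq_inv_of_mul_eq_one_right (by linear_combination h1)
  obtain ⟨g1, hg1e, hg1f, hg1W, hg1d⟩ := hP.exists_dil hu hl
  have hzz : (l * (σ l)⁻¹)⁻¹ * σ (l * (σ l)⁻¹)⁻¹ = 1 := by
    have := (map_ne_zero σ).2 hl
    rw [map_inv₀, map_mul, map_inv₀, hu.invol]; field_simp
  obtain ⟨g2, -, hg2f, hg2d⟩ := exists_refl hu (b := (cv c : Vn n F))
    (by rw [hB_cv_cv, if_pos rfl]) hzz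
  obtain ⟨k0, hk0⟩ := exists_su_of_gu hu (g2 * g1) (by
    show (gmat g2.1 * gmat g1.1).det = 1
    rw [Matrix.det_mul, hg1d, hg2d, inv_mul_cancel₀
      (mul_ne_zero hl (inv_ne_zero ((map_ne_zero σ).2 hl)))])
  have hk0v : ∀ x, mat k0 *ᵥ x = gmat g2.1 *ᵥ (gmat g1.1 *ᵥ x) := fun x => by
    rw [hk0, Matrix.mulVec_mulVec]; rfl
  have hec : hB n σ (cv c) C.e = 0 := by
    rw [hB_cv]; exact C.e_supp c (by simp [Fw.P2, hc3'.1, hc3'.2.1])
  have hfc : hB n σ (cv c) C.f = 0 := by
    rw [hB_cv]; exact C.f_supp c (by simp [Fw.P2, hc3'.1, hc3'.2.1])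
  have hk0e : mat k0 *ᵥ C.e = l • C.e := by
    rw [hk0v, hg1e, Matrix.mulVec_smul, hg2f _ hec]
  have hk0f : mat k0 *ᵥ C.f = μ • C.f := by
    rw [hk0v, hg1f, Matrix.mulVec_smul, hg2f _ hfc, hμ]
  have hk0S : k0 ∈ sub ({C.a, C.b, c} : Finset (Fin n)) := fun i hi => by
    simp only [Finset.mem_insert, Finset.mem_singleton, not_or] at hi
    rw [hk0v, hg1W _ ((C.inW_iff hu _).2
      ⟨Pi.single_eq_of_ne (Ne.symm hi.1) _, Pi.single_eq_of_ne (Ne.symm hi.2.1) _⟩),
      hg2f _ (by rw [hB_cv_cv, if_neg (Ne.symm hi.2.2)])]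
  set K0 : ↥(sub (q := q) (F := F) (T.erase C.w)) := ⟨k0, sub_mono hSA hk0S⟩
  set K1 := K0⁻¹ * k
  have hfix : ∀ v, Supp C.P2 v → mat (K1 : Su n F q) *ᵥ v = v := by
    intro v hv
    have hv' : v = hB n σ C.f v • C.e + hB n σ C.e v • C.f := by
      conv_lhs => rw [eq_proj (σ := σ) C.e C.f v]
      have hz : AutPSU.proj σ C.e C.f v = 0 := by
        funext i
        by_cases hi : i ∈ C.P2
        · obtain ⟨p1, p2⟩ := (C.inW_iff hu _).1 (hP.proj_mem hu v)
          simp only [Fw.P2, Finset.mem_insert, Finset.mem_singleton] at hi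
          rcases hi with rfl | rfl
          exacts [p1, p2]
        · simp [AutPSU.proj_apply, hv i hi, C.e_supp i hi, C.f_supp i hi]
      rw [hz, add_zero]
    have e1 : mat (K1 : Su n F q) *ᵥ C.e = C.e := by
      show mat (k0⁻¹ * (k : Su n F q)) *ᵥ _ = _
      rw [mat_mul_mulVec, he, ← hk0e, mat_inv_mulVec]
    have e2 : mat (K1 : Su n F q) *ᵥ C.f = C.f := by
      show mat (k0⁻¹ * (k : Su n F q)) *ᵥ _ = _
      rw [mat_mul_mulVec, hf, ← hk0f, mat_inv_mulVec]
    rw [hv', Matrix.mulVec_add, Matrix.mulVec_smul, Matrix.mulVec_smul, e1, e2]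
  have hK1 : (K1 : Su n F q) ∈ sub (((T.erase C.w).erase C.a).erase C.b) :=
    mem_sub_erase (mem_sub_erase K1.2 (hfix _ (supp_cv C.a_mem))) (hfix _ (supp_cv C.b_mem))
  have hdis : Disjoint (((T.erase C.w).erase C.a).erase C.b) C.P3 := by
    rw [Finset.disjoint_left]
    intro i hi h'
    simp only [Finset.mem_erase] at hi
    simp only [Fw.P3, Finset.mem_insert, Finset.mem_singleton] at h'
    tauto
  have hcm := L.sec_far hu h3 hI (U := ((T.erase C.w).erase C.a).erase C.b)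
    (fun i hi => Finset.mem_of_mem_erase (Finset.mem_of_mem_erase hi)) hdis (card_three C).le K1 hK1 t
  have e' : (K1 : Su n F q) * t * (K1 : Su n F q)⁻¹ = t := by
    have h1 := congrArg ρ hcm.eq
    rw [map_mul ρ (j K1) (ψ t), map_mul ρ (ψ t) (j K1), hρj, hρψ] at h1
    rw [h1, mul_inv_cancel_right]
  have hk : k = K0 * K1 := (mul_inv_cancel_left K0 k).symm
  have hK0 : (K0 : Su n F q) ∈ sub ({C.a, C.b, c} : Finset (Fin n)) := hk0S
  have hsub : ({C.a, C.b, c} : Finset (Fin n)) ⊆ {C.a, C.b, c, C.w} := fun i hi => by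
    simp only [Finset.mem_insert, Finset.mem_singleton] at hi ⊢; tauto
  have hcomm : j K1 * ψ t * (j K1)⁻¹ = ψ t := by rw [hcm.eq, mul_inv_cancel_right]
  rw [hk, map_mul, show j K0 * j K1 * ψ t * (j K0 * j K1)⁻¹ =
    j K0 * (j K1 * ψ t * (j K1)⁻¹) * (j K0)⁻¹ by group, hcomm,
    ← hκj _ hS4 K0 _ hsub hSA hK0 (sub_mono hsub hK0), ← hκψ _ hS3 hS4, ← hκψ _ hS3 hS4,
    ← map_inv, ← map_mul, ← map_mul]
  congr 1
  refine Subtype.ext ?_
  show (K0 : Su n F q) * t * (K0 : Su n F q)⁻¹ = t'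
  rw [← htt, hk, Subgroup.coe_mul, show (K0 : Su n F q) * K1 * t * ((K0 : Su n F q) * K1)⁻¹ =
    (K0 : Su n F q) * ((K1 : Su n F q) * t * (K1 : Su n F q)⁻¹) * (K0 : Su n F q)⁻¹ by group, e']

theorem Loc.inj_step {C : Fw n σ} {T : Finset (Fin n)} (ha : C.a ∈ T) (hb : C.b ∈ T) (hw : C.w ∈ T)
    (h5 : 5 ≤ T.card) (hI : L.Inj (T.erase C.w)) (h3 : 3 ≤ (T.erase C.w).card)
    (hsl : L.Slide hu C T (L.sec hu h3 hI)) : L.Inj T := by
  have hP := C.hp hu
  have hc3 : C.P3.card ≤ 4 := by rw [card_three C]; norm_num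
  have hP3T : C.P3 ⊆ T := fun i hi => by
    simp only [Fw.P3, Finset.mem_insert, Finset.mem_singleton] at hi
    rcases hi with rfl | rfl | rfl <;> assumption
  have hP2T : C.P2 ⊆ T.erase C.w := fun i hi => by
    simp only [Fw.P2, Finset.mem_insert, Finset.mem_singleton] at hi
    rcases hi with rfl | rfl
    exacts [Finset.mem_erase.2 ⟨C.haw, ha⟩, Finset.mem_erase.2 ⟨C.hbw, hb⟩]
  have hc2 : C.P2.card ≤ 4 := by rw [Fw.P2, Finset.card_pair C.hab]; norm_num
  set j := L.sec hu h3 hI with hj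
  set ψ := L.κ C.P3 with hψ
  have hρj : ∀ a, ρ (j a) = a := fun a => (L.sec_spec hu h3 hI a).2
  have hρψ : ∀ t, ρ (ψ t) = t := fun t => L.proj _ hc3 t
  -- the four coordinates through the plane and one more
  have hfour : ∀ i ∈ C.rest T, ∃ S : Finset (Fin n), S = {C.a, C.b, i, C.w} ∧ S.card ≤ 4 ∧ S ⊆ T ∧
      C.P3 ⊆ S ∧ ({C.a, C.b, i} : Finset (Fin n)) ⊆ T.erase C.w := by
    intro i hi
    obtain ⟨hiT, hi3⟩ := Finset.mem_sdiff.1 hi
    refine ⟨_, rfl, Finset.card_le_four, ?_, ?_, ?_⟩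
    · intro l hl
      simp only [Finset.mem_insert, Finset.mem_singleton] at hl
      rcases hl with rfl | rfl | rfl | rfl <;> assumption
    · intro l hl
      simp only [Fw.P3, Finset.mem_insert, Finset.mem_singleton] at hl ⊢
      tauto
    · intro l hl
      simp only [Finset.mem_insert, Finset.mem_singleton] at hl
      simp only [Fw.P3, Finset.mem_insert, Finset.mem_singleton, not_or] at hi3
      rcases hl with rfl | rfl | rfl
      exacts [Finset.mem_erase.2 ⟨C.haw, ha⟩, Finset.mem_erase.2 ⟨C.hbw, hb⟩,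
        Finset.mem_erase.2 ⟨hi3.2.2, hiT⟩]
  have hκψ : ∀ (S : Finset (Fin n)) (h : C.P3 ⊆ S), S.card ≤ 4 → ∀ t,
      L.κ S (Subgroup.inclusion (sub_mono h) t) = ψ t := fun S h h4 t => L.mono _ S h h4 t
  have hκj : ∀ (S : Finset (Fin n)), S.card ≤ 4 → ∀ (a : ↥(sub (q := q) (F := F) (T.erase C.w)))
      (U : Finset (Fin n)), U ⊆ S → U ⊆ T.erase C.w → ∀ (hU : (a : Su n F q) ∈ sub U)
      (hS : (a : Su n F q) ∈ sub S), L.κ S ⟨a, hS⟩ = j a := fun S h4 a U hUS hUT hU hS =>
    ((L.sec_κ hu h3 hI hUT ((Finset.card_le_card hUS).trans h4) a hU).trans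
      (L.mono U S hUS h4 ⟨a, hU⟩).symm).symm
  have agree : ∀ (a : ↥(sub (q := q) (F := F) (T.erase C.w))) (t : ↥(sub (q := q) (F := F) C.P3)),
      (a : Su n F q) = t → j a = ψ t := by
    intro a t e
    have hmem : (a : Su n F q) ∈ sub C.P2 :=
      sub_mono (fun i hi => by
        simp only [Fw.P3, Finset.mem_erase, Finset.mem_insert, Finset.mem_singleton] at hi
        simp only [Fw.P2, Finset.mem_insert, Finset.mem_singleton]; tauto)
        (mem_sub_erase (T := C.P3) (i := C.w) (e ▸ t.2) (fix_of_mem_erase a.2))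
    rw [← hκj C.P3 hc3 a C.P2 C.P2_sub hP2T hmem (e ▸ t.2)]
    exact congrArg ψ (Subtype.ext e)
  -- the conjugation conditions
  have twist := L.twist_sec hu ha hb hw h5 hI h3
  have tor : ∀ (t : ↥(sub (q := q) (F := F) C.P3)) (z : F),
      mat (t : Su n F q) *ᵥ cv C.w = z • cv C.w →
      ∀ (a a' : ↥(sub (q := q) (F := F) (T.erase C.w))), (t : Su n F q) * a * (t : Su n F q)⁻¹ = a' →
        ψ t * j a * (ψ t)⁻¹ = j a' := by
    intro t z hz a a' e
    have hz0 : z ≠ 0 := fun h0 => mat_mulVec_ne_zero (t : Su n F q)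
      (v := (cv C.w : Vn n F)) (by simp [cv]) (by rw [hz, h0, zero_smul])
    let S : Subgroup (Su n F q) :=
      (((L.LT (T.erase C.w)).map (MulAut.conj (ψ t)).toMonoidHom ⊓ L.LT (T.erase C.w)).comap
        (MulAut.conj (ψ t)).toMonoidHom ⊓ L.LT (T.erase C.w)).map ρ
    have hle : sub (T.erase C.w) ≤ S := by
      refine sub_le_of_triples hu C.hab _ (hP2T C.a_mem) (hP2T C.b_mem) h3 S fun i hi hia hib g hg => ?_
      have hiw : i ≠ C.w := (Finset.mem_erase.1 hi).1
      obtain ⟨U, rfl, hU4, hUT, hU3, hUA⟩ := hfour i (Finset.mem_sdiff.2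
        ⟨Finset.mem_of_mem_erase hi, by simp [Fw.P3, hia, hib, hiw]⟩)
      have hsub : ({C.a, C.b, i} : Finset (Fin n)) ⊆ {C.a, C.b, i, C.w} := fun l hl => by
        simp only [Finset.mem_insert, Finset.mem_singleton] at hl ⊢; tauto
      refine ⟨L.κ _ ⟨g, hg⟩, ⟨⟨⟨_, L.mem_LT hUA (Finset.card_le_three.trans (by norm_num)) _, rfl⟩, ?_⟩,
        L.mem_LT hUA (Finset.card_le_three.trans (by norm_num)) _⟩,
        L.proj _ (Finset.card_le_three.trans (by norm_num)) _⟩
      show MulAut.conj (ψ t) (L.κ _ ⟨g, hg⟩) ∈ _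
      rw [MulAut.conj_apply, ← L.mono _ _ hsub hU4, ← hκψ _ hU3 hU4, ← map_inv, ← map_mul, ← map_mul]
      have hm : (sub_mono hU3 t.2 : (t : Su n F q) ∈ sub _) = sub_mono hU3 t.2 := rfl
      have hfix : (t : Su n F q) * g * (t : Su n F q)⁻¹ ∈ sub ({C.a, C.b, i} : Finset (Fin n)) := by
        refine sub_mono ?_ (mem_sub_erase (i := C.w)
          (mul_mem (mul_mem (sub_mono hU3 t.2) (sub_mono hsub hg)) (inv_mem (sub_mono hU3 t.2))) ?_)
        · intro l hl
          simp only [Finset.mem_erase, Finset.mem_insert, Finset.mem_singleton] at hl ⊢; tauto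
        · have hi' : mat (t : Su n F q)⁻¹ *ᵥ cv C.w = z⁻¹ • cv C.w := by
            calc mat (t : Su n F q)⁻¹ *ᵥ cv C.w
                = z⁻¹ • (mat (t : Su n F q)⁻¹ *ᵥ (mat (t : Su n F q) *ᵥ cv C.w)) := by
                  rw [hz, Matrix.mulVec_smul, smul_smul, inv_mul_cancel₀ hz0, one_smul]
              _ = _ := by rw [mat_inv_mulVec]
          rw [mat_mul_mulVec, mat_mul_mulVec, hi', Matrix.mulVec_smul,
            hg C.w (by simp [C.haw.symm, C.hbw.symm, Ne.symm hiw]), Matrix.mulVec_smul, hz, smul_smul,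
            inv_mul_cancel₀ hz0, one_smul]
      have e2 := L.mono _ _ hsub hU4 ⟨_, hfix⟩
      rw [show (Subgroup.inclusion (sub_mono hU3) t * Subgroup.inclusion (sub_mono hsub) ⟨g, hg⟩ *
        (Subgroup.inclusion (sub_mono hU3) t)⁻¹) = Subgroup.inclusion (sub_mono hsub) ⟨_, hfix⟩
        from Subtype.ext rfl, e2]
      exact L.mem_LT hUA (Finset.card_le_three.trans (by norm_num)) _
    obtain ⟨x, ⟨⟨-, hx'⟩, hx⟩, hxe⟩ := hle a.2
    have ex : x = j a := (L.sec_eq hu h3 hI hx hxe).symm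
    rw [← ex]
    refine (L.sec_eq hu h3 hI hx' ?_).symm
    show ρ (ψ t * x * (ψ t)⁻¹) = a'
    rw [map_mul, map_mul, map_inv, hρψ, hxe, e]
  have rad : ∀ (a : ↥(sub (q := q) (F := F) (T.erase C.w))) (t : ↥(sub (q := q) (F := F) C.P3))
      (y : Vn n F) (d α b : F), Supp (C.rest T) y → IsE σ C.e y d → IsE σ C.e (α • cv C.w) b →
      (a : Su n F q) = eS hu C.e y d → (t : Su n F q) = eS hu C.e (α • cv C.w) b →
        Commute (j a) (ψ t) := by
    intro a t y d α b hy hE hS hae hte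
    have hwW : InW σ C.e C.f (cv C.w) :=
      (C.inW_iff hu _).2 ⟨Pi.single_eq_of_ne C.haw _, Pi.single_eq_of_ne C.hbw _⟩
    have hA : ∀ {y' : Vn n F} {d' : F}, Supp (C.rest T) y' → IsE σ C.e y' d' →
        eS hu C.e y' d' ∈ sub (T.erase C.w) := fun hy' hE' =>
      eS_mem_sub hu hE' (C.e_supp.mono hP2T) (hy'.mono fun k hk => by
        obtain ⟨h1, h2⟩ := Finset.mem_sdiff.1 hk
        exact Finset.mem_erase.2 ⟨fun h' => h2 (h' ▸ C.w_mem3), h1⟩)
    suffices key : ∀ (R : Finset (Fin n)), R ⊆ C.rest T → ∀ (y' : Vn n F) (d' : F), Supp R y' →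
        ∀ (hE' : IsE σ C.e y' d') (hm : eS hu C.e y' d' ∈ sub (T.erase C.w)),
          Commute (j ⟨_, hm⟩) (ψ t) by
      have := key _ subset_rfl y d hy hE (hA hy hE)
      rwa [show (⟨_, hA hy hE⟩ : ↥(sub (q := q) (F := F) (T.erase C.w))) = a from Subtype.ext hae.symm]
        at this
    have single : ∀ i ∈ C.rest T, ∀ (c d' : F) (hE' : IsE σ C.e (c • cv i) d')
        (hm : eS hu C.e (c • cv i) d' ∈ sub (T.erase C.w)), Commute (j ⟨_, hm⟩) (ψ t) := by
      intro i hi c d' hE' hm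
      obtain ⟨U, rfl, hU4, hUT, hU3, hUA⟩ := hfour i hi
      obtain ⟨-, hi3⟩ := Finset.mem_sdiff.1 hi
      have hsub : ({C.a, C.b, i} : Finset (Fin n)) ⊆ {C.a, C.b, i, C.w} := fun l hl => by
        simp only [Finset.mem_insert, Finset.mem_singleton] at hl ⊢; tauto
      have hU : eS hu C.e (c • cv i) d' ∈ sub ({C.a, C.b, i} : Finset (Fin n)) :=
        eS_mem_sub hu hE' (C.e_supp.mono fun l hl => by
          simp only [Fw.P2, Finset.mem_insert, Finset.mem_singleton] at hl ⊢; tauto)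
          ((supp_cv (by simp)).smul c)
      rw [← hκj _ hU4 ⟨_, hm⟩ _ hsub hUA hU (sub_mono hsub hU), ← hκψ _ hU3 hU4]
      refine Commute.map (Subtype.ext ?_) _
      show eS hu C.e (c • cv i) d' * (t : Su n F q) = (t : Su n F q) * eS hu C.e (c • cv i) d'
      have hiw : i ≠ C.w := fun h' => hi3 (h' ▸ C.w_mem3)
      rw [hte, eS_mul hu hE' hS, eS_mul hu hS hE', add_comm (c • cv i)]
      congr 1
      simp [hB_cv_cv, hiw, hiw.symm]
      ring
    have centre : ∀ (c : F) (hE' : IsE σ C.e 0 c) (hm : eS hu C.e 0 c ∈ sub (T.erase C.w)),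
        Commute (j ⟨_, hm⟩) (ψ t) := by
      intro c hE' hm
      obtain ⟨i, hi⟩ : (C.rest T).Nonempty := by
        rw [← Finset.card_pos, Fw.rest, Finset.card_sdiff_of_subset hP3T, card_three C]; omega
      have e0 : ((0 : F) • cv i : Vn n F) = 0 := zero_smul _ _
      have := single i hi 0 c (by rwa [e0]) (by rwa [e0])
      simpa only [e0] using this
    intro R
    induction R using Finset.induction_on with
    | empty =>
      intro _ y' d' hy' hE' hm
      obtain rfl : y' = 0 := funext fun i => hy' i (Finset.notMem_empty i)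
      exact centre d' hE' hm
    | insert i R hiR ih =>
      intro hR y' d' hy' hE' hm
      have hi : i ∈ C.rest T := hR (Finset.mem_insert_self i R)
      have hR' : R ⊆ C.rest T := fun l hl => hR (Finset.mem_insert_of_mem hl)
      set y1 : Vn n F := y' i • cv i with hy1def
      set y2 : Vn n F := y' - y1 with hy2def
      have hy2 : Supp R y2 := fun l hl => by
        by_cases hli : l = i
        · subst hli; simp [y2, y1]
        · simp [y2, y1, hli, hy' l (by simp [hli, hl])]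
      have inW : ∀ {y0 : Vn n F}, Supp (C.rest T) y0 → InW σ C.e C.f y0 := fun h0 =>
        (C.inW_iff hu _).2 ⟨h0 _ fun h' => (Finset.mem_sdiff.1 h').2 C.a_mem3,
          h0 _ fun h' => (Finset.mem_sdiff.1 h').2 C.b_mem3⟩
      obtain ⟨d1, hd1⟩ := exists_d hu y1
      have hE1 := hP.isE hu (inW ((supp_cv hi).smul _)) hd1
      obtain ⟨d2, hd2⟩ := exists_d hu y2
      have hE2 := hP.isE hu (inW (hy2.mono hR')) hd2
      have hE12 := hE1.mul hu hE2
      have hy12 : y1 + y2 = y' := by simp [y2]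
      have hE0 : IsE σ C.e 0 (d' - (d1 + d2 - hB n σ y1 y2)) := by
        refine ⟨hE'.ee, by simp, ?_⟩
        have h1 := hE'.tr
        have h2 := hE12.tr
        rw [hy12] at h2
        simp only [map_zero, neg_zero, map_sub, map_add] at h2 ⊢
        linear_combination h1 - h2
      have m1 := hA ((supp_cv hi).smul _) hE1
      have m2 := hA (hy2.mono hR') hE2
      have m0 := hA (y' := 0) (fun _ _ => rfl) hE0
      have e : (⟨eS hu C.e y' d', hm⟩ : ↥(sub (q := q) (F := F) (T.erase C.w))) =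
          ⟨_, m1⟩ * ⟨_, m2⟩ * ⟨_, m0⟩ := by
        refine Subtype.ext ?_
        show eS hu C.e y' d' = eS hu C.e y1 d1 * eS hu C.e y2 d2 * eS hu C.e 0 _
        rw [eS_mul hu hE1 hE2, eS_mul hu hE12 hE0, hy12, add_zero, map_zero]
        congr 1
        ring
      rw [e, map_mul, map_mul]
      exact ((single i hi _ _ hE1 m1).mul_left (ih hR' y2 d2 hy2 hE2 m2)).mul_left (centre _ hE0 m0)
  have anis : ∀ (a : ↥(sub (q := q) (F := F) (T.erase C.w))) (t : ↥(sub (q := q) (F := F) C.P3)),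
      (a : Su n F q) ∈ sub (T.erase C.a) → (t : Su n F q) ∈ sub {C.a, C.w} →
        Commute (j a) (ψ t) := by
    intro a t haa htaw
    have hU : (a : Su n F q) ∈ sub ((T.erase C.w).erase C.a) := fun i hi => by
      by_cases hiw : i = C.w
      · subst hiw; exact fix_of_mem_erase a.2
      · exact haa i fun h' => hi (by simp only [Finset.mem_erase] at h' ⊢; exact ⟨h'.1, hiw, h'.2⟩)
    have hsub : ({C.a, C.w} : Finset (Fin n)) ⊆ C.P3 := fun l hl => by
      simp only [Fw.P3, Finset.mem_insert, Finset.mem_singleton] at hl ⊢; tauto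
    have hd : Disjoint ((T.erase C.w).erase C.a) {C.a, C.w} := by
      rw [Finset.disjoint_left]
      intro i hi h'
      simp only [Finset.mem_erase] at hi
      simp only [Finset.mem_insert, Finset.mem_singleton] at h'
      tauto
    have := L.sec_far hu h3 hI (Finset.erase_subset _ _) hd
      (Finset.card_le_two.trans (by norm_num)) a hU ⟨t, htaw⟩
    rwa [← L.mono _ _ hsub hc3] at this
  -- the generated group
  set Q := j.range ⊔ ψ.range
  have hQ : L.LT T ≤ Q := by
    refine (Subgroup.closure_le _).2 ?_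
    rintro _ ⟨S, g, hS, h4, rfl⟩
    exact L.range_le_of_plane hu ha hb hw h3 hI hS h4 g
  let j' : ↥(sub (q := q) (F := F) (T.erase C.w)) →* Q :=
    j.codRestrict Q fun a => Subgroup.mem_sup_left ⟨a, rfl⟩
  let ψ' : ↥(sub (q := q) (F := F) C.P3) →* Q :=
    ψ.codRestrict Q fun t => Subgroup.mem_sup_right ⟨t, rfl⟩
  have hD : ∀ x : Q, (x : P) ∈ Dset C T j ψ → x ∈ Dset C T j' ψ' := by
    rintro x ⟨a, s, a', e⟩
    exact ⟨a, s, a', Subtype.ext e⟩
  have H : Hyp hu C T (ρ.comp Q.subtype) j' ψ' :=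
    { hj := hρj
      hψ := hρψ
      agree := fun a t e => Subtype.ext (agree a t e)
      gen := by
        apply Subgroup.map_injective Q.subtype_injective
        rw [Subgroup.map_sup, ← MonoidHom.range_comp, ← MonoidHom.range_comp,
          ← MonoidHom.range_eq_map, Subgroup.range_subtype]
        rfl
      twist := fun k l μ he hf t t' e => Subtype.ext (twist k l μ he hf t t' e)
      tor := fun t z hz a a' e => Subtype.ext (tor t z hz a a' e)
      rad := fun a t y d α b h1 h2 h3' h4 h5' => Subtype.ext (rad a t y d α b h1 h2 h3' h4 h5').eq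
      anis := fun a t h1 h2 => Subtype.ext (anis a t h1 h2).eq
      slide := fun x z h1 h2 h3' t α b h4 h5' => by
        obtain ⟨a, s, e, hm⟩ := hsl x z h1 h2 h3' t α b h4 h5'
        exact ⟨a, s, e, hD _ hm⟩ }
  intro x hx e
  exact congrArg Subtype.val (H.injective hu ha hb hw (a₁ := ⟨x, hQ hx⟩) (a₂ := 1)
    (by simpa using e))

end Cfsg.Agent.SUShort
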